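import Mathlib

/-!
# The arithmetic excluding a semidihedral Sylow 2-subgroup with cyclic odd Sylow subgroups
-/

set_option autoImplicit false

namespace Cfsg.Agent.CycSD

/-- The relation between the degrees of the height zero characters, cleared of denominators. -/
theorem degree_relation {F1 F2 Q : ℤ} (h1 : F1 ≠ 0) (h2 : F2 ≠ 0) (h3 : 1 + F1 - F2 ≠ 0) (hne : F1 ≠ F2)
    (h : (1 : ℚ) + (Q : ℚ) / F1 = (Q : ℚ) / F2 + 1 / ((1 + F1 - F2 : ℤ) : ℚ)) :
    (-F1 - Q) * (F2 - Q) = Q * (Q - 1) := by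
  have h1' : (F1 : ℚ) ≠ 0 := Int.cast_ne_zero.2 h1
  have h2' : (F2 : ℚ) ≠ 0 := Int.cast_ne_zero.2 h2
  have h3' : ((1 + F1 - F2 : ℤ) : ℚ) ≠ 0 := Int.cast_ne_zero.2 h3
  field_simp at h
  have e : (F1 * F2 + Q * F2 - Q * F1) * (1 + F1 - F2) = F1 * F2 := by
    apply Int.cast_injective (α := ℚ)
    push_cast at h ⊢
    linear_combination h
  have e' : (F1 - F2) * ((-F1 - Q) * (F2 - Q) - Q * (Q - 1)) = 0 := by linear_combination (-1 : ℤ) * e
  rcases mul_eq_zero.1 e' with e'' | e''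
  · exact absurd (sub_eq_zero.1 e'') hne
  · exact sub_eq_zero.1 e''

/-- A prime dividing the order once divides both degrees. -/
theorem prime_dvd_both {p : ℕ} [hp : Fact p.Prime] {P F1 F2 : ℤ} (hP : P.natAbs = p)
    (h1 : ¬ (P ^ 2 ∣ F1)) (h2 : ¬ (P ^ 2 ∣ F2))
    (h : (-F1 - P ^ 2) * (F2 - P ^ 2) = P ^ 2 * (P ^ 2 - 1)) :
    ∃ A B : ℤ, F1 = -(P * A) ∧ F2 = P * B ∧ (A - P) * (B - P) = P ^ 2 - 1 := by
  have hpr : Prime P := Int.prime_iff_natAbs_prime.2 (hP ▸ hp.1)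
  have hmul : P ^ 2 ∣ F1 * F2 := ⟨F1 - F2 + 1, by linear_combination (-1 : ℤ) * h⟩
  have hF1 : P ∣ F1 := by
    by_contra hn
    exact h2 (((hpr.coprime_iff_not_dvd.2 hn).pow_left).dvd_of_dvd_mul_left hmul)
  have hF2 : P ∣ F2 := by
    by_contra hn
    exact h1 (((hpr.coprime_iff_not_dvd.2 hn).pow_left).dvd_of_dvd_mul_right hmul)
  obtain ⟨a, rfl⟩ := hF1
  obtain ⟨B, rfl⟩ := hF2
  refine ⟨-a, B, by ring, rfl, ?_⟩
  refine mul_left_cancel₀ (pow_ne_zero 2 hpr.ne_zero) ?_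
  linear_combination h

/-- Only `P = -5` survives the divisibility. -/
theorem only_five {P A : ℤ} (hP4 : P % 4 = 3) (hP : 5 ≤ P.natAbs) (hA : A ≠ 1)
    (hdiv : 2 * (P + 1) ∣ A - 1) (hd : A - P ∣ P ^ 2 - 1) : P = -5 ∧ A = -7 := by
  obtain ⟨j, hj⟩ := hdiv
  obtain ⟨m, hm⟩ : ∃ m, P = 4 * m + 3 := ⟨P / 4, by omega⟩
  subst hm
  set u : ℤ := 2 * m + 1 with hu
  set e : ℤ := 2 * (u + 1) * j - u with he
  have hd2 : A - (4 * m + 3) = 2 * e := by
    rw [he, hu]; linear_combination hj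
  have hj0 : j ≠ 0 := fun h => hA (by rw [h, mul_zero] at hj; linarith)
  have hcop4 : IsCoprime e 4 := by
    have : e % 2 = 1 := by
      rw [he, Int.sub_emod, mul_assoc, Int.mul_emod_right]; omega
    obtain ⟨r, hr⟩ : ∃ r, e = 2 * r + 1 := ⟨e / 2, by omega⟩
    rw [hr, show (4 : ℤ) = 2 ^ 2 by norm_num]
    exact (show IsCoprime (2 * r + 1) (2 : ℤ) from ⟨1, -r, by ring⟩).pow_right
  have hcopm : IsCoprime e (m + 1) := ⟨1, 2 - 4 * j, by rw [he, hu]; ring⟩
  have heu : e ∣ u := by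
    refine hcopm.dvd_of_dvd_mul_right (hcop4.dvd_of_dvd_mul_right ?_)
    rw [hd2] at hd
    refine (mul_dvd_mul_iff_left (two_ne_zero' ℤ)).1 (hd.trans (dvd_of_eq ?_))
    rw [hu]; ring
  have hu0 : u ≠ 0 := by omega
  obtain ⟨i, hi⟩ := heu
  have hle : |e| ≤ |u| := by
    refine Int.le_of_dvd (abs_pos.2 hu0) ((abs_dvd _ _).2 ((dvd_abs _ _).2 ⟨i, hi⟩))
  rcases lt_trichotomy u 0 with hneg | hz | hpos
  · rw [abs_of_neg hneg, abs_le] at hle
    have h1 : j = 1 := by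
      rcases lt_trichotomy j 1 with h | h | h
      · exfalso
        have hj1 : j ≤ -1 := by omega
        have : 2 * (u + 1) * j ≥ 2 * (u + 1) * (-1) := mul_le_mul_of_nonpos_left hj1 (by omega)
        rw [he] at hle; omega
      · exact h
      · exfalso
        have : 2 * (u + 1) * j ≤ 2 * (u + 1) * 2 := mul_le_mul_of_nonpos_left h (by omega)
        rw [he] at hle; omega
    subst h1
    have he2 : e = u + 2 := by rw [he]; ring
    rw [he2] at hi
    have hdvd : u + 2 ∣ 2 := ⟨1 - i, by linear_combination (-1 : ℤ) * hi⟩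
    have := Int.natAbs_le_of_dvd_ne_zero hdvd two_ne_zero
    have hu5 : u ≤ -3 := by omega
    have hu3 : u = -3 := by omega
    constructor
    · omega
    · have : A - (4 * m + 3) = 2 * (u + 2) := by rw [hd2, he2]
      omega
  · exact absurd hz hu0
  · rw [abs_of_pos hpos, abs_le] at hle
    exfalso
    rcases lt_or_gt_of_ne hj0 with h | h
    · have : 2 * (u + 1) * j ≤ 2 * (u + 1) * (-1) := mul_le_mul_of_nonneg_left (by omega) (by omega)
      rw [he] at hle; omega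
    · have : 2 * (u + 1) * 1 ≤ 2 * (u + 1) * j := mul_le_mul_of_nonneg_left (by omega) (by omega)
      rw [he] at hle; omega

/-- The 2-part of the order identity. -/
theorem two_part {P A : ℤ} {g c o t N n : ℕ} (hP4 : P % 4 = 3) (hAo : A % 2 = 1) (hA : A ≠ 1)
    (hn : 4 ≤ n) (hN : N = 2 ^ (n - 1)) (hg : g ≠ 0) (hc : c ≠ 0) (ho : ¬ 2 ∣ o) (ht : ¬ 2 ∣ t)
    (hg2 : g.factorization 2 = n) (hc2 : c.factorization 2 = n)
    (heq : (g : ℤ) * (t : ℤ) ^ 2 * 4 * P ^ 2 * (A - 1) ^ 2 =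
      (c : ℤ) ^ 2 * N * o * (P * A) * (P * A - 1)) :
    (2 : ℤ) ^ (n - 1) ∣ A - 1 := by
  have hP0 : P ≠ 0 := by omega
  have h2 : padicValInt 2 ((g : ℤ) * (t : ℤ) ^ 2 * 4 * P ^ 2 * (A - 1) ^ 2) =
      n + 2 + 2 * padicValInt 2 (A - 1) := by
    haveI := Fact.mk Nat.prime_two
    have ht0 : (t : ℤ) ≠ 0 := by rintro h; exact ht (by rw [Int.natCast_eq_zero.1 h]; exact dvd_zero _)
    have e4 : padicValInt 2 4 = 2 := by
      rw [show (4 : ℤ) = ((2 ^ 2 : ℕ) : ℤ) by norm_num, padicValInt.of_nat, padicValNat.prime_pow]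
    have eP : padicValInt 2 P = 0 := padicValInt.eq_zero_of_not_dvd (by omega)
    have eg : padicValInt 2 (g : ℤ) = n := by
      rw [padicValInt.of_nat, ← Nat.factorization_def _ Nat.prime_two, hg2]
    have et : padicValInt 2 (t : ℤ) = 0 := padicValInt.eq_zero_of_not_dvd (by exact_mod_cast ht)
    simp only [pow_two]
    rw [padicValInt.mul, padicValInt.mul, padicValInt.mul, padicValInt.mul, padicValInt.mul, padicValInt.mul,
      padicValInt.mul, eg, et, e4, eP]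
    · ring
    all_goals simp [hg, Int.natCast_eq_zero.not.1 ht0, hP0, sub_ne_zero.2 hA]
  have hA1 : (2 : ℤ) ∣ A - 1 := by omega
  have hA0 : A ≠ 0 := by omega
  have hPA : (P * A - 1) ≠ 0 := by
    intro h
    have hu : P ∣ 1 := ⟨A, by linarith⟩
    rcases Int.isUnit_iff.1 (isUnit_of_dvd_one hu) with hu' | hu'
    · omega
    · rw [hu'] at h; exact hA (by
        have : A = -1 := by omega
        subst this
        rw [hu'] at heq
        norm_num at heq
        omega)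
  have h3 : padicValInt 2 ((c : ℤ) ^ 2 * N * o * (P * A) * (P * A - 1)) =
      2 * n + (n - 1) + padicValInt 2 (P * A - 1) := by
    haveI := Fact.mk Nat.prime_two
    have ho0 : (o : ℤ) ≠ 0 := by rintro h; exact ho (by rw [Int.natCast_eq_zero.1 h]; exact dvd_zero _)
    have ec : padicValInt 2 (c : ℤ) = n := by
      rw [padicValInt.of_nat, ← Nat.factorization_def _ Nat.prime_two, hc2]
    have eN : padicValInt 2 (N : ℤ) = n - 1 := by rw [hN, padicValInt.of_nat, padicValNat.prime_pow]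
    have eo : padicValInt 2 (o : ℤ) = 0 := padicValInt.eq_zero_of_not_dvd (by exact_mod_cast ho)
    have ePA : padicValInt 2 (P * A) = 0 := padicValInt.eq_zero_of_not_dvd (fun h => by
      rcases Int.prime_two.dvd_mul.1 h with h | h <;> omega)
    have hN0 : (N : ℤ) ≠ 0 := by rw [hN]; positivity
    simp only [pow_two]
    rw [padicValInt.mul, padicValInt.mul, padicValInt.mul, padicValInt.mul, padicValInt.mul, ec, eN, eo, ePA]
    · ring
    all_goals simp [hc, Int.natCast_eq_zero.not.1 hN0, Int.natCast_eq_zero.not.1 ho0, hP0, hA0, hPA]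
  rw [heq, h3] at h2
  haveI := Fact.mk Nat.prime_two
  refine (padicValInt_dvd_iff (p := 2) (n - 1) (A - 1)).2 (Or.inr ?_)
  by_contra hlt
  have hw : 2 ≤ padicValInt 2 (A - 1) ∨ padicValInt 2 (A - 1) ≤ 1 := by omega
  rcases hw with hw | hw
  · have h4 : (4 : ℤ) ∣ A - 1 := by
      have := (padicValInt_dvd_iff (p := 2) 2 (A - 1)).2 (Or.inr hw)
      norm_num at this; exact this
    obtain ⟨r, hr⟩ := h4
    obtain ⟨q, hq⟩ : ∃ q, P = 4 * q + 3 := ⟨P / 4, by omega⟩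
    have hPA1 : padicValInt 2 (P * A - 1) = 1 := by
      have e : P * A - 1 = 2 * (1 + 2 * (q + r * P)) := by
        rw [show A = 4 * r + 1 by linarith, hq]; ring
      rw [e, padicValInt.mul two_ne_zero (by omega), show padicValInt 2 (2 : ℤ) = 1 from padicValInt.self one_lt_two,
        padicValInt.eq_zero_of_not_dvd (by omega : ¬ ((2 : ℕ) : ℤ) ∣ _)]
    omega
  · omega

/-- The part at a prime of the large torus. -/
theorem torus_part {P A : ℤ} {g c o t N r : ℕ} (hr : r.Prime) (hr2 : r ≠ 2) (hrP : (r : ℤ) ∣ P + 1)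
    (hA : A ≠ 1) (hg : g ≠ 0) (hc : c ≠ 0) (ho0 : o ≠ 0) (hN : ¬ r ∣ N) (hN0 : N ≠ 0) (ht : ¬ r ∣ t) {v : ℕ}
    (hv : 0 < v) (hgv : g.factorization r = v) (hcv : c.factorization r = v) (hov : o.factorization r = v)
    (heq : (g : ℤ) * (t : ℤ) ^ 2 * 4 * P ^ 2 * (A - 1) ^ 2 =
      (c : ℤ) ^ 2 * N * o * (P * A) * (P * A - 1)) :
    (r : ℤ) ^ v ∣ A - 1 := by
  haveI := Fact.mk hr
  have hrI : Prime (r : ℤ) := Nat.prime_iff_prime_int.1 hr
  have hP : ¬ (r : ℤ) ∣ P := fun h => hrI.not_dvd_one ((dvd_add_right h).1 hrP)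
  have h4 : ¬ (r : ℤ) ∣ 4 := fun h => by
    have h2 : r ∣ 2 ^ 2 := by exact_mod_cast h
    exact hr2 ((Nat.prime_dvd_prime_iff_eq hr Nat.prime_two).1 (hr.dvd_of_dvd_pow h2))
  have ht' : ¬ (r : ℤ) ∣ (t : ℤ) := by exact_mod_cast ht
  have hN' : ¬ (r : ℤ) ∣ (N : ℤ) := by exact_mod_cast hN
  have hP0 : P ≠ 0 := fun h => hP (h ▸ dvd_zero _)
  have ht0 : (t : ℤ) ≠ 0 := fun h => ht' (h ▸ dvd_zero _)
  have lhs : padicValInt r ((g : ℤ) * (t : ℤ) ^ 2 * 4 * P ^ 2 * (A - 1) ^ 2) =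
      v + 2 * padicValInt r (A - 1) := by
    simp only [pow_two]
    rw [padicValInt.mul, padicValInt.mul, padicValInt.mul, padicValInt.mul, padicValInt.mul, padicValInt.mul,
      padicValInt.mul, padicValInt.of_nat, ← Nat.factorization_def _ hr, hgv,
      padicValInt.eq_zero_of_not_dvd ht', padicValInt.eq_zero_of_not_dvd h4, padicValInt.eq_zero_of_not_dvd hP]
    · ring
    all_goals simp [hg, Int.natCast_eq_zero.not.1 ht0, hP0, sub_ne_zero.2 hA]
  have hne : (P * A) ≠ 0 ∧ P * A - 1 ≠ 0 := by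
    have : (g : ℤ) * (t : ℤ) ^ 2 * 4 * P ^ 2 * (A - 1) ^ 2 ≠ 0 := by
      simp [hg, Int.natCast_eq_zero.not.1 ht0, hP0, sub_ne_zero.2 hA]
    rw [heq] at this
    exact ⟨fun h => this (by rw [h]; simp), fun h => this (by rw [h]; simp)⟩
  have rhs : padicValInt r ((c : ℤ) ^ 2 * N * o * (P * A) * (P * A - 1)) =
      3 * v + padicValInt r (P * A) + padicValInt r (P * A - 1) := by
    simp only [pow_two]
    rw [padicValInt.mul, padicValInt.mul, padicValInt.mul, padicValInt.mul, padicValInt.mul, padicValInt.of_nat,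
      ← Nat.factorization_def _ hr, hcv, padicValInt.eq_zero_of_not_dvd hN', padicValInt.of_nat,
      ← Nat.factorization_def _ hr, hov]
    · ring
    all_goals simp [hc, hN0, ho0, hne]
  rw [heq, rhs] at lhs
  refine (padicValInt_dvd_iff (p := r) v (A - 1)).2 (Or.inr ?_)
  omega

end Cfsg.Agent.CycSD
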