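import Mathlib
import Cfsg.Agent.Lib.ZStar.Principal
import Cfsg.Agent.Lib.ZStar.Sections
import Cfsg.Agent.Lib.Blocks.SectionNorm
import Cfsg.Agent.BlockCharsA.RegularPart

/-!
# Columns of the principal block

The column at a `p`-element whose centraliser has a normal `p`-complement, and the products of the
columns in a section.
-/

set_option autoImplicit false
set_option linter.style.haveILetI false
set_option linter.unusedSectionVars false

namespace Cfsg.Agent.CycSD

open Cfsg.Agent.Blocks Cfsg.Agent.Characters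
open scoped ComplexConjugate

universe u

variable {G : Type u} [Group G] [Finite G] {p : ℕ} {M : Ideal Cfsg.AlgInt}

/-- `g` lies in the `p`-section of `x`. -/
def InSec (p : ℕ) (x g : G) : Prop := ∃ z, IsConj x z ∧ Cfsg.IsPPart p g z

theorem inSec_iff_of_pElement (hp : p.Prime) {x g : G} (hg : ∃ k : ℕ, orderOf g = p ^ k) :
    InSec p x g ↔ IsConj x g := by
  have hgg : Cfsg.IsPPart p g g := ⟨1, mul_one g, Commute.one_right g, hg, by simp [hp.ne_one]⟩
  exact ⟨fun ⟨z, hz, hzg⟩ => ppart_unique hp hzg hgg ▸ hz, fun h => ⟨g, h, hgg⟩⟩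

theorem inSec_iff_of_ppart (hp : p.Prime) {x g z : G} (hz : Cfsg.IsPPart p g z) :
    InSec p x g ↔ IsConj x z :=
  ⟨fun ⟨_, h, h'⟩ => ppart_unique hp hz h' ▸ h, fun h => ⟨z, h, hz⟩⟩

theorem inSec_conj {x g : G} (c : G) (h : InSec p x g) : InSec p x (c * g * c⁻¹) := by
  obtain ⟨z, hz, s, hzs, hc, ho, hs⟩ := h
  refine ⟨c * z * c⁻¹, hz.trans (isConj_iff.2 ⟨c, rfl⟩), c * s * c⁻¹, ?_, ?_, ?_, ?_⟩
  · rw [← hzs]; group
  · exact hc.map (MulAut.conj c).toMonoidHom
  · rwa [BlockCharsA.RegularPart.orderOf_conj']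
  · rwa [BlockCharsA.RegularPart.orderOf_conj']

theorem card_regular_eq (hp : p.Prime) {H : Type u} [Group H] [Finite H] {N : Subgroup H} [N.Normal]
    (hN : ¬ p ∣ Nat.card N) (hidx : ∃ k : ℕ, N.index = p ^ k) :
    Nat.card {s : H // ¬ p ∣ orderOf s} = Nat.card N := by
  haveI := Fact.mk hp
  refine Nat.card_congr (Equiv.subtypeEquivRight fun s => ⟨fun hs => mem_of_regular hp hidx hs,
    fun hs h => hN (h.trans (N.orderOf_dvd_natCard hs))⟩)

/-- The column of the principal block at a `p`-element whose centraliser has a normal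
`p`-complement. -/
theorem column_pnilpotent [Fintype (Cfsg.IrrCharacter G)] (hM : Cfsg.IsPModular p M) {x : G}
    (hx : ∃ k : ℕ, orderOf x = p ^ k) {N : Subgroup (Subgroup.centralizer ({x} : Set G))} [N.Normal]
    (hN : ¬ p ∣ Nat.card N) (hidx : ∃ k : ℕ, N.index = p ^ k) (g : G)
    [DecidablePred fun χ : Cfsg.IrrCharacter G => χ ∈ Cfsg.principalBlock M G]
    [Decidable (InSec p x g)] :
    ∑ χ ∈ Finset.univ.filter (fun χ : Cfsg.IrrCharacter G => χ ∈ Cfsg.principalBlock M G),
        (χ : G → ℂ) g * conj ((χ : G → ℂ) x) =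
      if InSec p x g then (N.index : ℂ) else 0 := by
  classical
  haveI := fact_prime_of_pm hM
  letI := Fintype.ofFinite G
  letI := Fintype.ofFinite (Subgroup.centralizer ({x} : Set G))
  set X := Finset.univ.filter fun z : G => IsConj x z with hX
  set F : G → ℂ := fun g => if InSec p x g then 1 else 0 with hF
  have hFc : Cfsg.IsClassFunction G F := fun a c => by
    have hiff : InSec p x (c * a * c⁻¹) ↔ InSec p x a := by
      refine ⟨fun h => ?_, inSec_conj c⟩
      simpa [mul_assoc] using inSec_conj c⁻¹ h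
    simp only [hF, hiff]
  have hXp : ∀ z ∈ X, ∃ k : ℕ, orderOf z = p ^ k := fun z hz => by
    obtain ⟨c, rfl⟩ := isConj_iff.1 (Finset.mem_filter.1 hz).2
    rwa [BlockCharsA.RegularPart.orderOf_conj']
  have hfilter : Finset.univ.filter (fun g => InSec p x g) =
      Finset.univ.filter fun g => ∃ z ∈ X, Cfsg.IsPPart p g z := by
    ext g; simp [InSec, hX]
  have hin : ∀ χ : Cfsg.IrrCharacter G, Cfsg.classInner F (χ : G → ℂ) = (Nat.card G : ℂ)⁻¹ *
      conj (∑ z ∈ X, ∑ s ∈ Finset.univ.filter (fun s => Commute z s ∧ ¬ p ∣ orderOf s),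
        (χ : G → ℂ) (z * s)) := fun χ => by
    rw [classInner_def, ← ZStar.Sections.sum_section hM.1 X hXp, ← hfilter, map_sum,
      Finset.sum_filter]
    congr 1
    exact Finset.sum_congr rfl fun g _ => by by_cases hg : InSec p x g <;> simp [hF, hg]
  have hval : ∀ χ : Cfsg.IrrCharacter G, χ ∈ Cfsg.principalBlock M G → ∀ z ∈ X,
      ∑ s ∈ Finset.univ.filter (fun s => Commute z s ∧ ¬ p ∣ orderOf s), (χ : G → ℂ) (z * s) =
        (Nat.card {s : Subgroup.centralizer ({x} : Set G) // ¬ p ∣ orderOf s} : ℂ) *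
          (χ : G → ℂ) x := by
    intro χ hχ z hz
    obtain ⟨c, rfl⟩ := isConj_iff.1 (Finset.mem_filter.1 hz).2
    rw [Nat.card_eq_fintype_card, ← Finset.card_univ, Finset.cast_card, Finset.sum_mul]
    symm
    refine Finset.sum_bij (fun s _ => c * ((s : Subgroup.centralizer ({x} : Set G)) : G) * c⁻¹)
      (fun s _ => ?_) (fun a _ b _ e => Subtype.ext (Subtype.ext
        (mul_left_cancel (mul_right_cancel e)))) (fun s hs => ?_) (fun s _ => ?_)
    · simp only [Finset.mem_filter, Finset.mem_univ, true_and,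
        BlockCharsA.RegularPart.orderOf_conj', Subgroup.orderOf_coe]
      exact ⟨(ZStar.Principal.commute_coe x s.1).map (MulAut.conj c).toMonoidHom, s.2⟩
    · obtain ⟨hs1, hs2⟩ := (Finset.mem_filter.1 hs).2
      have hs3 := hs1.map (MulAut.conj c⁻¹).toMonoidHom
      simp only [MulEquiv.toMonoidHom_eq_coe, MonoidHom.coe_coe, MulAut.conj_apply, inv_inv] at hs3
      rw [show c⁻¹ * (c * x * c⁻¹) * c = x by group] at hs3
      refine ⟨⟨⟨_, Subgroup.mem_centralizer_singleton_iff.2 hs3.eq.symm⟩, ?_⟩,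
        Finset.mem_univ _, by group⟩
      rw [Subgroup.orderOf_mk, ← BlockCharsA.RegularPart.orderOf_conj' _ c]
      rwa [show c * (c⁻¹ * s * c) * c⁻¹ = s by group]
    · rw [one_mul, show c * x * c⁻¹ * (c * ((s : Subgroup.centralizer ({x} : Set G)) : G) * c⁻¹) =
        c * (x * ((s : Subgroup.centralizer ({x} : Set G)) : G)) * c⁻¹ by group,
        irr_isClassFunction χ, ZStar.Principal.value_mul_of_mem hM hx hχ hN
          (mem_of_regular hM.1 hidx s.2)]
  have hXcard : X.card * Nat.card (Subgroup.centralizer ({x} : Set G)) = Nat.card G := by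
    rw [← card_carrier_mul_card_centralizer x]
    congr 1
    rw [Nat.card_eq_fintype_card, ← Set.toFinset_card]
    congr 1
    ext z
    simp only [hX, Finset.mem_filter, Finset.mem_univ, true_and, Set.mem_toFinset,
      ConjClasses.mem_carrier_iff_mk_eq, ConjClasses.mk_eq_mk_iff_isConj]
    exact ⟨fun e => e.symm, fun e => e.symm⟩
  have hw0 : (N.index : ℂ) ≠ 0 := Nat.cast_ne_zero.2 Subgroup.index_ne_zero_of_finite
  have hR : Nat.card {s : Subgroup.centralizer ({x} : Set G) // ¬ p ∣ orderOf s} * N.index =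
      Nat.card (Subgroup.centralizer ({x} : Set G)) := by
    rw [card_regular_eq hM.1 hN hidx, N.card_mul_index]
  have hFin : ∀ χ : Cfsg.IrrCharacter G, Cfsg.classInner F (χ : G → ℂ) =
      if χ ∈ Cfsg.principalBlock M G then conj ((χ : G → ℂ) x) / (N.index : ℂ) else 0 := by
    intro χ
    rw [hin]
    split_ifs with hχ
    · rw [Finset.sum_congr rfl (hval χ hχ), Finset.sum_const, nsmul_eq_mul, map_mul, map_mul,
        map_natCast, map_natCast, ← hXcard, ← hR]
      have hX0 : (X.card : ℂ) ≠ 0 := Nat.cast_ne_zero.2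
        (Finset.card_ne_zero.2 ⟨x, Finset.mem_filter.2 ⟨Finset.mem_univ _, IsConj.refl x⟩⟩)
      have hn0 : (Nat.card {s : Subgroup.centralizer ({x} : Set G) // ¬ p ∣ orderOf s} : ℂ) ≠ 0 := by
        refine Nat.cast_ne_zero.2 fun e => ?_
        rw [e, zero_mul] at hR
        exact Nat.card_pos.ne' hR.symm
      push_cast
      field_simp
    · rw [Finset.sum_eq_zero fun z hz => ?_, map_zero, mul_zero]
      rw [ZStar.Sections.sum_commute_eq_regSum]
      exact ZStar.Principal.regSum_shift_one hM (hXp z hz) hχ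
  have hsum := congrFun (classFun_eq_sum hFc) g
  simp only [Finset.sum_apply, Pi.smul_apply, smul_eq_mul, hFin, ite_mul, zero_mul] at hsum
  rw [← Finset.sum_filter] at hsum
  calc _ = (N.index : ℂ) * ∑ χ ∈ (Finset.univ.filter
      (fun χ : Cfsg.IrrCharacter G => χ ∈ Cfsg.principalBlock M G)),
        conj ((χ : G → ℂ) x) / (N.index : ℂ) * (χ : G → ℂ) g := by
        rw [Finset.mul_sum]
        refine Finset.sum_congr rfl fun χ _ => ?_
        field_simp
    _ = _ := by
      rw [← hsum, hF]
      dsimp only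
      split_ifs <;> simp

open scoped Classical in
/-- The products of two columns of the principal block in the section of `z`. -/
theorem gram_section (hM : Cfsg.IsPModular p M) {z : G} (hz : ∃ k : ℕ, orderOf z = p ^ k)
    [Fintype (Cfsg.IrrCharacter G)]
    [Fintype (Cfsg.IrrCharacter (Subgroup.centralizer ({z} : Set G)))]
    {c d : Subgroup.centralizer ({z} : Set G)} (hc : ¬ p ∣ orderOf c) (hd : ¬ p ∣ orderOf d) :
    ∑ ζ ∈ Finset.univ.filter (fun ζ : Cfsg.IrrCharacter G => ζ ∈ Cfsg.principalBlock M G),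
        (ζ : G → ℂ) (z * (c : G)) * conj ((ζ : G → ℂ) (z * (d : G))) =
      ∑ χ ∈ Finset.univ.filter (fun χ : Cfsg.IrrCharacter (Subgroup.centralizer ({z} : Set G)) =>
          χ ∈ Cfsg.principalBlock M (Subgroup.centralizer ({z} : Set G))),
        (χ : Subgroup.centralizer ({z} : Set G) → ℂ) c *
          conj ((χ : Subgroup.centralizer ({z} : Set G) → ℂ) d) := by
  letI := Fintype.ofFinite G
  letI := Fintype.ofFinite (Subgroup.centralizer ({z} : Set G))
  set b₀ := Cfsg.principalBlock M (Subgroup.centralizer ({z} : Set G))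
  have hb₀B : Cfsg.IsPBlock M b₀ := isPBlock_principal M _
  have hL : ∀ (y : Subgroup.centralizer ({z} : Set G)), ¬ p ∣ orderOf y → ∀ ζ : Cfsg.IrrCharacter G,
      ∑ e : Subgroup.centralizer ({z} : Set G), blockKernelAt b₀ y e * (ζ : G → ℂ) (z * (e : G)) =
        if ζ ∈ Cfsg.principalBlock M G then (ζ : G → ℂ) (z * (y : G)) else 0 := by
    intro y hy ζ
    rw [← blockPart_eq_kernel]
    split
    · next h => exact (value_eq_principal_part hM hz h hy).symm
    · next h => exact ZStar.Principal.blockPart_shift_eq_zero hM hz ζ hb₀B (Or.inr ⟨h, rfl⟩) hy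
  have hR : ∀ (y : Subgroup.centralizer ({z} : Set G))
      (η : Cfsg.IrrCharacter (Subgroup.centralizer ({z} : Set G))),
      ∑ e : Subgroup.centralizer ({z} : Set G),
        blockKernelAt b₀ y e * (η : Subgroup.centralizer ({z} : Set G) → ℂ) e =
        if η ∈ b₀ then (η : Subgroup.centralizer ({z} : Set G) → ℂ) y else 0 := fun y η => by
    rw [← blockPart_eq_kernel, blockPart_irr]
  have key : ∑ ζ : Cfsg.IrrCharacter G,
      (∑ e : Subgroup.centralizer ({z} : Set G), blockKernelAt b₀ c e * (ζ : G → ℂ) (z * (e : G))) *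
        conj (∑ f : Subgroup.centralizer ({z} : Set G),
          blockKernelAt b₀ d f * (ζ : G → ℂ) (z * (f : G))) =
      ∑ η : Cfsg.IrrCharacter (Subgroup.centralizer ({z} : Set G)),
      (∑ e : Subgroup.centralizer ({z} : Set G),
          blockKernelAt b₀ c e * (η : Subgroup.centralizer ({z} : Set G) → ℂ) e) *
        conj (∑ f : Subgroup.centralizer ({z} : Set G),
          blockKernelAt b₀ d f * (η : Subgroup.centralizer ({z} : Set G) → ℂ) f) := by
    simp only [map_sum, map_mul, Finset.sum_mul, Finset.mul_sum]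
    rw [Finset.sum_comm]
    conv_rhs => rw [Finset.sum_comm]
    refine Finset.sum_congr rfl fun e _ => ?_
    rw [Finset.sum_comm]
    conv_rhs => rw [Finset.sum_comm]
    refine Finset.sum_congr rfl fun f _ => ?_
    simp only [fun a b : ℂ => mul_mul_mul_comm (blockKernelAt b₀ c f) a (conj (blockKernelAt b₀ d e)) b,
      ← Finset.mul_sum]
    by_cases hef : p ∣ orderOf e ∨ p ∣ orderOf f
    · rcases hef with h | h
      · simp [blockKernelAt_singular hM hb₀B hd h]
      · simp [blockKernelAt_singular hM hb₀B hc h]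
    · push Not at hef
      rw [orthogonality_section hM.1 hz f e hef.2 hef.1]
  simp only [hL c hc, hL d hd, hR] at key
  simp only [apply_ite conj, map_zero, mul_ite, mul_zero, ite_mul, zero_mul, ← ite_and, and_self]
    at key
  rwa [← Finset.sum_filter, ← Finset.sum_filter] at key

end Cfsg.Agent.CycSD
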