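import Mathlib
import Cfsg.Agent.Lib.Forms.DicksonPGL.TorusStruct
import Cfsg.Agent.Lib.GL2.ClassifyGL

/-!
# The group `PGL₂(p)`

The torus of an involution of `PSL₂(p)`, the unipotent elements, and four irreducible characters of
odd degree.
-/

set_option autoImplicit false
set_option linter.unusedSectionVars false

open scoped Classical

namespace Cfsg.Agent.CycSD.XGroup

open Matrix Cfsg.Agent.Forms Cfsg.Agent.Forms.DicksonPGL Cfsg.Agent.GL2.Borel Cfsg.Agent.GL2.Principal
  Cfsg.Agent.GL2.Classes Cfsg.Agent.GL2.ClassifyGL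
open scoped MatrixGroups

variable {p : ℕ} [Fact p.Prime]

local notation "PP" => Matrix.ProjGenLinGroup (Fin 2) (ZMod p)
local notation "mk'" => Matrix.ProjGenLinGroup.mk (n := Fin 2) (R := ZMod p)
local notation "M2" => Matrix (Fin 2) (Fin 2) (ZMod p)

/-- `+1` or `-1` according to `p` modulo four. -/
def sgnP (p : ℕ) : ℤ := if p % 4 = 1 then 1 else -1

theorem sgnP_eq (p : ℕ) : sgnP p = 1 ∨ sgnP p = -1 := by
  unfold sgnP; split_ifs <;> simp

theorem two_ne_zero' (h2 : p ≠ 2) : (2 : (ZMod p)) ≠ 0 := by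
  refine Ring.two_ne_zero ?_
  rwa [ringChar.eq (ZMod p) p]

theorem card_PP : Nat.card PP = p * ((p - 1) * (p + 1)) := by
  rw [natCard_PP, ZMod.card]

theorem exists_root_iff (h2 : p ≠ 2) : (∃ l : (ZMod p), l * l = -1) ↔ p % 4 = 1 := by
  have hodd : p % 2 = 1 := ((Fact.out : p.Prime).eq_two_or_odd).resolve_left h2
  constructor
  · rintro ⟨l, hl⟩
    have : p % 4 ≠ 3 := ZMod.exists_sq_eq_neg_one_iff.1 ⟨l, hl.symm⟩
    omega
  · intro h
    obtain ⟨l, hl⟩ := (ZMod.exists_sq_eq_neg_one_iff (p := p)).2 (by omega)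
    exact ⟨l, hl.symm⟩

/-! ## The torus -/

section torus

variable (h2 : p ≠ 2) {w : SL(2, (ZMod p))} (hw : w * w = -1)

include h2 hw

theorem coe_sq : (w : M2) * (w : M2) = -1 := by
  rw [← Matrix.SpecialLinearGroup.coe_mul, hw, Matrix.SpecialLinearGroup.coe_neg,
    Matrix.SpecialLinearGroup.coe_one]

theorem nonscalar (a : (ZMod p)) : (w : M2) ≠ a • (1 : M2) := fun ha => by
  have hd := w.2
  rw [ha, Matrix.det_smul, Fintype.card_fin, Matrix.det_one, mul_one] at hd
  have hq := congrFun (congrFun (coe_sq h2 hw) 0) 0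
  rw [ha] at hq
  simp at hq
  exact two_ne_zero' h2 (by linear_combination -hd + hq)

theorem trace_eq : (w : M2).trace = 0 := by
  have h := coe_sq h2 hw
  rw [sq_eq, sub_eq_add_neg, add_eq_right, smul_eq_zero] at h
  refine h.resolve_right fun e => nonscalar h2 hw 0 ?_
  rw [e, zero_smul]

theorem semisimple : Semisimple w where
  nonscalar := nonscalar h2 hw
  disc := by
    rw [trace_eq h2 hw, zero_mul, show (4 : (ZMod p)) = 2 * 2 by norm_num]
    exact (mul_ne_zero (two_ne_zero' h2) (two_ne_zero' h2)).symm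

omit h2 hw in
/-- The involution. -/
noncomputable def zb (w : SL(2, (ZMod p))) : PP := mk' (Matrix.SpecialLinearGroup.toGL w)

theorem zb_mem : zb w ∈ torus w := self_mem_torus

theorem zb_ne_one : zb w ≠ 1 := fun h => by
  obtain ⟨c, hc⟩ := mk_eq_one_smul.1 h
  exact nonscalar h2 hw c hc

theorem zb_sq : zb w * zb w = 1 := by
  rw [zb, ← map_mul]
  exact mk_eq_one_smul.2 ⟨-1, by
    show (w : M2) * (w : M2) = _
    rw [coe_sq h2 hw, neg_one_smul]⟩

theorem zb_mem_L : zb w ∈ L (ZMod p) := ⟨KleinPSL.pi (ZMod p) w, rfl⟩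

theorem card_torus : (Nat.card (torus w) : ℤ) = p - sgnP p := by
  have hp := (Fact.out : p.Prime).two_le
  by_cases h : p % 4 = 1
  · obtain ⟨l, hl⟩ := (exists_root_iff h2).2 h
    rw [(torus_split (semisimple h2 hw) (l := l) (by rw [trace_eq h2 hw, hl]; ring)).2.1, ZMod.card,
      sgnP, if_pos h]
    omega
  · rw [(torus_nonsplit (semisimple h2 hw) fun l hl => h ((exists_root_iff h2).1 ⟨l, by
      rw [trace_eq h2 hw] at hl; linear_combination hl⟩)).2.1, ZMod.card, sgnP, if_neg h]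
    push_cast
    ring

theorem cyclic_torus : IsCyclic (torus w) := (torus_facts (semisimple h2 hw)).1

theorem out_torus {g : PP} (hg : g ∈ torusN w) (hn : g ∉ torus w) :
    g * g = 1 ∧ ∀ c ∈ torus w, g * c * g⁻¹ = c⁻¹ := by
  obtain ⟨h, hh, rfl⟩ := hg
  rcases nx_cases hh with h1 | h1
  · exact absurd ⟨h, h1, rfl⟩ hn
  · refine ⟨mul_self_scalar (semisimple h2 hw) h1, ?_⟩
    rintro _ ⟨c, hc, rfl⟩
    exact inverts (semisimple h2 hw) h1 hc

theorem inv_eq_self_of_sq {c : PP} (h : c * c = 1) : c⁻¹ = c := inv_eq_of_mul_eq_one_right h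

theorem cent_zb : Subgroup.centralizer ({zb w} : Set PP) = torusN w := by
  ext g
  rw [Subgroup.mem_centralizer_singleton_iff]
  constructor
  · intro hg
    refine mem_torusN_of_conj (semisimple h2 hw) ?_
    show g * zb w * g⁻¹ ∈ torus w
    rw [hg, mul_inv_cancel_right]
    exact zb_mem h2 hw
  · intro hg
    by_cases ht : g ∈ torus w
    · haveI := cyclic_torus h2 hw
      exact congrArg Subtype.val (mul_comm' (⟨g, ht⟩ : torus w) ⟨zb w, zb_mem h2 hw⟩)
    · have := (out_torus h2 hw hg ht).2 _ (zb_mem h2 hw)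
      rw [inv_eq_self_of_sq h2 hw (zb_sq h2 hw)] at this
      exact mul_inv_eq_iff_eq_mul.1 this
where
  mul_comm' {H : Subgroup PP} [IsCyclic H] (a b : H) : a * b = b * a :=
    (IsCyclic.commGroup (α := H)).mul_comm a b

theorem torus_comm {a b : PP} (ha : a ∈ torus w) (hb : b ∈ torus w) : a * b = b * a := by
  haveI := cyclic_torus h2 hw
  exact congrArg Subtype.val ((IsCyclic.commGroup (α := torus w)).mul_comm ⟨a, ha⟩ ⟨b, hb⟩)

theorem sq_eq_one_iff {x : PP} (hx : x ∈ torus w) : x * x = 1 ↔ x = 1 ∨ x = zb w := by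
  constructor
  · intro h
    by_contra hne
    push Not at hne
    haveI := cyclic_torus h2 hw
    haveI := Fintype.ofFinite (torus w)
    have h3 := IsCyclic.card_pow_eq_one_le (α := torus w) (n := 2) two_pos
    have hsub : ({1, ⟨x, hx⟩, ⟨zb w, zb_mem h2 hw⟩} : Finset (torus w)) ⊆
        Finset.univ.filter fun a => a ^ 2 = 1 := by
      intro a ha
      simp only [Finset.mem_insert, Finset.mem_singleton] at ha
      simp only [Finset.mem_filter, Finset.mem_univ, true_and]
      rcases ha with rfl | rfl | rfl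
      · exact one_pow 2
      · exact Subtype.ext (by rw [pow_two]; exact h)
      · exact Subtype.ext (by rw [pow_two]; exact zb_sq h2 hw)
    have hc := Finset.card_le_card hsub
    rw [Finset.card_insert_of_notMem, Finset.card_insert_of_notMem, Finset.card_singleton] at hc
    · omega
    · simp only [Finset.mem_singleton, Subtype.ext_iff]
      exact hne.2
    · simp only [Finset.mem_insert, Finset.mem_singleton, Subtype.ext_iff, OneMemClass.coe_one, not_or]
      exact ⟨Ne.symm hne.1, (zb_ne_one h2 hw).symm⟩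
  · rintro (rfl | rfl)
    · exact one_mul 1
    · exact zb_sq h2 hw

theorem cent_of_mem {x : PP} (hx : x ∈ torus w) (hx2 : x * x ≠ 1) (heven : 2 ∣ orderOf x) :
    Subgroup.centralizer ({x} : Set PP) = torus w := by
  ext g
  rw [Subgroup.mem_centralizer_singleton_iff]
  refine ⟨fun hg => ?_, fun hg => torus_comm h2 hw hg hx⟩
  have hpow : x ^ (orderOf x / 2) = zb w := by
    refine ((sq_eq_one_iff h2 hw (pow_mem hx _)).1 ?_).resolve_left ?_
    · rw [← pow_add, ← two_mul, Nat.mul_div_cancel' heven, pow_orderOf_eq_one]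
    · refine pow_ne_one_of_lt_orderOf ?_ (Nat.div_lt_self (orderOf_pos x) one_lt_two)
      have := Nat.le_of_dvd (orderOf_pos x) heven
      omega
  have hgN : g ∈ torusN w := by
    rw [← cent_zb h2 hw, Subgroup.mem_centralizer_singleton_iff, ← hpow]
    exact ((show Commute g x from hg).pow_right _).eq
  by_contra hn
  have := (out_torus h2 hw hgN hn).2 x hx
  rw [hg, mul_inv_cancel_right] at this
  exact hx2 (mul_eq_one_iff_eq_inv.2 this)

/-- Fusion in the torus. -/
theorem fusion {x y g : PP} (hx : x ∈ torus w) (hy : y ∈ torus w) (hx2 : x * x ≠ 1)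
    (heven : 2 ∣ orderOf x) (h : g * x * g⁻¹ = y) : y = x ∨ y = x⁻¹ := by
  have ho : orderOf y = orderOf x := h ▸ MulEquiv.orderOf_eq (MulAut.conj g) x
  have hy2 : y * y ≠ 1 := fun e => hx2 (by
    rw [← h, show g * x * g⁻¹ * (g * x * g⁻¹) = g * (x * x) * g⁻¹ by group] at e
    exact (MulAut.conj g).injective (e.trans (map_one (MulAut.conj g)).symm))
  have hgz : g * zb w * g⁻¹ ∈ torus w := by
    rw [← cent_of_mem h2 hw hy hy2 (ho ▸ heven), Subgroup.mem_centralizer_singleton_iff, ← h,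
      show g * zb w * g⁻¹ * (g * x * g⁻¹) = g * (zb w * x) * g⁻¹ by group,
      torus_comm h2 hw (zb_mem h2 hw) hx]
    group
  have hgN : g ∈ torusN w := mem_torusN_of_conj (semisimple h2 hw) hgz
  by_cases hgT : g ∈ torus w
  · left; rw [← h, torus_comm h2 hw hgT hx, mul_inv_cancel_right]
  · right; rw [← h, (out_torus h2 hw hgN hgT).2 x hx]

/-- An element of the torus of full two-part lies outside `PSL₂`. -/
theorem notMem_L {x : PP} (hx : x ∈ torus w)
    (ho : orderOf x = 2 ^ (Nat.card (torus w)).factorization 2) : x ∉ L (ZMod p) := by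
  intro hxL
  have h := gcd_mul_torus_inf_L (semisimple h2 hw)
  have hg : Nat.gcd 2 (Fintype.card (ZMod p) - 1) = 2 := by
    rw [ZMod.card]
    refine Nat.gcd_eq_left ?_
    have := ((Fact.out : p.Prime).eq_two_or_odd).resolve_left h2
    omega
  rw [hg] at h
  have hd : orderOf x ∣ Nat.card (torus w ⊓ L (ZMod p) : Subgroup PP) :=
    Subgroup.orderOf_dvd_natCard _ ⟨hx, hxL⟩
  rw [ho, Nat.prime_two.pow_dvd_iff_le_factorization Nat.card_pos.ne', ← h,
    Nat.factorization_mul two_ne_zero Nat.card_pos.ne', Finsupp.add_apply,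
    Nat.prime_two.factorization_self] at hd
  omega

end torus

/-! ## Unipotent elements -/

/-- The standard unipotent element. -/
noncomputable def uu : PP := mk' (mkB 1 1 1)

theorem uu_pow (i : ℕ) : (uu : PP) ^ i = mk' (mkB 1 1 (i : (ZMod p))) := by
  rw [uu, ← map_pow]
  congr 1
  induction i with
  | zero => rw [pow_zero]; refine Units.ext ?_; simp [Matrix.one_fin_two]
  | succ i ih =>
    rw [pow_succ, ih]
    refine Units.ext ?_
    ext r s
    fin_cases r <;> fin_cases s <;> simp [Matrix.mul_apply, Fin.sum_univ_two, add_comm]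

theorem mk_mkB_eq_one {x : (ZMod p)} : mk' (mkB 1 1 x) = 1 ↔ x = 0 := by
  rw [mk_eq_one_smul]
  constructor
  · rintro ⟨c, hc⟩
    have := congrFun (congrFun hc 0) 1
    simpa using this
  · rintro rfl
    exact ⟨1, by simp [Matrix.one_fin_two]⟩

theorem orderOf_uu : orderOf (uu : PP) = p := by
  refine orderOf_eq_prime ?_ ?_
  · rw [uu_pow, ZMod.natCast_self, mk_mkB_eq_one]
  · intro h
    have := uu_pow (p := p) 1
    rw [pow_one, h, eq_comm, mk_mkB_eq_one] at this
    simp at this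

theorem cent_uu (h2 : p ≠ 2) {g : PP} (hg : g * uu = uu * g) :
    g ∈ Subgroup.zpowers (uu : PP) := by
  obtain ⟨h, rfl⟩ := Matrix.ProjGenLinGroup.mk_surjective g
  have hg' : mk' (h * mkB 1 1 1 * h⁻¹ * (mkB 1 1 1)⁻¹) = 1 := by
    rw [map_mul, map_mul, map_mul, map_inv, map_inv]
    rw [uu] at hg
    rw [hg]
    group
  obtain ⟨c, hc⟩ := mk_eq_one_smul.1 hg'
  have e : (h : M2) * (mkB 1 1 1 : GL (Fin 2) (ZMod p)) = c • (((mkB 1 1 1 : GL (Fin 2) (ZMod p)) : M2) * h) := by
    have := congrArg (fun A : M2 => A * ((mkB 1 1 1 : GL (Fin 2) (ZMod p)) : M2) * (h : M2)) hc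
    simp only [smul_mul_assoc, one_mul] at this
    rw [← Units.val_mul, ← Units.val_mul, inv_mul_cancel_right, inv_mul_cancel_right] at this
    exact this
  have e00 := congrFun (congrFun e 0) 0
  have e01 := congrFun (congrFun e 0) 1
  have e10 := congrFun (congrFun e 1) 0
  have e11 := congrFun (congrFun e 1) 1
  simp [Matrix.mul_apply, Matrix.vecMul, dotProduct, Fin.sum_univ_two] at e00 e01 e10 e11
  have hdet := h.det_ne_zero
  rw [Matrix.det_fin_two] at hdet
  have h10 : (h : M2) 1 0 = 0 := by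
    by_contra hne
    have hc1 : c = 1 := mul_left_cancel₀ hne (by linear_combination -e10)
    subst hc1
    exact hne (by linear_combination -e00)
  rw [h10, mul_zero, sub_zero] at hdet
  obtain ⟨h00, h11⟩ := mul_ne_zero_iff.1 hdet
  have hc1 : c = 1 := mul_left_cancel₀ h00 (by rw [h10] at e00; linear_combination -e00)
  subst hc1
  have hd : (h : M2) 1 1 = (h : M2) 0 0 := by linear_combination -e01
  refine Subgroup.mem_zpowers_iff.2 ⟨(((h : M2) 0 1 / (h : M2) 0 0).val : ℤ), ?_⟩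
  rw [zpow_natCast, uu_pow, ZMod.natCast_zmod_val, Matrix.ProjGenLinGroup.mk_eq_mk_iff]
  refine ⟨Units.mk0 _ h00, Units.ext ?_⟩
  ext r s
  fin_cases r <;> fin_cases s <;>
    simp [Matrix.mul_apply, Fin.sum_univ_two, h10, hd]
  field_simp

theorem isConj_uu_pow {i : ℕ} (hi : ¬ p ∣ i) : IsConj (uu : PP) (uu ^ i) := by
  rw [uu_pow]
  refine (mk').map_isConj (isConj_mkB_uni 1 ?_)
  rwa [Ne, ZMod.natCast_eq_zero_iff]

theorem isConj_uu (h2 : p ≠ 2) {v : PP} (hv : orderOf v = p) : IsConj (uu : PP) v := by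
  haveI : Fact p.Prime := inferInstance
  have hp : p.Prime := Fact.out
  have hP : ∀ {v : PP}, orderOf v = p → ∃ P : Sylow p PP, (P : Subgroup PP) = Subgroup.zpowers v := by
    intro v hv
    refine ⟨Sylow.ofCard (Subgroup.zpowers v) ?_, rfl⟩
    have hpos : (p - 1) * (p + 1) ≠ 0 := by
      have := hp.two_le
      exact Nat.mul_ne_zero (by omega) (by omega)
    have hnd : ¬ p ∣ (p - 1) * (p + 1) := fun h => by
      have := hp.two_le
      rcases (hp.dvd_mul).1 h with h | h
      · exact absurd (Nat.le_of_dvd (by omega) h) (by omega)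
      · exact absurd (Nat.le_of_dvd one_pos ((Nat.dvd_add_right dvd_rfl).1 h)) (by omega)
    rw [Nat.card_zpowers, hv, card_PP, Nat.factorization_mul hp.ne_zero hpos, Finsupp.add_apply,
      hp.factorization_self, Nat.factorization_eq_zero_of_not_dvd hnd, add_zero, pow_one]
  obtain ⟨P, hPu⟩ := hP (orderOf_uu (p := p))
  obtain ⟨Q, hQ⟩ := hP hv
  obtain ⟨g, hg⟩ := MulAction.exists_smul_eq PP P Q
  have hmem : g * uu * g⁻¹ ∈ Subgroup.zpowers v := by
    rw [← hQ, ← hg]
    exact ⟨uu, by rw [hPu]; exact Subgroup.mem_zpowers _, rfl⟩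
  obtain ⟨k, hk⟩ := mem_powers_iff_mem_zpowers.2 hmem
  have ho : orderOf (g * uu * g⁻¹) = p := (MulEquiv.orderOf_eq (MulAut.conj g) uu).trans orderOf_uu
  have hk' : v ∈ Subgroup.zpowers (g * uu * g⁻¹) := by
    have he : Subgroup.zpowers (g * uu * g⁻¹) = Subgroup.zpowers v :=
      Subgroup.eq_of_le_of_card_ge (Subgroup.zpowers_le.2 hmem)
        (by rw [Nat.card_zpowers, Nat.card_zpowers, ho, hv])
    rw [he]; exact Subgroup.mem_zpowers v
  obtain ⟨i, rfl⟩ := mem_powers_iff_mem_zpowers.2 hk'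
  show IsConj (uu : PP) ((g * uu * g⁻¹) ^ i)
  rw [conj_pow]
  refine (isConj_uu_pow (i := i) fun hd => ?_).trans (isConj_iff.2 ⟨g, rfl⟩)
  have h1 : orderOf ((g * uu * g⁻¹) ^ i) = 1 := by
    rw [orderOf_eq_one_iff, ← orderOf_dvd_iff_pow_eq_one, ho]; exact hd
  rw [h1] at hv
  exact hp.ne_one hv.symm

/-! ## Four characters of odd degree -/

/-- The quadratic character with complex values. -/
noncomputable def chi2 (p : ℕ) [Fact p.Prime] : MulChar (ZMod p) ℂ :=
  (quadraticChar (ZMod p)).ringHomComp (Int.castRingHom ℂ)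

theorem chi2_sq {a : (ZMod p)} (ha : a ≠ 0) : chi2 p a * chi2 p a = 1 := by
  rcases quadraticChar_dichotomy ha with h | h <;> simp [chi2, MulChar.ringHomComp_apply, h]

theorem chi2_im (a : (ZMod p)) : (chi2 p a).im = 0 := by
  simp [chi2, MulChar.ringHomComp_apply]

theorem chi2_mk (h2 : p ≠ 2) {h : GL (Fin 2) (ZMod p)} :
    chi2 p (h : M2).det = if mk' h ∈ L (ZMod p) then 1 else -1 := by
  have h2' : ringChar (ZMod p) ≠ 2 := by rwa [ringChar.eq (ZMod p) p]
  split_ifs with hh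
  · rw [mk_mem_L] at hh
    simp [chi2, MulChar.ringHomComp_apply, (quadraticChar_one_iff_isSquare h.det_ne_zero).2 hh]
  · rw [mk_mem_L] at hh
    simp [chi2, MulChar.ringHomComp_apply,
      (quadraticChar_neg_one_iff_not_isSquare).2 hh]

theorem pind_one_im (g : GL (Fin 2) (ZMod p)) : (pind (1 : MulChar (ZMod p) ℂ) 1 g).im = 0 := by
  rw [pind_eq_sum, Complex.im_sum]
  refine Finset.sum_eq_zero fun o _ => ?_
  by_cases hm : (repG o)⁻¹ * g * repG o ∈ Cfsg.upperTriangularGL 2 (ZMod p)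
  · rw [CharTheory.IndBasic.extendByZero_of_mem _ _ hm]
    simp only [thetaG]
    generalize (((repG o)⁻¹ * g * repG o : GL (Fin 2) (ZMod p)) : M2) 0 0 = a
    generalize (((repG o)⁻¹ * g * repG o : GL (Fin 2) (ZMod p)) : M2) 1 1 = b
    rcases eq_or_ne a 0 with rfl | ha
    · simp [MulChar.map_zero]
    rcases eq_or_ne b 0 with rfl | hb
    · simp [MulChar.map_zero]
    simp [MulChar.one_apply (isUnit_iff_ne_zero.2 ha), MulChar.one_apply (isUnit_iff_ne_zero.2 hb)]
  · rw [CharTheory.IndBasic.extendByZero_of_notMem _ _ hm, Complex.zero_im]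

theorem pind_one_scalar (c : (ZMod p)ˣ) : pind (1 : MulChar (ZMod p) ℂ) 1 (mkB c c 0) = (p : ℂ) + 1 := by
  rw [pind_mkB, MulChar.one_apply_coe]
  simp
  ring

theorem center_mkB {h : GL (Fin 2) (ZMod p)} (hh : h ∈ (mk').ker) : ∃ c : (ZMod p)ˣ, h = mkB c c 0 := by
  obtain ⟨c, hc⟩ := mk_eq_one_smul.1 hh
  have hc0 : c ≠ 0 := fun e => Units.ne_zero h (by rw [hc, e, zero_smul])
  exact ⟨Units.mk0 c hc0, Units.ext (by rw [hc, coe_mkB]; simp [Matrix.one_fin_two])⟩

/-- Three nontrivial real irreducible characters of odd degree. -/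
theorem exists_four (h2 : p ≠ 2) :
    ∃ χ1 χ2 χ3 : Cfsg.IrrCharacter PP,
      ((∀ g, ((χ1 : PP → ℂ) g).im = 0) ∧ (∀ g, ((χ2 : PP → ℂ) g).im = 0) ∧
        ∀ g, ((χ3 : PP → ℂ) g).im = 0) ∧
      ((χ1 : PP → ℂ) 1 = 1 ∧ (χ2 : PP → ℂ) 1 = p ∧ (χ3 : PP → ℂ) 1 = p) ∧
      ((χ1 : PP → ℂ) uu = 1 ∧ (χ2 : PP → ℂ) uu = 0 ∧ (χ3 : PP → ℂ) uu = 0) ∧
      ∀ {w : SL(2, (ZMod p))}, w * w = -1 → ∀ x ∈ torus w, x ≠ 1 →
        (χ1 : PP → ℂ) x = (if x ∈ L (ZMod p) then 1 else -1) ∧ (χ2 : PP → ℂ) x = sgnP p ∧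
          (χ3 : PP → ℂ) x = sgnP p * (if x ∈ L (ZMod p) then 1 else -1) := by
  haveI : Finite (GL (Fin 2) (ZMod p)) := inferInstance
  have hker : ∀ h ∈ (mk').ker, lin (chi2 p) h = lin (chi2 p) 1 ∧
      stTw (1 : MulChar (ZMod p) ℂ) h = stTw (1 : MulChar (ZMod p) ℂ) 1 ∧ stTw (chi2 p) h = stTw (chi2 p) 1 := by
    intro h hh
    obtain ⟨c, rfl⟩ := center_mkB hh
    rw [lin_one_apply, stTw_one, stTw_one, lin_mkB, chi2_sq c.ne_zero]
    simp only [stTw, St, Pi.mul_apply, Pi.sub_apply, lin_mkB, pind_one_scalar, chi2_sq c.ne_zero,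
      MulChar.one_apply_coe, ZMod.card, and_self, true_and]
    norm_num
  have hsurj := Matrix.ProjGenLinGroup.mk_surjective (n := Fin 2) (R := (ZMod p))
  obtain ⟨f1, -, e1, i1⟩ := Characters.exists_deflate mk' hsurj
    (Characters.isCharacter_of_isIrr (isIrr_lin (chi2 p))) fun h hh => (hker h hh).1
  obtain ⟨f2, -, e2, i2⟩ := Characters.exists_deflate mk' hsurj
    (Characters.isCharacter_of_isIrr (isIrr_stTw (1 : MulChar (ZMod p) ℂ))) fun h hh => (hker h hh).2.1
  obtain ⟨f3, -, e3, i3⟩ := Characters.exists_deflate mk' hsurj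
    (Characters.isCharacter_of_isIrr (isIrr_stTw (chi2 p))) fun h hh => (hker h hh).2.2
  have v1 : ∀ h, f1 (mk' h) = chi2 p (h : M2).det := fun h => congrFun e1 h
  have v2 : ∀ h, f2 (mk' h) = pind (1 : MulChar (ZMod p) ℂ) 1 h - 1 := fun h => by
    have := congrFun e2 h
    simp only [Function.comp_apply, stTw, St, Pi.mul_apply, Pi.sub_apply, lin] at this
    rw [this, show ((h : M2).det) = ((Matrix.GeneralLinearGroup.det h : (ZMod p)ˣ) : (ZMod p)) from rfl,
      MulChar.one_apply_coe, mul_one]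
  have v3 : ∀ h, f3 (mk' h) = (pind (1 : MulChar (ZMod p) ℂ) 1 h - 1) * chi2 p (h : M2).det := fun h =>
    congrFun e3 h
  refine ⟨⟨f1, i1 (isIrr_lin _)⟩, ⟨f2, i2 (isIrr_stTw _)⟩, ⟨f3, i3 (isIrr_stTw _)⟩,
    ⟨?_, ?_, ?_⟩, ⟨?_, ?_, ?_⟩, ⟨?_, ?_, ?_⟩, ?_⟩
  · intro g; obtain ⟨h, rfl⟩ := hsurj g; show (f1 _).im = 0; rw [v1]; exact chi2_im _
  · intro g; obtain ⟨h, rfl⟩ := hsurj g; show (f2 _).im = 0
    rw [v2, Complex.sub_im, pind_one_im, Complex.one_im, sub_zero]
  · intro g; obtain ⟨h, rfl⟩ := hsurj g; show (f3 _).im = 0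
    rw [v3, Complex.mul_im, Complex.sub_im, pind_one_im, chi2_im, Complex.one_im]
    simp
  · show f1 1 = 1; rw [← map_one mk', v1]; simp
  · show f2 1 = p; rw [← map_one mk', v2, pind_one]; simp
  · show f3 1 = p; rw [← map_one mk', v3, pind_one]; simp
  · show f1 uu = 1; rw [uu, v1]; simp [det_fin_two_of]
  · show f2 uu = 0; rw [uu, v2, pind_mkB_unipotent _ _ _ one_ne_zero]; simp
  · show f3 uu = 0; rw [uu, v3, pind_mkB_unipotent _ _ _ one_ne_zero]; simp
  · rintro w hw _ ⟨h, hh, rfl⟩ hx1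
    show f1 _ = _ ∧ f2 _ = _ ∧ f3 _ = _
    obtain ⟨a, b, hab⟩ := commutant (semisimple h2 hw) (mem_cen.1 hh)
    have hb : b ≠ 0 := fun hb => hx1 (mk_eq_one_smul.2 ⟨a, by rw [hab, hb, zero_smul, add_zero]⟩)
    have key : pind (1 : MulChar (ZMod p) ℂ) 1 h - 1 = sgnP p := by
      by_cases hp : p % 4 = 1
      · obtain ⟨l, hl⟩ := (exists_root_iff h2).2 hp
        have hl0 : l ≠ 0 := fun e => by simp [e] at hl
        have hdet : (h : M2).det = (a + b * l) * (a - b * l) := by
          rw [hab, DicksonPGL.det_comb, trace_eq h2 hw]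
          linear_combination b * b * hl
        obtain ⟨hp0, hr0⟩ := mul_ne_zero_iff.1 (hdet ▸ h.det_ne_zero)
        have hne : Units.mk0 _ hp0 ≠ Units.mk0 _ hr0 := fun e => by
          have he : a + b * l = a - b * l := by simpa using congrArg Units.val e
          have h4 : (2 : (ZMod p)) * (b * l) = 0 := by linear_combination he
          exact mul_ne_zero (two_ne_zero' h2) (mul_ne_zero hb hl0) h4
        have hns : ¬ IsScalar (h : M2) := fun ⟨c, hc⟩ => by
          rw [hab] at hc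
          obtain ⟨-, hb0⟩ := eq_zero_of_smul_add (semisimple h2 hw) (a := a - c) (b := b)
            (by rw [sub_smul, ← hc]; abel)
          exact hb hb0
        have hns' : ¬ IsScalar ((mkB (Units.mk0 _ hp0) (Units.mk0 _ hr0) 0 : GL (Fin 2) (ZMod p)) : M2) :=
          fun hc => hne (Units.ext (((isScalar_iff _).1 hc).2.2))
        have hc : IsConj (mkB (Units.mk0 _ hp0) (Units.mk0 _ hr0) 0) h := by
          refine isConj_GL_of_not_scalar hns' hns ?_ ?_
          · rw [hab, Matrix.trace_add, Matrix.trace_smul, Matrix.trace_smul, trace_eq h2 hw]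
            simp [trace_fin_two]
            ring
          · rw [hdet]; simp [det_fin_two]
        rw [classFun_eq_of_isConj (Characters.char_isClassFunction (isCharacter_pind _ _)) hc,
          pind_mkB_ne _ _ hne, MulChar.one_apply_coe, MulChar.one_apply_coe, sgnP, if_pos hp]
        norm_num
      · rw [pind_eq_zero, sgnP, if_neg hp]
        · norm_num
        intro c v hv hcv
        refine hp ((exists_root_iff h2).1 ?_)
        rw [hab, Matrix.add_mulVec, Matrix.smul_mulVec, Matrix.smul_mulVec, Matrix.one_mulVec] at hcv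
        have hwv : (w : M2) *ᵥ v = ((c - a) / b) • v := by
          rw [div_eq_inv_mul, mul_smul, sub_smul, ← hcv, add_sub_cancel_left, smul_smul,
            inv_mul_cancel₀ hb, one_smul]
        refine ⟨(c - a) / b, ?_⟩
        have h3 : (-1 : (ZMod p)) • v = ((c - a) / b * ((c - a) / b)) • v := by
          rw [neg_one_smul, show -v = ((w : M2) * (w : M2)) *ᵥ v by
            rw [coe_sq h2 hw, Matrix.neg_mulVec, Matrix.one_mulVec], ← Matrix.mulVec_mulVec, hwv,
            Matrix.mulVec_smul, hwv, smul_smul]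
        by_contra hne
        exact hv ((smul_eq_zero.1 (by rw [sub_smul, h3, sub_self] :
          ((-1 : (ZMod p)) - (c - a) / b * ((c - a) / b)) • v = 0)).resolve_left
            (sub_ne_zero.2 (Ne.symm hne)))
    rw [v1, v2, v3, key, chi2_mk h2]
    exact ⟨rfl, rfl, rfl⟩

end Cfsg.Agent.CycSD.XGroup
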