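import Mathlib
import Cfsg.Agent.Lib.CycSD.XGroup

/-!
# The data at the central involution of a semidihedral Sylow 2-subgroup
-/

set_option autoImplicit false
set_option linter.unusedSectionVars false

namespace Cfsg.Agent.CycSD

universe u

variable (G : Type u) [Group G] [Finite G]

/-- A semidihedral Sylow `2`-subgroup `⟨σ, t⟩` of order `2 N` whose central involution `σ ^ (N / 2)` has a
centraliser mapping onto `PGL₂(p)` with kernel the product of a subgroup of odd order and the involution. -/
structure Data where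
  p : ℕ
  hp : Fact p.Prime
  p_odd : p ≠ 2
  S : Sylow 2 G
  σ : G
  t : G
  N : ℕ
  N_pow : ∃ j, 3 ≤ j ∧ N = 2 ^ j
  σ_mem : σ ∈ (S : Subgroup G)
  t_mem : t ∈ (S : Subgroup G)
  order_σ : orderOf σ = N
  t_sq : t * t = 1
  t_notMem : t ∉ Subgroup.zpowers σ
  rel : t * σ * t⁻¹ = σ ^ (N / 2 - 1)
  card_S : Nat.card (S : Subgroup G) = 2 * N
  K : Subgroup (Subgroup.centralizer ({σ ^ (N / 2)} : Set G))
  K_normal : K.Normal
  K_odd : ¬ 2 ∣ Nat.card K
  π : Subgroup.centralizer ({σ ^ (N / 2)} : Set G) →* Matrix.ProjGenLinGroup (Fin 2) (ZMod p)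
  π_surj : Function.Surjective π
  π_ker : ∀ c : Subgroup.centralizer ({σ ^ (N / 2)} : Set G),
    π c = 1 ↔ c ∈ K ∨ c * ⟨σ ^ (N / 2), Subgroup.mem_centralizer_singleton_iff.2 rfl⟩ ∈ K
  /-- Even rotations of order at least four have the same centraliser. -/
  cent_even : ∀ l : ℕ, Even l → ¬ N ∣ 2 * l →
    Subgroup.centralizer ({σ ^ l} : Set G) = Subgroup.centralizer ({σ ^ 2} : Set G)

namespace Data

variable {G} (D : Data G)

/-- The central involution. -/
def z : G := D.σ ^ (D.N / 2)

/-- The odd part of the order of the centraliser of the even rotations. -/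
noncomputable def o : ℕ := Nat.card (Subgroup.centralizer ({D.σ ^ 2} : Set G)) / D.N

/-- The odd part of the order of the centraliser of the even rotations and the reflection. -/
noncomputable def ot : ℕ :=
  Nat.card (Subgroup.centralizer ({D.σ ^ 2} : Set G) ⊓ Subgroup.centralizer ({D.t} : Set G) :
    Subgroup G) / 2

/-- The order identity of the principal `2`-block at `p = 5`, where the degree is `-35`. -/
def FiveIdentity : Prop :=
  (Nat.card G : ℤ) * (D.ot : ℤ) ^ 2 * 4 * 25 * 64 =
    (Nat.card (Subgroup.centralizer ({D.z} : Set G)) : ℤ) ^ 2 * D.N * D.o * 1190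

end Data

end Cfsg.Agent.CycSD
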