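import Mathlib
import Cfsg.Agent.Lib.Blocks.Inflation
import Cfsg.Agent.Lib.ZStar.Sections
import Cfsg.Agent.Lib.Blocks.ThirdMainCor

/-!
# The principal 2-block modulo an odd normal subgroup and a central involution
-/

set_option autoImplicit false
set_option linter.unusedSectionVars false
set_option linter.style.haveILetI false

open scoped Classical

namespace Cfsg.Agent.CycSD

open Cfsg.Agent.Blocks Cfsg.Agent.Characters
open scoped ComplexConjugate

universe u v

variable {C : Type u} [Group C] [Finite C] {X : Type v} [Group X] [Finite X] {M : Ideal Cfsg.AlgInt}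
  {z : C} {K : Subgroup C} [K.Normal] {π : C →* X}

theorem regular_mul_mem (hK : ¬ 2 ∣ Nat.card K) {g k : C} (hg : ¬ 2 ∣ orderOf g) (hk : k ∈ K) :
    ¬ 2 ∣ orderOf (g * k) := fun h => by
  have h1 : (g * k) ^ orderOf g ∈ K := by
    rw [← QuotientGroup.eq_one_iff, QuotientGroup.mk_pow, QuotientGroup.mk_mul,
      (QuotientGroup.eq_one_iff k).2 hk, mul_one, ← QuotientGroup.mk_pow, pow_orderOf_eq_one]
    rfl
  have h2 : orderOf (g * k) ∣ orderOf g * Nat.card K := orderOf_dvd_of_pow_eq_one (by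
    rw [pow_mul]
    exact orderOf_dvd_iff_pow_eq_one.1 (K.orderOf_dvd_natCard h1))
  rcases Nat.prime_two.dvd_mul.1 (h.trans h2) with h' | h'
  exacts [hg h', hK h']

variable (hM : Cfsg.IsPModular 2 M) (hz : z ∈ Subgroup.center C) (hz2 : orderOf z = 2)
  (hK : ¬ 2 ∣ Nat.card K) (hπ : Function.Surjective π) (hker : ∀ c, π c = 1 ↔ c ∈ K ∨ c * z ∈ K)
include hM hz hz2 hK hπ hker

theorem exists_regular_lift {x : X} (hx : ¬ 2 ∣ orderOf x) : ∃ g : C, π g = x ∧ ¬ 2 ∣ orderOf g := by
  obtain ⟨g, rfl⟩ := hπ x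
  obtain ⟨v, hv⟩ : ∃ v, v = (orderOf g).factorization 2 := ⟨_, rfl⟩
  have hd : 2 ^ v ∣ orderOf g := hv ▸ Nat.ordProj_dvd _ _
  have hm : ¬ 2 ∣ orderOf g / 2 ^ v := hv ▸ Nat.not_dvd_ordCompl Nat.prime_two (orderOf_pos g).ne'
  have hco : Nat.Coprime (2 ^ v) (orderOf (π g)) :=
    Nat.Coprime.pow_left v (Nat.prime_two.coprime_iff_not_dvd.2 hx)
  obtain ⟨e, he⟩ := exists_pow_eq_self_of_coprime (x := π g) (n := 2 ^ v) hco
  refine ⟨(g ^ 2 ^ v) ^ e, by rw [map_pow, map_pow, he], fun h => hm (h.trans ?_)⟩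
  refine (orderOf_pow_dvd e).trans (dvd_of_eq ?_)
  rw [orderOf_pow, Nat.gcd_eq_right hd]

theorem sum_regular [Fintype C] [Fintype X] (h : X → ℂ) :
    ∑ g ∈ Finset.univ.filter (fun g : C => ¬ 2 ∣ orderOf g), h (π g) =
      (Nat.card K : ℂ) * ∑ x ∈ Finset.univ.filter (fun x : X => ¬ 2 ∣ orderOf x), h x := by
  rw [← Finset.sum_fiberwise_of_maps_to (g := fun g => π g)
    (t := Finset.univ.filter fun x : X => ¬ 2 ∣ orderOf x) (fun g hg => by
      simp only [Finset.mem_filter, Finset.mem_univ, true_and] at hg ⊢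
      exact fun h' => hg (h'.trans (orderOf_map_dvd π g))), Finset.mul_sum]
  refine Finset.sum_congr rfl fun x hx => ?_
  obtain ⟨g₀, hg₀, hr⟩ := exists_regular_lift hM hz hz2 hK hπ hker (Finset.mem_filter.1 hx).2
  rw [Finset.sum_congr rfl (g := fun _ => h x) fun g hg => by rw [(Finset.mem_filter.1 hg).2],
    Finset.sum_const, nsmul_eq_mul]
  congr 2
  rw [Nat.card_eq_fintype_card, ← Finset.card_univ]
  symm
  refine Finset.card_bij (fun k _ => g₀ * (k : C)) (fun k _ => ?_)
    (fun a _ b _ e => Subtype.ext (mul_left_cancel e)) (fun g hg => ?_)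
  · simp only [Finset.mem_filter, Finset.mem_univ, true_and]
    exact ⟨regular_mul_mem hK hr k.2, by rw [map_mul, hg₀, (hker k).2 (Or.inl k.2), mul_one]⟩
  · simp only [Finset.mem_filter, Finset.mem_univ, true_and] at hg
    refine ⟨⟨g₀⁻¹ * g, ?_⟩, Finset.mem_univ _, mul_inv_cancel_left _ _⟩
    refine ((hker _).1 (by rw [map_mul, map_inv, hg₀, hg.2, inv_mul_cancel])).resolve_right fun hk => ?_
    have h2 := regular_mul_mem hK hr hk
    rw [← mul_assoc, mul_inv_cancel_left, Subgroup.mem_center_iff.1 hz g,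
      ZStar.Sections.orderOf_mul_regular hz2 (Subgroup.mem_center_iff.1 hz g).symm hg.1] at h2
    exact h2 (dvd_mul_right 2 _)

/-- An irreducible character of the quotient inflating into the principal block lies in it. -/
theorem mem_principal_of_inflate {χ : Cfsg.IrrCharacter X} {η : Cfsg.IrrCharacter C}
    (hη : (η : C → ℂ) = (χ : X → ℂ) ∘ π) (h : η ∈ Cfsg.principalBlock M C) :
    χ ∈ Cfsg.principalBlock M X := by
  letI := Fintype.ofFinite C
  letI := Fintype.ofFinite X
  by_contra hχ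
  set b := Cfsg.principalBlock M X
  set e := blockIdem b with he
  set E : MonoidAlgebra ℂ C := (Nat.card K : ℂ)⁻¹ •
    ofFun (fun g : C => if 2 ∣ orderOf g then 0 else e.coeff (π g)) with hE
  have hEc : IsCentralEl E := central_smul _ (central_ofFun fun g c => by
    have ho : orderOf (c * g * c⁻¹) = orderOf g := MulEquiv.orderOf_eq (MulAut.conj c) g
    simp only [ho, map_mul, map_inv, central_blockIdem b (π g) (π c), he])
  have hEi : IntEl M E := intEl_smul hM (ring_inv_natCast hM hK) fun g => by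
    rw [coeff_ofFun]
    split
    · exact ring_zero hM
    · exact intEl_blockIdem hM (isPBlock_principal M X) _
  have homega : ∀ f : X → ℂ, omega (f ∘ π) E = omega f e := fun f => by
    have hX : ∑ x ∈ Finset.univ.filter (fun x : X => ¬ 2 ∣ orderOf x), e.coeff x * f x =
        ∑ x : X, e.coeff x * f x := by
      refine Finset.sum_filter_of_ne fun x _ hne hd => hne ?_
      rw [he, coeff_blockIdem,
        blockCoeff_eq_zero_of_singular hM (intEl_blockIdem hM (isPBlock_principal M X)) hd, zero_mul]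
    rw [hE, omega_smul, omega, omega, evalChar_eq_sum, evalChar_eq_sum, ← hX]
    simp only [coeff_ofFun, Function.comp_apply, map_one, ite_mul, zero_mul]
    rw [Finset.sum_ite, Finset.sum_const_zero, zero_add,
      sum_regular hM hz hz2 hK hπ hker (fun x => e.coeff x * f x), ← mul_div_assoc, ← mul_assoc,
      inv_mul_cancel₀ (Nat.cast_ne_zero.2 Nat.card_pos.ne'), one_mul]
  have hc := omega_cong_of_mem hM (isPBlock_principal M C) h (trivIrr_mem_principal hM) hEc hEi
  rw [hη, show ((trivIrr C : Cfsg.IrrCharacter C) : C → ℂ) =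
      ((trivIrr X : Cfsg.IrrCharacter X) : X → ℂ) ∘ π from rfl, homega, homega,
    omega_blockIdem_notMem hχ, omega_blockIdem_mem (trivIrr_mem_principal hM), Cong, zero_sub] at hc
  have h1 := ideal_neg hM hc
  rw [neg_neg, show (1 : ℂ) = ((1 : ℕ) : ℂ) by simp, ideal_natCast_iff hM] at h1
  exact absurd h1 (by norm_num)

/-- The products of the columns at two regular elements. -/
theorem gram_quot [Fintype (Cfsg.IrrCharacter C)] [Fintype (Cfsg.IrrCharacter X)] {c d : C}
    (hc : ¬ 2 ∣ orderOf c) (hd : ¬ 2 ∣ orderOf d) :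
    ∑ η ∈ Finset.univ.filter (fun η : Cfsg.IrrCharacter C => η ∈ Cfsg.principalBlock M C),
        (η : C → ℂ) c * conj ((η : C → ℂ) d) =
      2 * ∑ χ ∈ Finset.univ.filter (fun χ : Cfsg.IrrCharacter X => χ ∈ Cfsg.principalBlock M X),
        (χ : X → ℂ) (π c) * conj ((χ : X → ℂ) (π d)) := by
  letI := Fintype.ofFinite C
  letI := Fintype.ofFinite X
  set B := Finset.univ.filter (fun η : Cfsg.IrrCharacter C => η ∈ Cfsg.principalBlock M C) with hB
  have hzz : z * z = 1 := by rw [← pow_two, ← hz2, pow_orderOf_eq_one]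
  have hw : ∀ η : Cfsg.IrrCharacter C, ∃ w : ℤ, (w = 1 ∨ w = -1) ∧
      ∀ g, (η : C → ℂ) (z * g) = (w : ℂ) * (η : C → ℂ) g := fun η =>
    ZStar.Sections.exists_sign η.2 hz hzz
  choose w hw1 hw2 using hw
  have hsing : 2 ∣ orderOf (z * c) := by
    rw [ZStar.Sections.orderOf_mul_regular hz2 (Subgroup.mem_center_iff.1 hz c).symm hc]
    exact dvd_mul_right 2 _
  have hzero : ∑ η ∈ B, (w η : ℂ) * ((η : C → ℂ) c * conj ((η : C → ℂ) d)) = 0 := by
    have h := sum_block_reg_sing hM (intEl_blockIdem hM (isPBlock_principal M C)) hd hsing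
    rw [ZStar.Principal.finsum_mem_eq_sum_filter] at h
    have h' := congrArg conj h
    rw [map_sum, map_zero] at h'
    rw [← h', hB]
    refine Finset.sum_congr rfl fun η _ => ?_
    rw [map_mul, Complex.conj_conj, hw2]
    ring
  rw [show ∑ η ∈ B, (η : C → ℂ) c * conj ((η : C → ℂ) d) =
      2 * ∑ η ∈ B.filter (fun η => w η = 1), (η : C → ℂ) c * conj ((η : C → ℂ) d) by
    have hadd : ∑ η ∈ B, ((η : C → ℂ) c * conj ((η : C → ℂ) d) +
        (w η : ℂ) * ((η : C → ℂ) c * conj ((η : C → ℂ) d))) =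
        2 * ∑ η ∈ B.filter (fun η => w η = 1), (η : C → ℂ) c * conj ((η : C → ℂ) d) := by
      rw [Finset.sum_filter (s := B), Finset.mul_sum]
      refine Finset.sum_congr rfl fun η _ => ?_
      rcases hw1 η with e | e <;> simp [e] <;> ring
    rw [Finset.sum_add_distrib, hzero, add_zero] at hadd
    exact hadd]
  congr 1
  have hinfl : ∀ χ : Cfsg.IrrCharacter X, Cfsg.IsIrrCharacter C ((χ : X → ℂ) ∘ π) := fun χ =>
    isIrrCharacter_comp_surjective π hπ χ.2
  symm
  refine Finset.sum_bij (fun χ _ => (⟨_, hinfl χ⟩ : Cfsg.IrrCharacter C)) (fun χ hχ => ?_)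
    (fun a _ b _ e => Subtype.ext (hπ.injective_comp_right (congrArg Subtype.val e))) (fun η hη => ?_)
    (fun χ _ => rfl)
  · simp only [hB, Finset.mem_filter, Finset.mem_univ, true_and] at hχ ⊢
    refine ⟨sameBlock_inflate hM π hπ (χ := trivIrr X) hχ, ?_⟩
    rcases hw1 ⟨_, hinfl χ⟩ with e | e
    · exact e
    · exfalso
      have h1 := hw2 ⟨_, hinfl χ⟩ 1
      rw [e, mul_one] at h1
      simp only [Function.comp_apply, map_one, (hker z).2 (Or.inr (by rw [hzz]; exact one_mem K))] at h1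
      exact irr_one_ne_zero χ.2 (by linear_combination (1 / 2 : ℂ) * h1)
  · simp only [hB, Finset.mem_filter, Finset.mem_univ, true_and] at hη
    obtain ⟨hηB, hηw⟩ := hη
    have hkerη : ∀ g ∈ π.ker, (η : C → ℂ) g = (η : C → ℂ) 1 := fun g hg => by
      have htriv := trivial_on_transfer hM hK (χ := trivIrr C) hηB (fun _ _ => rfl)
      rcases (hker g).1 hg with hk | hk
      · exact htriv g hk
      · have h := hw2 η g
        rw [hηw, Int.cast_one, one_mul, ← (Subgroup.mem_center_iff.1 hz g)] at h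
        rw [← h]; exact htriv _ hk
    obtain ⟨ψ, -, hψ, hi⟩ := exists_deflate π hπ (irr_isCharacter η) hkerη
    refine ⟨⟨ψ, hi η.2⟩, ?_, Subtype.ext hψ⟩
    simp only [Finset.mem_filter, Finset.mem_univ, true_and]
    exact mem_principal_of_inflate hM hz hz2 hK hπ hker (χ := ⟨ψ, hi η.2⟩) hψ.symm hηB

end Cfsg.Agent.CycSD
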