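import Mathlib
import Cfsg.Agent.Lib.Characters.Basic
import Cfsg.Agent.Lib.Characters.Inner
import Cfsg.Agent.Lib.Blocks.Block
import Cfsg.Agent.Lib.Blocks.ThirdMainCor

/-!
# Multiplicities of the eigenvalues of an element, against the columns of a set of characters

If the columns at the powers of `x` indexed by an admissible set have the products
`N ([m = l] + [m = μ l])`, the differences of multiplicities have explicit products.
-/

set_option autoImplicit false
set_option linter.unusedSectionVars false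
set_option linter.style.haveILetI false

namespace Cfsg.Agent.CycSD

open Cfsg.Agent.Blocks Cfsg.Agent.Characters
open scoped ComplexConjugate

universe u

/-- The standard additive character. -/
noncomputable abbrev ee {N : ℕ} [NeZero N] (j : ZMod N) : ℂ := ZMod.stdAddChar j

section roots

variable {N : ℕ} [NeZero N]

theorem ee_pow (j : ZMod N) (k : ℕ) : ee j ^ k = ee ((k : ZMod N) * j) := by
  show ZMod.stdAddChar j ^ k = ZMod.stdAddChar ((k : ZMod N) * j)
  rw [← AddChar.map_nsmul_eq_pow, nsmul_eq_mul]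

theorem conj_ee (j : ZMod N) : conj (ee j) = ee (-j) := by
  show conj (ZMod.stdAddChar j) = ZMod.stdAddChar (-j)
  rw [AddChar.map_neg_eq_inv, Complex.inv_eq_conj]
  exact Circle.norm_coe _

theorem sum_ee (b : ZMod N) : ∑ l : ZMod N, ee (l * b) = if b = 0 then (N : ℂ) else 0 := by
  classical
  rw [AddChar.sum_mulShift b (ZMod.isPrimitive_stdAddChar N), ZMod.card]
  split_ifs <;> simp

theorem exists_ee {ζ : ℂ} (h : ζ ^ N = 1) : ∃ j : ZMod N, ee j = ζ := by
  have hp : IsPrimitiveRoot (ee (1 : ZMod N)) N := by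
    refine ⟨?_, fun k hk => ?_⟩
    · rw [ee_pow, ZMod.natCast_self, zero_mul]
      exact AddChar.map_zero_eq_one _
    · rw [ee_pow, mul_one] at hk
      rw [← ZMod.natCast_eq_zero_iff]
      exact ZMod.injective_stdAddChar (hk.trans (AddChar.map_zero_eq_one _).symm)
  obtain ⟨i, -, hi⟩ := hp.eq_pow_of_pow_eq_one h
  exact ⟨(i : ZMod N), by rw [← hi, ee_pow, mul_one]⟩

end roots

variable {G : Type u} [Group G] [Finite G] {N : ℕ} [NeZero N] {x : G}

theorem exists_mult (χ : Cfsg.IrrCharacter G) (hx : x ^ N = 1) :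
    ∃ m : ZMod N → ℤ, ∀ l : ℕ,
      (χ : G → ℂ) (x ^ l) = ∑ j, (m j : ℂ) * ee (j * (l : ZMod N)) := by
  classical
  obtain ⟨χ, n, ρ, hρ, rfl⟩ := χ
  obtain ⟨w, hw, hsum⟩ := exists_rootsOfUnity_sum ρ x
  have hidx : ∀ i, ∃ j : ZMod N, ee j = w i := fun i => exists_ee (by
    obtain ⟨c, hc⟩ := orderOf_dvd_of_pow_eq_one hx
    rw [hc, pow_mul, hw i, one_pow])
  choose t ht using hidx
  refine ⟨fun j => ((Finset.univ.filter fun i => t i = j).card : ℤ), fun l => ?_⟩
  show ρ.character (x ^ l) = _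
  rw [hsum, ← Finset.sum_fiberwise Finset.univ t (fun i => w i ^ l)]
  refine Finset.sum_congr rfl fun j _ => ?_
  rw [Finset.sum_congr rfl (g := fun _ => ee (j * (l : ZMod N))) fun i hi => by
    rw [← ht i, ee_pow, (Finset.mem_filter.1 hi).2, mul_comm], Finset.sum_const, nsmul_eq_mul]
  push_cast
  rfl

/-- The multiplicity of an eigenvalue. -/
noncomputable def mult (x : G) (hx : x ^ N = 1) (χ : Cfsg.IrrCharacter G) : ZMod N → ℤ :=
  (exists_mult χ hx).choose

theorem mult_spec (hx : x ^ N = 1) (χ : Cfsg.IrrCharacter G) (l : ℕ) :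
    (χ : G → ℂ) (x ^ l) = ∑ j, (mult x hx χ j : ℂ) * ee (j * (l : ZMod N)) :=
  (exists_mult χ hx).choose_spec l

theorem mult_eq (hx : x ^ N = 1) (χ : Cfsg.IrrCharacter G) (j : ZMod N) :
    (N : ℂ) * (mult x hx χ j : ℂ) = ∑ l : ZMod N, (χ : G → ℂ) (x ^ l.val) * ee (-(j * l)) := by
  simp only [mult_spec hx χ, ZMod.natCast_zmod_val, Finset.sum_mul]
  rw [Finset.sum_comm, Finset.sum_eq_single j]
  · simp only [mul_assoc, ← AddChar.map_add_eq_mul, add_neg_cancel, AddChar.map_zero_eq_one, mul_one,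
      Finset.sum_const, Finset.card_univ, ZMod.card, nsmul_eq_mul]
  · intro i _ hi
    simp only [mul_assoc, ← AddChar.map_add_eq_mul, ← Finset.mul_sum]
    rw [Finset.sum_congr rfl (g := fun l : ZMod N => ee (l * (i - j))) fun l _ => by
      show ZMod.stdAddChar (i * l + -(j * l)) = ZMod.stdAddChar (l * (i - j))
      congr 1; ring, sum_ee, if_neg (sub_ne_zero.2 hi), mul_zero]
  · exact fun h => absurd (Finset.mem_univ j) h

/-- The difference of two multiplicities. -/
noncomputable def dd (x : G) (hx : x ^ N = 1) (j k : ZMod N) (χ : Cfsg.IrrCharacter G) : ℤ :=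
  mult x hx χ j - mult x hx χ k

theorem dd_eq (hx : x ^ N = 1) (j k : ZMod N) (χ : Cfsg.IrrCharacter G) :
    (N : ℂ) * (dd x hx j k χ : ℂ) =
      ∑ l : ZMod N, (ee (-(j * l)) - ee (-(k * l))) * (χ : G → ℂ) (x ^ l.val) := by
  simp only [dd, Int.cast_sub, mul_sub, mult_eq hx, ← Finset.sum_sub_distrib]
  exact Finset.sum_congr rfl fun l _ => by ring

/-- A difference against a column orthogonal to the admissible columns. -/
theorem sum_dd_col_zero (hx : x ^ N = 1) {B : Finset (Cfsg.IrrCharacter G)} {adm : ZMod N → Prop}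
    {g : G} (hcol : ∀ l, adm l → ∑ χ ∈ B, (χ : G → ℂ) (x ^ l.val) * conj ((χ : G → ℂ) g) = 0)
    {j k : ZMod N} (hjk : ∀ l, ¬ adm l → j * l = k * l) :
    ∑ χ ∈ B, (dd x hx j k χ : ℂ) * conj ((χ : G → ℂ) g) = 0 := by
  have hN : (N : ℂ) ≠ 0 := Nat.cast_ne_zero.2 (NeZero.ne N)
  refine (mul_eq_zero.1 ?_).resolve_left hN
  simp only [Finset.mul_sum, ← mul_assoc, dd_eq hx, Finset.sum_mul]
  rw [Finset.sum_comm]
  refine Finset.sum_eq_zero fun l _ => ?_
  simp only [mul_assoc, ← Finset.mul_sum]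
  by_cases hl : adm l
  · rw [hcol l hl, mul_zero]
  · rw [hjk l hl, sub_self, zero_mul]

open scoped Classical in
/-- A difference against an admissible column. -/
theorem sum_dd_col (hx : x ^ N = 1) {B : Finset (Cfsg.IrrCharacter G)} {μ : ZMod N} (hμ : μ * μ = 1)
    {adm : ZMod N → Prop}
    (hcol : ∀ m l, adm m → adm l → ∑ χ ∈ B, (χ : G → ℂ) (x ^ m.val) * conj ((χ : G → ℂ) (x ^ l.val)) =
      (N : ℂ) * ((if m = l then 1 else 0) + if m = μ * l then 1 else 0))
    {j k : ZMod N} (hjk : ∀ l, ¬ adm l → j * l = k * l) (hinv : ∀ l, adm l → adm (μ * l))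
    {l : ZMod N} (hl : adm l) :
    ∑ χ ∈ B, (dd x hx j k χ : ℂ) * conj ((χ : G → ℂ) (x ^ l.val)) =
      ee (-(j * l)) - ee (-(k * l)) + (ee (-(μ * j * l)) - ee (-(μ * k * l))) := by
  have hN : (N : ℂ) ≠ 0 := Nat.cast_ne_zero.2 (NeZero.ne N)
  refine mul_left_cancel₀ hN ?_
  simp only [Finset.mul_sum, ← mul_assoc, dd_eq hx, Finset.sum_mul]
  rw [Finset.sum_comm, Finset.sum_congr rfl (g := fun m => (ee (-(j * m)) - ee (-(k * m))) *
      ((N : ℂ) * ((if m = l then 1 else 0) + if m = μ * l then 1 else 0))) fun m _ => by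
    simp only [mul_assoc, ← Finset.mul_sum]
    by_cases hm : adm m
    · rw [hcol m l hm hl]
    · rw [hjk m hm, sub_self, zero_mul, zero_mul]]
  simp only [mul_add, mul_ite, mul_one, mul_zero, Finset.sum_add_distrib, Finset.sum_ite_eq',
    Finset.mem_univ, if_true]
  rw [show j * (μ * l) = μ * j * l by ring, show k * (μ * l) = μ * k * l by ring]
  ring

open scoped Classical in
/-- The products of the differences. -/
theorem sum_dd_dd (hx : x ^ N = 1) {B : Finset (Cfsg.IrrCharacter G)} {μ : ZMod N} (hμ : μ * μ = 1)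
    {adm : ZMod N → Prop}
    (hcol : ∀ m l, adm m → adm l → ∑ χ ∈ B, (χ : G → ℂ) (x ^ m.val) * conj ((χ : G → ℂ) (x ^ l.val)) =
      (N : ℂ) * ((if m = l then 1 else 0) + if m = μ * l then 1 else 0))
    (hinv : ∀ l, adm l → adm (μ * l))
    {j k r s : ZMod N} (hjk : ∀ l, ¬ adm l → j * l = k * l) (hrs : ∀ l, ¬ adm l → r * l = s * l) :
    ∑ χ ∈ B, dd x hx j k χ * dd x hx r s χ =
      ((if j = r then 1 else 0) - (if j = s then 1 else 0) - (if k = r then 1 else 0) +
          if k = s then 1 else 0) +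
        ((if μ * j = r then 1 else 0) - (if μ * j = s then 1 else 0) - (if μ * k = r then 1 else 0) +
          if μ * k = s then 1 else 0) := by
  have hN : (N : ℂ) ≠ 0 := Nat.cast_ne_zero.2 (NeZero.ne N)
  apply Int.cast_injective (α := ℂ)
  push_cast
  refine mul_left_cancel₀ hN ?_
  have hterm : ∀ χ : Cfsg.IrrCharacter G, (N : ℂ) * ((dd x hx j k χ : ℂ) * (dd x hx r s χ : ℂ)) =
      ∑ l : ZMod N, conj (ee (-(r * l)) - ee (-(s * l))) *
        ((dd x hx j k χ : ℂ) * conj ((χ : G → ℂ) (x ^ l.val))) := fun χ => by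
    have e := congrArg conj (dd_eq hx r s χ)
    rw [map_mul, map_natCast, map_intCast, map_sum] at e
    rw [mul_left_comm, e, Finset.mul_sum]
    refine Finset.sum_congr rfl fun l _ => ?_
    rw [map_mul]; ring
  rw [Finset.mul_sum, Finset.sum_congr rfl fun χ _ => hterm χ, Finset.sum_comm,
    Finset.sum_congr rfl (g := fun l : ZMod N => conj (ee (-(r * l)) - ee (-(s * l))) *
      (ee (-(j * l)) - ee (-(k * l)) + (ee (-(μ * j * l)) - ee (-(μ * k * l))))) fun l _ => by
      rw [← Finset.mul_sum]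
      by_cases hl : adm l
      · rw [sum_dd_col hx hμ hcol hjk hinv hl]
      · rw [hrs l hl, sub_self, map_zero, zero_mul, zero_mul]]
  simp only [map_sub, conj_ee, neg_neg, sub_mul, mul_sub, mul_add, add_sub_assoc,
    Finset.sum_sub_distrib, Finset.sum_add_distrib]
  have key : ∀ a b : ZMod N, ∑ l : ZMod N, ee (a * l) * ee (-(b * l)) =
      if b = a then (N : ℂ) else 0 := fun a b => by
    rw [Finset.sum_congr rfl (g := fun l : ZMod N => ee (l * (a - b))) fun l _ => by
      show ZMod.stdAddChar (a * l) * ZMod.stdAddChar (-(b * l)) = ZMod.stdAddChar (l * (a - b))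
      rw [← AddChar.map_add_eq_mul]; congr 1; ring, sum_ee]
    exact if_congr (sub_eq_zero.trans eq_comm) rfl rfl
  simp only [key]
  push_cast
  simp only [mul_ite, mul_one, mul_zero, mul_add, mul_sub]
  ring

/-- An integer vector of norm one is supported at one point. -/
theorem exists_unit {ι : Type*} {B : Finset ι} {f : ι → ℤ} (h : ∑ i ∈ B, f i * f i = 1) :
    ∃ i ∈ B, (f i = 1 ∨ f i = -1) ∧ ∀ j ∈ B, j ≠ i → f j = 0 := by
  classical
  obtain ⟨i, hi, hne⟩ := Finset.exists_ne_zero_of_sum_ne_zero (h.trans_ne one_ne_zero)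
  have hfi : f i ≠ 0 := fun h0 => hne (by rw [h0, mul_zero])
  have hs := Finset.add_sum_erase B (fun i => f i * f i) hi
  have hnn : 0 ≤ ∑ j ∈ B.erase i, f j * f j := Finset.sum_nonneg fun j _ => mul_self_nonneg _
  have hpos : 1 ≤ f i * f i := Int.add_one_le_iff.2 (mul_self_pos.2 hfi)
  have hrest : ∑ j ∈ B.erase i, f j * f j = 0 := by linarith
  refine ⟨i, hi, ?_, fun j hj hji => ?_⟩
  · exact mul_self_eq_one_iff.1 (by linarith)
  · exact mul_self_eq_zero.1
      ((Finset.sum_eq_zero_iff_of_nonneg fun j _ => mul_self_nonneg _).1 hrest j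
        (Finset.mem_erase.2 ⟨hji, hj⟩))

/-- A character of the principal block does not vanish where the class has order prime to `p`. -/
theorem value_ne_zero_of_odd_class {q : ℕ} {M : Ideal Cfsg.AlgInt} (hM : Cfsg.IsPModular q M) {z : G}
    (hz : ¬ q ∣ (Subgroup.centralizer ({z} : Set G)).index) {χ : Cfsg.IrrCharacter G}
    (hχ : χ ∈ Cfsg.principalBlock M G) : (χ : G → ℂ) z ≠ 0 := fun h0 => by
  haveI := Fintype.ofFinite G
  have hc := omega_cong_of_mem hM (isPBlock_principal M G) hχ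
    (trivIrr_mem_principal hM) (central_classSum z) (intEl_classSum hM z)
  rw [omega_classSum (irr_isClassFunction χ), omega_classSum (irr_isClassFunction (trivIrr G)),
    Cfsg.centralChar, Cfsg.centralChar, h0] at hc
  simp only [trivIrr, mul_zero, zero_div, mul_one, div_one, Cong, zero_sub] at hc
  have h1 := ideal_neg hM hc
  rw [neg_neg, ideal_natCast_iff hM] at h1
  exact hz h1

end Cfsg.Agent.CycSD
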