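import Mathlib
import Cfsg.Agent.Lib.CycSD.Column
import Cfsg.Agent.Lib.CycSD.Mult
import Cfsg.Agent.Lib.CycSD.XGroup
import Cfsg.Agent.S4483

/-!
# The principal 2-block of `PGL₂(p)` at the identity and at a unipotent element
-/

set_option autoImplicit false
set_option linter.unusedSectionVars false
set_option linter.style.haveILetI false

open scoped Classical

namespace Cfsg.Agent.CycSD.XBlock

open Cfsg.Agent.Blocks Cfsg.Agent.Characters Cfsg.Agent.Forms.DicksonPGL Cfsg.Agent.CycSD.XGroup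
open scoped MatrixGroups ComplexConjugate

variable {p : ℕ} [Fact p.Prime]

variable (h2 : p ≠ 2) {w : SL(2, ZMod p)} (hw : w * w = -1)
include h2 hw

theorem card_torusN : Nat.card (torusN w) = 2 * Nat.card (torus w) := by
  have h := (torusN_dihedral (semisimple h2 hw) (G0 := ⊤) le_top).1
  rwa [inf_top_eq, inf_top_eq] at h

theorem four_dvd_torus : 4 ∣ Nat.card (torus w) := by
  have hc := card_torus h2 hw
  have hodd : p % 2 = 1 := ((Fact.out : p.Prime).eq_two_or_odd).resolve_left h2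
  unfold sgnP at hc
  split_ifs at hc with h <;> omega

/-- An element of the torus of full two-part. -/
theorem exists_rot : ∃ x ∈ torus w, orderOf x = 2 ^ (Nat.card (torus w)).factorization 2 := by
  haveI := cyclic_torus h2 hw
  obtain ⟨g, hg⟩ := IsCyclic.exists_generator (α := torus w)
  have ho : orderOf g = Nat.card (torus w) := orderOf_eq_card_of_forall_mem_zpowers hg
  refine ⟨((g ^ (Nat.card (torus w) / 2 ^ (Nat.card (torus w)).factorization 2) : torus w) : (Matrix.ProjGenLinGroup (Fin 2) (ZMod p))),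
    SetLike.coe_mem _, ?_⟩
  rw [Subgroup.orderOf_coe]
  have hd : 2 ^ (Nat.card (torus w)).factorization 2 ∣ Nat.card (torus w) := Nat.ordProj_dvd _ _
  rw [orderOf_pow, ho, Nat.gcd_eq_right (Nat.div_dvd_of_dvd hd),
    Nat.div_div_self hd Nat.card_pos.ne']

/-- The odd part of the torus inside the centraliser of a nontrivial rotation. -/
theorem exists_complement {y : (Matrix.ProjGenLinGroup (Fin 2) (ZMod p))} (hy : y ∈ torus w) (h1 : y ≠ 1) (he : 2 ∣ orderOf y) :
    ∃ N0 : Subgroup (Subgroup.centralizer ({y} : Set (Matrix.ProjGenLinGroup (Fin 2) (ZMod p)))), N0.Normal ∧ ¬ 2 ∣ Nat.card N0 ∧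
      N0.index = 2 ^ (Nat.card (torus w)).factorization 2 * if y = zb w then 2 else 1 := by
  set c := Nat.card (torus w) with hc
  set m := c / 2 ^ c.factorization 2 with hm
  have hC : Subgroup.centralizer ({y} : Set (Matrix.ProjGenLinGroup (Fin 2) (ZMod p))) = if y = zb w then torusN w else torus w := by
    split_ifs with h
    · rw [h]; exact cent_zb h2 hw
    · refine cent_of_mem h2 hw hy (fun e => ?_) he
      rcases (sq_eq_one_iff h2 hw hy).1 e with e' | e'
      exacts [h1 e', h e']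
  have hTC : torus w ≤ Subgroup.centralizer ({y} : Set (Matrix.ProjGenLinGroup (Fin 2) (ZMod p))) := fun g hg =>
    Subgroup.mem_centralizer_singleton_iff.2 (torus_comm h2 hw hg hy)
  have hCN : Subgroup.centralizer ({y} : Set (Matrix.ProjGenLinGroup (Fin 2) (ZMod p))) ≤ torusN w := by
    rw [hC]; split_ifs
    exacts [le_rfl, torus_le]
  let N0 : Subgroup (Subgroup.centralizer ({y} : Set (Matrix.ProjGenLinGroup (Fin 2) (ZMod p)))) :=
    { carrier := {g | (g : (Matrix.ProjGenLinGroup (Fin 2) (ZMod p))) ∈ torus w ∧ (g : (Matrix.ProjGenLinGroup (Fin 2) (ZMod p))) ^ m = 1}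
      one_mem' := ⟨one_mem _, one_pow m⟩
      mul_mem' := fun {a b} ha hb => ⟨mul_mem ha.1 hb.1, by
        rw [Subgroup.coe_mul, (show Commute (a : (Matrix.ProjGenLinGroup (Fin 2) (ZMod p))) b from torus_comm h2 hw ha.1 hb.1).mul_pow,
          ha.2, hb.2, one_mul]⟩
      inv_mem' := fun {a} ha => ⟨inv_mem ha.1, by rw [Subgroup.coe_inv, inv_pow, ha.2, inv_one]⟩ }
  have hn : N0.Normal := ⟨fun a ha g => by
    show ((g * a * g⁻¹ : Subgroup.centralizer ({y} : Set (Matrix.ProjGenLinGroup (Fin 2) (ZMod p)))) : (Matrix.ProjGenLinGroup (Fin 2) (ZMod p))) ∈ torus w ∧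
      ((g * a * g⁻¹ : Subgroup.centralizer ({y} : Set (Matrix.ProjGenLinGroup (Fin 2) (ZMod p)))) : (Matrix.ProjGenLinGroup (Fin 2) (ZMod p))) ^ m = 1
    simp only [Subgroup.coe_mul, Subgroup.coe_inv]
    refine ⟨?_, by rw [conj_pow, ha.2, mul_one, mul_inv_cancel]⟩
    by_cases hg : (g : (Matrix.ProjGenLinGroup (Fin 2) (ZMod p))) ∈ torus w
    · exact mul_mem (mul_mem hg ha.1) (inv_mem hg)
    · rw [(out_torus h2 hw (hCN g.2) hg).2 _ ha.1]; exact inv_mem ha.1⟩
  have hcard : Nat.card N0 = m := by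
    haveI := cyclic_torus h2 hw
    letI : CommGroup (torus w) := IsCyclic.commGroup
    have e := IsCyclic.card_powMonoidHom_ker (G := torus w) m
    rw [← hc, hm, Nat.gcd_eq_right (Nat.div_dvd_of_dvd (Nat.ordProj_dvd c 2)), ← hm] at e
    rw [← e]
    exact Nat.card_congr
      { toFun := fun a => ⟨⟨a.1.1, a.2.1⟩, Subtype.ext a.2.2⟩
        invFun := fun a => ⟨⟨a.1.1, hTC a.1.2⟩, a.1.2, congrArg Subtype.val a.2⟩
        left_inv := fun _ => rfl
        right_inv := fun _ => rfl }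
  have hm2 : ¬ 2 ∣ m := Nat.not_dvd_ordCompl Nat.prime_two Nat.card_pos.ne'
  refine ⟨N0, hn, hcard ▸ hm2, ?_⟩
  have hCc : Nat.card (Subgroup.centralizer ({y} : Set (Matrix.ProjGenLinGroup (Fin 2) (ZMod p)))) = c * if y = zb w then 2 else 1 := by
    rw [hC]; split_ifs
    · rw [card_torusN h2 hw, mul_comm]
    · rw [mul_one]
  have h := N0.index_mul_card
  rw [hcard, hCc] at h
  refine Nat.eq_of_mul_eq_mul_right (show 0 < m from Nat.pos_of_ne_zero fun e => hm2 (e ▸ dvd_zero 2))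
    (h.trans ?_)
  conv_lhs => rw [← Nat.ordProj_mul_ordCompl_eq_self c 2]
  rw [hm]
  ring

variable {M : Ideal Cfsg.AlgInt}

section rot

variable (hM : Cfsg.IsPModular 2 M) {x : (Matrix.ProjGenLinGroup (Fin 2) (ZMod p))} (hx : x ∈ torus w) {N : ℕ} [NeZero N]
  (hN : N = 2 ^ (Nat.card (torus w)).factorization 2) (hxo : orderOf x = N)
include hM hx hN hxo

theorem four_le : 4 ≤ N := by
  have h := four_dvd_torus h2 hw
  rw [show (4 : ℕ) = 2 ^ 2 from rfl,
    Nat.prime_two.pow_dvd_iff_le_factorization Nat.card_pos.ne'] at h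
  rw [hN]
  calc (4 : ℕ) = 2 ^ 2 := rfl
    _ ≤ _ := Nat.pow_le_pow_right two_pos h

theorem two_dvd : 2 ∣ N := by
  have := four_le h2 hw hM hx hN hxo
  rw [hN]
  rw [hN] at this
  rcases Nat.eq_zero_or_pos ((Nat.card (torus w)).factorization 2) with h | h
  · rw [h] at this; omega
  · exact dvd_pow_self 2 h.ne'

theorem pow_val_eq (a b : ZMod N) : x ^ a.val = x ^ b.val ↔ a = b := by
  refine ⟨fun h => ?_, fun h => h ▸ rfl⟩
  rw [pow_inj_mod, hxo, Nat.mod_eq_of_lt (ZMod.val_lt a), Nat.mod_eq_of_lt (ZMod.val_lt b)] at h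
  exact ZMod.val_injective N h

theorem pow_val_add (a b : ZMod N) : x ^ (a + b).val = x ^ a.val * x ^ b.val := by
  rw [ZMod.val_add, ← pow_add, pow_inj_mod, hxo, Nat.mod_mod]

theorem pow_val_neg (a : ZMod N) : x ^ (-a).val = (x ^ a.val)⁻¹ := by
  refine eq_inv_of_mul_eq_one_left ?_
  rw [← pow_val_add h2 hw hM hx hN hxo, neg_add_cancel, ZMod.val_zero, pow_zero]

theorem pow_val_zb (l : ZMod N) : x ^ l.val = zb w ↔ l ≠ 0 ∧ l + l = 0 := by
  have hmem : x ^ l.val ∈ torus w := pow_mem hx _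
  have hadd := pow_val_add h2 hw hM hx hN hxo l l
  have hinj := pow_val_eq h2 hw hM hx hN hxo
  constructor
  · intro h
    refine ⟨fun e => ?_, ?_⟩
    · rw [e, ZMod.val_zero, pow_zero] at h
      exact zb_ne_one h2 hw h.symm
    · refine (hinj _ _).1 ?_
      rw [hadd, h, zb_sq h2 hw, ZMod.val_zero, pow_zero]
  · rintro ⟨h0, h2l⟩
    refine ((sq_eq_one_iff h2 hw hmem).1 ?_).resolve_left fun e => h0 ((hinj _ _).1 ?_)
    · rw [← hadd, h2l, ZMod.val_zero, pow_zero]
    · rw [e, ZMod.val_zero, pow_zero]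

theorem orderOf_even {l : ZMod N} (hl : l ≠ 0) : 2 ∣ orderOf (x ^ l.val) := by
  have hd : orderOf (x ^ l.val) ∣ 2 ^ (Nat.card (torus w)).factorization 2 := by
    exact ((orderOf_pow_dvd (x := x) _).trans (dvd_of_eq hxo)).trans (dvd_of_eq hN)
  obtain ⟨i, -, hi⟩ := (Nat.dvd_prime_pow Nat.prime_two).1 hd
  rw [hi]
  refine dvd_pow_self 2 fun e => hl ?_
  rw [e, pow_zero, orderOf_eq_one_iff] at hi
  exact (pow_val_eq h2 hw hM hx hN hxo l 0).1 (by rw [hi, ZMod.val_zero, pow_zero])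

variable [Fintype (Cfsg.IrrCharacter (Matrix.ProjGenLinGroup (Fin 2) (ZMod p)))]

/-- The principal block. -/
noncomputable abbrev B0 (M : Ideal Cfsg.AlgInt) : Finset (Cfsg.IrrCharacter (Matrix.ProjGenLinGroup (Fin 2) (ZMod p))) :=
  Finset.univ.filter fun χ => χ ∈ Cfsg.principalBlock M (Matrix.ProjGenLinGroup (Fin 2) (ZMod p))

theorem column {l : ZMod N} (hl : l ≠ 0) (m : ZMod N) :
    ∑ χ ∈ B0 (p := p) M, (χ : (Matrix.ProjGenLinGroup (Fin 2) (ZMod p)) → ℂ) (x ^ m.val) * conj ((χ : (Matrix.ProjGenLinGroup (Fin 2) (ZMod p)) → ℂ) (x ^ l.val)) =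
      (N : ℂ) * ((if m = l then 1 else 0) + if m = -1 * l then 1 else 0) := by
  have hne : x ^ l.val ≠ 1 := fun e => hl
    ((pow_val_eq h2 hw hM hx hN hxo l 0).1 (by rw [e, ZMod.val_zero, pow_zero]))
  have hpel : ∀ a : ZMod N, ∃ k : ℕ, orderOf (x ^ a.val) = 2 ^ k := fun a => by
    obtain ⟨i, -, hi⟩ := (Nat.dvd_prime_pow Nat.prime_two).1
      (show orderOf (x ^ a.val) ∣ 2 ^ _ from
        ((orderOf_pow_dvd (x := x) _).trans (dvd_of_eq hxo)).trans (dvd_of_eq hN))
    exact ⟨i, hi⟩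
  obtain ⟨N0, hn0, hodd, hidx⟩ := exists_complement h2 hw (pow_mem hx l.val) hne
    (orderOf_even h2 hw hM hx hN hxo hl)
  haveI := hn0
  obtain ⟨v, hv⟩ : ∃ k : ℕ, N0.index = 2 ^ k := by
    rw [hidx]; split_ifs
    · exact ⟨_ + 1, (pow_succ _ _).symm⟩
    · exact ⟨_, mul_one _⟩
  rw [column_pnilpotent hM (hpel l) hodd ⟨v, hv⟩ (x ^ m.val), hidx, ← hN]
  have hiff : InSec 2 (x ^ l.val) (x ^ m.val) ↔ m = l ∨ m = -l := by
    rw [inSec_iff_of_pElement Nat.prime_two (hpel m)]
    constructor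
    · intro hc
      obtain ⟨g, hg⟩ := isConj_iff.1 hc
      by_cases hz : x ^ l.val = zb w
      · left
        have hm : x ^ m.val * x ^ m.val = 1 := by
          rw [← hg, hz, show g * zb w * g⁻¹ * (g * zb w * g⁻¹) = g * (zb w * zb w) * g⁻¹ by group,
            zb_sq h2 hw, mul_one, mul_inv_cancel]
        rcases (sq_eq_one_iff h2 hw (pow_mem hx _)).1 hm with e | e
        · exfalso
          rw [← hg, conj_eq_one_iff] at e
          exact hne e
        · exact (pow_val_eq h2 hw hM hx hN hxo m l).1 (e.trans hz.symm)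
      · have hsq : x ^ l.val * x ^ l.val ≠ 1 := fun e => by
          rcases (sq_eq_one_iff h2 hw (pow_mem hx _)).1 e with e' | e'
          exacts [hne e', hz e']
        rcases fusion h2 hw (pow_mem hx _) (pow_mem hx _) hsq (orderOf_even h2 hw hM hx hN hxo hl) hg
          with e | e
        · exact Or.inl ((pow_val_eq h2 hw hM hx hN hxo m l).1 e)
        · exact Or.inr ((pow_val_eq h2 hw hM hx hN hxo m (-l)).1
            (e.trans (pow_val_neg h2 hw hM hx hN hxo l).symm))
    · rintro (rfl | rfl)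
      · exact IsConj.refl _
      · obtain ⟨g, hg, hgn⟩ : ∃ g ∈ torusN w, g ∉ torus w := by
          by_contra hcon
          push Not at hcon
          have h1 := Subgroup.card_le_of_le (show torusN w ≤ torus w from hcon)
          rw [card_torusN h2 hw] at h1
          have := (Nat.card_pos : 0 < Nat.card (torus w))
          omega
        exact isConj_iff.2 ⟨g, by
          rw [pow_val_neg h2 hw hM hx hN hxo]; exact (out_torus h2 hw hg hgn).2 _ (pow_mem hx _)⟩
  rw [if_congr hiff rfl rfl, neg_one_mul]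
  by_cases hz : x ^ l.val = zb w
  · have hneg : -l = l := neg_eq_of_add_eq_zero_right ((pow_val_zb h2 hw hM hx hN hxo l).1 hz).2
    simp only [if_pos hz, hneg, or_self]
    split_ifs <;> push_cast <;> ring
  · have hneg : -l ≠ l := fun e => hz ((pow_val_zb h2 hw hM hx hN hxo l).2
      ⟨hl, by nth_rewrite 1 [← e]; exact neg_add_cancel l⟩)
    rw [if_neg hz]
    by_cases h : m = l
    · subst h; simp [Ne.symm hneg]
    · by_cases h' : m = -l
      · subst h'; simp [hneg]
      · simp [h, h']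

/-- The products of the columns at the identity and at the unipotent element. -/
theorem gram :
    (∑ χ ∈ B0 (p := p) M, (χ : (Matrix.ProjGenLinGroup (Fin 2) (ZMod p)) → ℂ) 1 * conj ((χ : (Matrix.ProjGenLinGroup (Fin 2) (ZMod p)) → ℂ) 1) =
      2 + 2 * (p : ℂ) ^ 2 + ((N : ℂ) / 2 - 1) * ((p : ℂ) + (sgnP p : ℂ)) ^ 2) ∧
    (∑ χ ∈ B0 (p := p) M, (χ : (Matrix.ProjGenLinGroup (Fin 2) (ZMod p)) → ℂ) 1 * conj ((χ : (Matrix.ProjGenLinGroup (Fin 2) (ZMod p)) → ℂ) uu) =
      2 + ((N : ℂ) / 2 - 1) * (sgnP p : ℂ) * ((p : ℂ) + (sgnP p : ℂ))) ∧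
    (∑ χ ∈ B0 (p := p) M, (χ : (Matrix.ProjGenLinGroup (Fin 2) (ZMod p)) → ℂ) uu * conj ((χ : (Matrix.ProjGenLinGroup (Fin 2) (ZMod p)) → ℂ) uu) =
      2 + ((N : ℂ) / 2 - 1)) := by
  classical
  have hp : p.Prime := Fact.out
  have hN4 := four_le h2 hw hM hx hN hxo
  have hN2 := two_dvd h2 hw hM hx hN hxo
  have hxN : x ^ N = 1 := by rw [← hxo, pow_orderOf_eq_one]
  set s : ℤ := sgnP p with hs
  obtain ⟨c1, c2, c3, ⟨r1, r2, r3⟩, ⟨d1, d2, d3⟩, ⟨u1, u2, u3⟩, htor⟩ := exists_four h2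
  have hodd : p % 2 = 1 := (hp.eq_two_or_odd).resolve_left h2
  set B := B0 (p := p) M with hB
  have memB : ∀ {χ : Cfsg.IrrCharacter (Matrix.ProjGenLinGroup (Fin 2) (ZMod p))}, χ ∈ B ↔ χ ∈ Cfsg.principalBlock M (Matrix.ProjGenLinGroup (Fin 2) (ZMod p)) := fun {χ} => by
    simp [B, B0]
  have hin : ∀ (χ : Cfsg.IrrCharacter (Matrix.ProjGenLinGroup (Fin 2) (ZMod p))) (n : ℕ), (∀ g, ((χ : (Matrix.ProjGenLinGroup (Fin 2) (ZMod p)) → ℂ) g).im = 0) →
      (χ : (Matrix.ProjGenLinGroup (Fin 2) (ZMod p)) → ℂ) 1 = n → Odd n → χ ∈ B := by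
    intro χ n hr hd hn
    refine memB.2 ((S4483.result M hM).1 χ hr ?_)
    rw [← charDegree_cast, Nat.cast_inj] at hd
    rwa [hd]
  set χ0 := trivIrr (Matrix.ProjGenLinGroup (Fin 2) (ZMod p)) with hχ0
  have h0B : χ0 ∈ B := memB.2 (trivIrr_mem_principal hM)
  have h1B := hin c1 1 r1 (by rw [d1]; simp) odd_one
  have h2B := hin c2 p r2 d2 (Nat.odd_iff.2 hodd)
  have h3B := hin c3 p r3 d3 (Nat.odd_iff.2 hodd)
  -- the values at the rotations
  have hL : ∀ {l : ZMod N}, x ^ l.val ∈ L (ZMod p) ↔ Even l.val := by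
    intro l
    have hxL := notMem_L h2 hw hx (hxo.trans hN)
    have hidx : (L (ZMod p)).index = 2 := by
      refine le_antisymm ?_ ?_
      · have h := (L (ZMod p)).index_mul_card
        have h' := natCard_PP_le (F := ZMod p)
        nlinarith [(Nat.card_pos : 0 < Nat.card (L (ZMod p)))]
      · by_contra hlt
        have h1 : (L (ZMod p)).index = 1 := by
          have := Nat.pos_of_ne_zero (Subgroup.index_ne_zero_of_finite (H := L (ZMod p)))
          omega
        exact hxL (Subgroup.index_eq_one.1 h1 ▸ Subgroup.mem_top x)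
    induction l.val with
    | zero => simp [one_mem]
    | succ i ih =>
      simp only [pow_succ, Subgroup.mul_mem_iff_of_index_two hidx, ih, hxL, iff_false, Nat.even_add_one]
  have hval : ∀ l : ZMod N, l ≠ 0 →
      (c1 : (Matrix.ProjGenLinGroup (Fin 2) (ZMod p)) → ℂ) (x ^ l.val) = (-1) ^ l.val ∧ (c2 : (Matrix.ProjGenLinGroup (Fin 2) (ZMod p)) → ℂ) (x ^ l.val) = s ∧
        (c3 : (Matrix.ProjGenLinGroup (Fin 2) (ZMod p)) → ℂ) (x ^ l.val) = s * (-1) ^ l.val := by
    intro l hl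
    obtain ⟨e1, e2, e3⟩ := htor hw (x ^ l.val) (pow_mem hx _) fun e => hl
      ((pow_val_eq h2 hw hM hx hN hxo l 0).1 (by rw [e, ZMod.val_zero, pow_zero]))
    have hsg : (if x ^ l.val ∈ L (ZMod p) then (1 : ℂ) else -1) = (-1) ^ l.val := by
      by_cases he : Even l.val
      · rw [if_pos (hL.2 he), he.neg_one_pow]
      · rw [if_neg fun h => he (hL.1 h), (Nat.not_even_iff_odd.1 he).neg_one_pow]
    exact ⟨e1.trans hsg, e2, by rw [e3, hsg]⟩
  -- the half turn
  set hh : ZMod N := ((N / 2 : ℕ) : ZMod N) with hhdef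
  have hh_val : hh.val = N / 2 := ZMod.val_natCast_of_lt (by omega)
  have hh0 : hh ≠ 0 := fun e => by
    have := congrArg ZMod.val e
    rw [hh_val, ZMod.val_zero] at this
    omega
  have hh2 : hh + hh = 0 := by
    rw [hhdef, ← Nat.cast_add, show N / 2 + N / 2 = N by omega, ZMod.natCast_self]
  have hsign : ∀ l : ZMod N, ee (hh * l) = (-1 : ℂ) ^ l.val := by
    intro l
    conv_lhs => rw [← ZMod.natCast_zmod_val l, mul_comm]
    rw [← ee_pow]
    congr 1
    have h1 : ee hh ^ 2 = 1 := by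
      rw [ee_pow, Nat.cast_ofNat, two_mul, hh2]; exact AddChar.map_zero_eq_one _
    rcases sq_eq_one_iff.1 h1 with e | e
    · exact absurd (ZMod.injective_stdAddChar (e.trans (AddChar.map_zero_eq_one _).symm)) hh0
    · exact e
  -- the four against the differences
  have hd : ∀ (χ : Cfsg.IrrCharacter (Matrix.ProjGenLinGroup (Fin 2) (ZMod p))) (a b : ℂ), (∀ l : ZMod N, l ≠ 0 →
      (χ : (Matrix.ProjGenLinGroup (Fin 2) (ZMod p)) → ℂ) (x ^ l.val) = a + b * (-1) ^ l.val) → ∀ j : ZMod N, j ≠ 0 → j ≠ hh →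
      (dd x hxN 0 j χ : ℂ) = a := by
    intro χ a b hχ j hj hjh
    have hNC : (N : ℂ) ≠ 0 := Nat.cast_ne_zero.2 (NeZero.ne N)
    refine mul_left_cancel₀ hNC ?_
    rw [dd_eq hxN, Finset.sum_congr rfl (g := fun l : ZMod N =>
      (ee (l * 0) - ee (l * -j)) * a + (ee (l * hh) - ee (l * (hh - j))) * b) fun l _ => by
        by_cases hl : l = 0
        · subst hl; simp
        rw [hχ l hl, ← hsign l, show ee (l * hh) = ee (hh * l) by rw [mul_comm],
          show ee (l * (hh - j)) = ee (hh * l) * ee (-(j * l)) by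
            show ZMod.stdAddChar _ = ZMod.stdAddChar _ * ZMod.stdAddChar _
            rw [← AddChar.map_add_eq_mul]; congr 1; ring,
          show l * -j = -(j * l) by ring, zero_mul, mul_zero, neg_zero,
          show ee (0 : ZMod N) = (1 : ℂ) from AddChar.map_zero_eq_one _]
        ring]
    rw [Finset.sum_add_distrib, ← Finset.sum_mul, ← Finset.sum_mul, Finset.sum_sub_distrib,
      Finset.sum_sub_distrib, sum_ee, sum_ee, sum_ee, sum_ee, if_pos rfl, if_neg (neg_ne_zero.2 hj),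
      if_neg hh0, if_neg (sub_ne_zero.2 (Ne.symm hjh))]
    ring
  -- the index set
  set I := Fin (N / 2 - 1) with hI
  set jj : I → ZMod N := fun i => ((i.val + 1 : ℕ) : ZMod N) with hjj
  have hjv : ∀ i : I, (jj i).val = i.val + 1 := fun i =>
    ZMod.val_natCast_of_lt (by have := i.2; omega)
  have hj0 : ∀ i : I, jj i ≠ 0 := fun i e => by
    have := congrArg ZMod.val e
    rw [hjv, ZMod.val_zero] at this
    omega
  have hjh : ∀ i : I, jj i ≠ hh := fun i e => by
    have := congrArg ZMod.val e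
    rw [hjv, hh_val] at this
    have := i.2
    omega
  have hdd : ∀ i : I, dd x hxN 0 (jj i) χ0 = 1 ∧ dd x hxN 0 (jj i) c1 = 0 ∧
      dd x hxN 0 (jj i) c2 = s ∧ dd x hxN 0 (jj i) c3 = 0 := by
    intro i
    refine ⟨?_, ?_, ?_, ?_⟩ <;> apply Int.cast_injective (α := ℂ)
    · rw [hd χ0 1 0 (fun l _ => by simp [hχ0, trivIrr]) _ (hj0 i) (hjh i)]; simp
    · rw [hd c1 0 1 (fun l hl => by rw [(hval l hl).1]; ring) _ (hj0 i) (hjh i)]; simp
    · rw [hd c2 (s : ℂ) 0 (fun l hl => by rw [(hval l hl).2.1]; ring) _ (hj0 i) (hjh i)]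
    · rw [hd c3 0 (s : ℂ) (fun l hl => by rw [(hval l hl).2.2]; ring) _ (hj0 i) (hjh i)]; simp
  -- the four are distinct
  have hpC : (p : ℂ) ≠ 1 := fun e => hp.ne_one (Nat.cast_injective (R := ℂ) (by simpa using e))
  have hv1 : (1 : ZMod N).val = 1 := by
    rw [ZMod.val_one_eq_one_mod, Nat.mod_eq_of_lt (by omega)]
  have h10 : (1 : ZMod N) ≠ 0 := fun e => by
    have := congrArg ZMod.val e
    rw [hv1, ZMod.val_zero] at this
    omega
  have hne01 : χ0 ≠ c1 := fun e => by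
    have := (hval 1 h10).1
    rw [← e, hv1, hχ0] at this
    simp [trivIrr] at this
    norm_num at this
  have hne23 : c2 ≠ c3 := fun e => by
    obtain ⟨-, a, b⟩ := hval 1 h10
    rw [← e, a, hv1] at b
    rcases sgnP_eq p with h | h <;> rw [hs, h] at b <;> norm_num at b
  have hdeg0 : (χ0 : (Matrix.ProjGenLinGroup (Fin 2) (ZMod p)) → ℂ) 1 = 1 := rfl
  set A : Finset (Cfsg.IrrCharacter (Matrix.ProjGenLinGroup (Fin 2) (ZMod p))) := {χ0, c1, c2, c3} with hA
  have hAB : A ⊆ B := by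
    intro χ hχ
    simp only [hA, Finset.mem_insert, Finset.mem_singleton] at hχ
    rcases hχ with rfl | rfl | rfl | rfl
    exacts [h0B, h1B, h2B, h3B]
  have hsumA : ∀ F : Cfsg.IrrCharacter (Matrix.ProjGenLinGroup (Fin 2) (ZMod p)) → ℂ, ∑ χ ∈ A, F χ = F χ0 + F c1 + F c2 + F c3 := by
    intro F
    rw [hA, Finset.sum_insert, Finset.sum_insert, Finset.sum_pair hne23]
    · ring
    · simp only [Finset.mem_insert, Finset.mem_singleton, not_or]
      constructor <;> intro e <;> rw [e] at d1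
      · exact hpC (d2.symm.trans d1)
      · exact hpC (d3.symm.trans d1)
    · simp only [Finset.mem_insert, Finset.mem_singleton, not_or]
      refine ⟨hne01, fun e => ?_, fun e => ?_⟩ <;> rw [e] at hdeg0
      · exact hpC (d2.symm.trans hdeg0)
      · exact hpC (d3.symm.trans hdeg0)
  -- the further characters
  have hcol := fun (m l : ZMod N) (_ : m ≠ 0) (hl : l ≠ 0) => column h2 hw hM hx hN hxo hl m
  have hinv : ∀ l : ZMod N, l ≠ 0 → -1 * l ≠ 0 := fun l hl => by simpa using hl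
  have hzero : ∀ (j k : ZMod N) (l : ZMod N), ¬ l ≠ 0 → j * l = k * l := fun j k l hl => by
    rw [not_not.1 hl, mul_zero, mul_zero]
  have hprod : ∀ i k : I, ∑ χ ∈ B \ A, dd x hxN 0 (jj i) χ * dd x hxN 0 (jj k) χ =
      if i = k then 1 else 0 := by
    intro i k
    have hall := sum_dd_dd hxN (μ := -1) (by ring) (B := B) (adm := fun l => l ≠ 0)
      hcol hinv (hzero 0 (jj i)) (hzero 0 (jj k))
    have hsp := Finset.sum_sdiff hAB (f := fun χ => dd x hxN 0 (jj i) χ * dd x hxN 0 (jj k) χ)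
    have hAs : ∑ χ ∈ A, dd x hxN 0 (jj i) χ * dd x hxN 0 (jj k) χ = 2 := by
      apply Int.cast_injective (α := ℂ)
      push_cast
      rw [hsumA, (hdd i).1, (hdd i).2.1, (hdd i).2.2.1, (hdd i).2.2.2, (hdd k).1, (hdd k).2.1,
        (hdd k).2.2.1, (hdd k).2.2.2]
      rcases sgnP_eq p with h | h <;> rw [hs, h] <;> norm_num
    have hik : jj i = jj k ↔ i = k := ⟨fun e => Fin.ext (by
      have := congrArg ZMod.val e; rw [hjv, hjv] at this; omega), fun e => e ▸ rfl⟩
    have hne : ∀ a b : I, -1 * jj a ≠ jj b := fun a b e => by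
      have e' : jj a + jj b = 0 := by rw [← e]; ring
      have := congrArg ZMod.val e'
      rw [ZMod.val_add, hjv, hjv, ZMod.val_zero, Nat.mod_eq_of_lt (by have := a.2; have := b.2; omega)]
        at this
      omega
    have h01 : ∀ a : I, -1 * jj a ≠ 0 := fun a => hinv _ (hj0 a)
    rw [hall, hAs, mul_zero, if_pos rfl, if_neg (hj0 k).symm, if_neg (hj0 i), if_neg (h01 i),
      if_neg (hne i k), if_congr hik rfl rfl] at hsp
    linarith
  have hex : ∀ i : I, ∃ χ ∈ B \ A, (dd x hxN 0 (jj i) χ = 1 ∨ dd x hxN 0 (jj i) χ = -1) ∧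
      ∀ θ ∈ B \ A, θ ≠ χ → dd x hxN 0 (jj i) θ = 0 := fun i =>
    exists_unit (by rw [hprod, if_pos rfl])
  choose Y hYB hY1 hY0 using hex
  have hYinj : Function.Injective Y := by
    intro i k e
    by_contra hne
    have h := hprod i k
    rw [if_neg hne, Finset.sum_eq_single_of_mem (Y i) (hYB i) fun θ hθ hθ' => by
      rw [hY0 i θ hθ hθ', zero_mul]] at h
    rcases mul_eq_zero.1 h with h | h
    · rcases hY1 i with h' | h' <;> omega
    · rw [e] at h; rcases hY1 k with h' | h' <;> omega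
  have hpair : ∀ (i : I) (g : (Matrix.ProjGenLinGroup (Fin 2) (ZMod p))), ∑ χ ∈ B, (dd x hxN 0 (jj i) χ : ℂ) * conj ((χ : (Matrix.ProjGenLinGroup (Fin 2) (ZMod p)) → ℂ) g) =
      conj ((χ0 : (Matrix.ProjGenLinGroup (Fin 2) (ZMod p)) → ℂ) g) + (s : ℂ) * conj ((c2 : (Matrix.ProjGenLinGroup (Fin 2) (ZMod p)) → ℂ) g) +
        (dd x hxN 0 (jj i) (Y i) : ℂ) * conj ((Y i : (Matrix.ProjGenLinGroup (Fin 2) (ZMod p)) → ℂ) g) := by
    intro i g
    rw [← Finset.sum_sdiff hAB, hsumA, (hdd i).1, (hdd i).2.1, (hdd i).2.2.1, (hdd i).2.2.2,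
      Finset.sum_eq_single_of_mem (Y i) (hYB i) fun θ hθ hθ' => by
        rw [hY0 i θ hθ hθ', Int.cast_zero, zero_mul]]
    push_cast
    ring
  have hreg0 : ∀ g : (Matrix.ProjGenLinGroup (Fin 2) (ZMod p)), ¬ 2 ∣ orderOf g → ∀ i : I,
      ∑ χ ∈ B, (dd x hxN 0 (jj i) χ : ℂ) * conj ((χ : (Matrix.ProjGenLinGroup (Fin 2) (ZMod p)) → ℂ) g) = 0 := by
    intro g hg i
    refine sum_dd_col_zero hxN (adm := fun l => l ≠ 0) (fun l hl => ?_) (hzero _ _)
    have h := sum_block_reg_sing hM (intEl_blockIdem hM (isPBlock_principal M (Matrix.ProjGenLinGroup (Fin 2) (ZMod p)))) hg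
      (orderOf_even h2 hw hM hx hN hxo hl)
    rw [ZStar.Principal.finsum_mem_eq_sum_filter] at h
    have h' := congrArg conj h
    rw [map_sum, map_zero] at h'
    rw [← h']
    exact Finset.sum_congr rfl fun χ _ => by rw [map_mul, Complex.conj_conj, mul_comm]
  have hYval : ∀ i : I, (Y i : (Matrix.ProjGenLinGroup (Fin 2) (ZMod p)) → ℂ) 1 = (p : ℂ) + s ∧ (Y i : (Matrix.ProjGenLinGroup (Fin 2) (ZMod p)) → ℂ) uu = s := by
    intro i
    have e1 := hreg0 1 (by simp) i
    rw [hpair, hdeg0, d2, ← charDegree_cast] at e1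
    simp only [map_one, map_natCast] at e1
    have hdY : dd x hxN 0 (jj i) (Y i) = -s := by
      have hZ : (1 : ℤ) + s * p + dd x hxN 0 (jj i) (Y i) *
          (Cfsg.charDegree (Y i : (Matrix.ProjGenLinGroup (Fin 2) (ZMod p)) → ℂ) : ℤ) = 0 := by exact_mod_cast e1
      have hpos := charDegree_pos (Y i)
      have hp2 := hp.two_le
      rcases sgnP_eq p with h | h <;> rcases hY1 i with h' | h' <;>
        rw [hs] at hZ ⊢ <;> rw [h, h'] at hZ <;> rw [h, h'] <;> omega
    refine ⟨?_, ?_⟩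
    · rw [← charDegree_cast]
      rw [hdY] at e1
      push_cast at e1
      rcases sgnP_eq p with h | h <;> rw [hs, h] at e1 ⊢ <;> push_cast at e1 ⊢
      · linear_combination -e1
      · linear_combination e1
    · have e2 := hreg0 uu (by rw [orderOf_uu]; omega) i
      rw [hpair, hdY, u2] at e2
      simp only [hχ0, trivIrr, map_one, map_zero, mul_zero, add_zero, Int.cast_neg] at e2
      have hs2 : (s : ℂ) * s = 1 := by rcases sgnP_eq p with h | h <;> rw [hs, h] <;> norm_num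
      have h3 : conj ((Y i : (Matrix.ProjGenLinGroup (Fin 2) (ZMod p)) → ℂ) uu) = (s : ℂ) := by linear_combination (-(s : ℂ)) * e2 -
        (conj ((Y i : (Matrix.ProjGenLinGroup (Fin 2) (ZMod p)) → ℂ) uu)) * hs2
      have h4 := congrArg conj h3
      rwa [Complex.conj_conj, map_intCast] at h4
  -- completeness
  have hzb : x ^ hh.val = zb w := (pow_val_zb h2 hw hM hx hN hxo hh).2 ⟨hh0, hh2⟩
  set Ys := Finset.univ.image Y with hYs
  have hYsB : Ys ⊆ B \ A := fun χ hχ => by
    obtain ⟨i, -, rfl⟩ := Finset.mem_image.1 hχ; exact hYB i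
  have hrest : B \ A ⊆ Ys := by
    by_contra hnot
    obtain ⟨θ, hθ, hθY⟩ := Finset.not_subset.1 hnot
    have hnorm := column h2 hw hM hx hN hxo hh0 hh
    rw [if_pos rfl, if_pos (by rw [neg_one_mul]; exact (neg_eq_of_add_eq_zero_right hh2).symm)]
      at hnorm
    simp only [hzb, Complex.mul_conj', ← Complex.ofReal_pow, ← Complex.ofReal_sum] at hnorm
    have hR : ∑ χ ∈ B, ‖(χ : (Matrix.ProjGenLinGroup (Fin 2) (ZMod p)) → ℂ) (zb w)‖ ^ 2 = (N : ℝ) * 2 := by
      apply Complex.ofReal_injective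
      rw [hnorm]
      push_cast
      norm_num
    have hA4 : ∀ χ ∈ A, ‖(χ : (Matrix.ProjGenLinGroup (Fin 2) (ZMod p)) → ℂ) (zb w)‖ = 1 := by
      intro χ hχ
      obtain ⟨a, b, c⟩ := hval hh hh0
      rw [hzb] at a b c
      simp only [hA, Finset.mem_insert, Finset.mem_singleton] at hχ
      rcases hχ with rfl | rfl | rfl | rfl
      · simp [hχ0, trivIrr]
      · rw [a]; simp
      · rw [b]; rcases sgnP_eq p with h | h <;> rw [hs, h] <;> simp
      · rw [c]; rcases sgnP_eq p with h | h <;> rw [hs, h] <;> simp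
    have hY2 : ∀ i : I, ‖(Y i : (Matrix.ProjGenLinGroup (Fin 2) (ZMod p)) → ℂ) (zb w)‖ = 2 := by
      intro i
      have e := sum_dd_col hxN (μ := -1) (by ring) (B := B) (adm := fun l => l ≠ 0) hcol
        (hzero 0 (jj i)) hinv hh0
      rw [hpair, (hval hh hh0).2.1, hzb] at e
      simp only [hχ0, trivIrr, map_one, map_intCast, zero_mul, mul_zero, neg_zero] at e
      have hhneg : -hh = hh := neg_eq_of_add_eq_zero_right hh2
      have hjn : ee (-(jj i * hh)) = (-1 : ℂ) ^ (i.val + 1) := by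
        rw [show -(jj i * hh) = hh * jj i by
          rw [mul_comm, ← neg_mul, hhneg], hsign, hjv]
      have hjn' : ee (-(-1 * jj i * hh)) = (-1 : ℂ) ^ (i.val + 1) := by
        rw [show -(-1 * jj i * hh) = hh * jj i by ring, hsign, hjv]
      rw [show ee (0 : ZMod N) = (1 : ℂ) from AddChar.map_zero_eq_one _, hjn, hjn'] at e
      have hs2 : (s : ℂ) * s = 1 := by rcases sgnP_eq p with h | h <;> rw [hs, h] <;> norm_num
      have h3 : (dd x hxN 0 (jj i) (Y i) : ℂ) * conj ((Y i : (Matrix.ProjGenLinGroup (Fin 2) (ZMod p)) → ℂ) (zb w)) =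
          -2 * (-1) ^ (i.val + 1) := by linear_combination e - hs2
      have h4 := congrArg (fun v => ‖v‖) h3
      simp only [norm_mul, norm_pow, norm_neg, norm_one, one_pow, mul_one, Complex.norm_conj,
        Complex.norm_ofNat] at h4
      rcases hY1 i with h' | h' <;> rw [h'] at h4 <;> simpa using h4
    have hθ0 : ‖(θ : (Matrix.ProjGenLinGroup (Fin 2) (ZMod p)) → ℂ) (zb w)‖ ≠ 0 := by
      refine norm_ne_zero_iff.2 (value_ne_zero_of_odd_class hM ?_ (memB.1 (Finset.mem_sdiff.1 hθ).1))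
      rw [cent_zb h2 hw]
      intro hd2
      have h := (torusN w).index_mul_card
      rw [card_torusN h2 hw, card_PP] at h
      obtain ⟨i, hi⟩ := hd2
      have hc := card_torus h2 hw
      have h4 := four_dvd_torus h2 hw
      have hp2 := hp.two_le
      rw [hi] at h
      unfold sgnP at hc
      split_ifs at hc with hp4
      · have hc' : Nat.card (torus w) = p - 1 := by omega
        rw [hc'] at h
        have hh' : (p - 1) * (4 * i) = (p - 1) * (p * (p + 1)) := by linarith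
        have := Nat.eq_of_mul_eq_mul_left (by omega) hh'
        have h3 : p * (p + 1) % 4 = 2 := by rw [Nat.mul_mod, Nat.add_mod, hp4]
        omega
      · have hc' : Nat.card (torus w) = p + 1 := by omega
        rw [hc'] at h
        have hh' : (p + 1) * (4 * i) = (p + 1) * (p * (p - 1)) := by linarith
        have := Nat.eq_of_mul_eq_mul_left (by omega) hh'
        have h3 : p * (p - 1) % 4 = 2 := by
          rw [Nat.mul_mod, show p % 4 = 3 by omega, show (p - 1) % 4 = 2 by omega]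
        omega
    have hsub : A ∪ Ys ∪ {θ} ⊆ B := by
      refine Finset.union_subset (Finset.union_subset hAB (hYsB.trans Finset.sdiff_subset)) ?_
      exact Finset.singleton_subset_iff.2 (Finset.mem_sdiff.1 hθ).1
    have hd1 : Disjoint A Ys := Finset.disjoint_left.2 fun χ hχ hχ' =>
      (Finset.mem_sdiff.1 (hYsB hχ')).2 hχ
    have hd2 : Disjoint (A ∪ Ys) {θ} := by
      rw [Finset.disjoint_singleton_right, Finset.mem_union, not_or]
      exact ⟨(Finset.mem_sdiff.1 hθ).2, hθY⟩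
    have hle := Finset.sum_le_sum_of_subset_of_nonneg hsub
      (f := fun χ : Cfsg.IrrCharacter (Matrix.ProjGenLinGroup (Fin 2) (ZMod p)) => ‖(χ : (Matrix.ProjGenLinGroup (Fin 2) (ZMod p)) → ℂ) (zb w)‖ ^ 2) fun χ _ _ => sq_nonneg _
    have hsA : ∑ χ ∈ A, ‖(χ : (Matrix.ProjGenLinGroup (Fin 2) (ZMod p)) → ℂ) (zb w)‖ ^ 2 = ∑ χ ∈ A, (1 : ℝ) :=
      Finset.sum_congr rfl fun χ hχ => by rw [hA4 χ hχ, one_pow]
    have hsY : ∑ i : I, ‖(Y i : (Matrix.ProjGenLinGroup (Fin 2) (ZMod p)) → ℂ) (zb w)‖ ^ 2 = ∑ i : I, (4 : ℝ) :=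
      Finset.sum_congr rfl fun i _ => by rw [hY2 i]; norm_num
    rw [hR, Finset.sum_union hd2, Finset.sum_union hd1, Finset.sum_singleton, hsA,
      Finset.sum_image fun a _ b _ e => hYinj e, hsY,
      Finset.sum_const, Finset.sum_const, Finset.card_univ, Fintype.card_fin] at hle
    have hA4' : A.card = 4 := by
      have h := hsumA fun _ => 1
      rw [Finset.sum_const, nsmul_eq_mul, mul_one] at h
      norm_num at h
      exact_mod_cast h
    rw [hA4', nsmul_eq_mul, nsmul_eq_mul] at hle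
    have hpos : 0 < ‖(θ : (Matrix.ProjGenLinGroup (Fin 2) (ZMod p)) → ℂ) (zb w)‖ ^ 2 := by positivity
    obtain ⟨m, hm⟩ := hN2
    have hcast : ((N / 2 - 1 : ℕ) : ℝ) = (N : ℝ) / 2 - 1 := by
      rw [hm, Nat.mul_div_cancel_left m two_pos, Nat.cast_sub (by omega)]
      push_cast
      ring
    rw [hcast] at hle
    push_cast at hle
    linarith
  have hBA : B \ A = Ys := Finset.Subset.antisymm hrest hYsB
  have htot : ∀ F : Cfsg.IrrCharacter (Matrix.ProjGenLinGroup (Fin 2) (ZMod p)) → ℂ,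
      ∑ χ ∈ B, F χ = F χ0 + F c1 + F c2 + F c3 + ∑ i : I, F (Y i) := by
    intro F
    rw [← Finset.sum_sdiff hAB, hsumA, hBA, Finset.sum_image fun a _ b _ e => hYinj e]
    ring
  have hcastI : ((N / 2 - 1 : ℕ) : ℂ) = (N : ℂ) / 2 - 1 := by
    obtain ⟨m, hm⟩ := hN2
    rw [hm, Nat.mul_div_cancel_left m two_pos, Nat.cast_sub (by omega)]
    push_cast
    ring
  have hu0 : (χ0 : (Matrix.ProjGenLinGroup (Fin 2) (ZMod p)) → ℂ) uu = 1 := rfl
  refine ⟨?_, ?_, ?_⟩ <;>
    simp only [htot, hdeg0, hu0, d1, d2, d3, u1, u2, u3, (hYval _).1, (hYval _).2, map_one, map_zero,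
      map_natCast, map_add, map_intCast, Finset.sum_const, Finset.card_univ, hI, Fintype.card_fin,
      nsmul_eq_mul, hcastI] <;>
    rcases sgnP_eq p with h | h <;> rw [hs, h] <;> push_cast <;> ring

end rot

end Cfsg.Agent.CycSD.XBlock
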