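import Mathlib
import Cfsg.Agent.Lib.CycSD.Data
import Cfsg.Agent.Lib.CycSD.XBlock
import Cfsg.Agent.Lib.CycSD.Deflate
import Cfsg.Agent.Lib.Blocks.Semidihedral.Group
import Cfsg.Agent.Lib.Involutions.CentralizerInvolution

/-!
# The group around the central involution
-/

set_option autoImplicit false
set_option linter.unusedSectionVars false
set_option linter.style.haveILetI false

namespace Cfsg.Agent.CycSD

open Cfsg.Agent.Blocks Cfsg.Agent.Involutions
open scoped MatrixGroups Pointwise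

universe u

variable {G : Type u} [Group G] [Finite G] (D : Data G)

namespace Data

theorem eight_le : 8 ≤ D.N := by
  obtain ⟨j, hj, hN⟩ := D.N_pow
  rw [hN]
  calc (8 : ℕ) = 2 ^ 3 := rfl
    _ ≤ 2 ^ j := Nat.pow_le_pow_right two_pos hj

theorem four_dvd : 4 ∣ D.N := by
  obtain ⟨j, hj, hN⟩ := D.N_pow
  exact hN ▸ dvd_trans (by norm_num : 4 ∣ 2 ^ 2) (pow_dvd_pow 2 (by omega))

instance neZero : NeZero D.N := ⟨by have := D.eight_le; omega⟩

theorem pow_N : D.σ ^ D.N = 1 := by rw [← D.order_σ, pow_orderOf_eq_one]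

theorem z_sq : D.z * D.z = 1 := by
  rw [z, ← pow_add, show D.N / 2 + D.N / 2 = D.N by have := D.four_dvd; omega, D.pow_N]

theorem orderOf_z : orderOf D.z = 2 := by
  refine orderOf_eq_prime ((pow_two _).trans D.z_sq) ?_
  have := D.eight_le
  exact pow_ne_one_of_lt_orderOf (by omega) (by rw [D.order_σ]; omega)

/-- The rotation in the Sylow subgroup. -/
def rS : (D.S : Subgroup G) := ⟨D.σ, D.σ_mem⟩

/-- The reflection in the Sylow subgroup. -/
def tS : (D.S : Subgroup G) := ⟨D.t, D.t_mem⟩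

theorem orderOf_rS : orderOf D.rS = D.N := by rw [← Subgroup.orderOf_coe]; exact D.order_σ

theorem tS_notMem : D.tS ∉ Subgroup.zpowers D.rS := fun h => D.t_notMem (by
  obtain ⟨k, hk⟩ := Subgroup.mem_zpowers_iff.1 h
  exact Subgroup.mem_zpowers_iff.2 ⟨k, congrArg Subtype.val hk⟩)

theorem sd : Semidihedral.IsSD (D.S : Subgroup G) D.rS D.N := by
  have hR : Nat.card (Subgroup.zpowers D.rS) = D.N := by rw [Nat.card_zpowers, D.orderOf_rS]
  have hidx : (Subgroup.zpowers D.rS).index = 2 := by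
    have h := (Subgroup.zpowers D.rS).index_mul_card
    rw [hR, D.card_S] at h
    exact Nat.eq_of_mul_eq_mul_right (by have := D.eight_le; omega) h
  have hform : ∀ w : (D.S : Subgroup G), w ∉ Subgroup.zpowers D.rS → ∃ k : ℕ, w = D.rS ^ k * D.tS := by
    intro w hw
    have h : w * D.tS⁻¹ ∈ Subgroup.zpowers D.rS := by
      rw [Subgroup.mul_mem_iff_of_index_two hidx]
      exact iff_of_false hw fun h => D.tS_notMem (inv_mem_iff.1 h)
    obtain ⟨k, hk⟩ := mem_powers_iff_mem_zpowers.2 h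
    exact ⟨k, by rw [show D.rS ^ k = w * D.tS⁻¹ from hk, inv_mul_cancel_right]⟩
  have htt : D.tS * D.tS = 1 := Subtype.ext D.t_sq
  have hconj : D.tS * D.rS * D.tS⁻¹ = D.rS ^ (D.N / 2 - 1) := Subtype.ext D.rel
  refine ⟨D.orderOf_rS, D.N_pow, D.card_S, fun w hw => ?_, fun w hw => ?_, ⟨D.tS, D.tS_notMem, htt⟩⟩
  · obtain ⟨k, rfl⟩ := hform w hw
    rw [mul_inv_rev, show D.rS ^ k * D.tS * D.rS * (D.tS⁻¹ * (D.rS ^ k)⁻¹) =
      D.rS ^ k * (D.tS * D.rS * D.tS⁻¹) * (D.rS ^ k)⁻¹ by group, hconj, ← pow_add, add_comm,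
      pow_add, mul_inv_cancel_right]
  · obtain ⟨k, rfl⟩ := hform w hw
    have hsq : D.rS ^ k * D.tS * (D.rS ^ k * D.tS) = (D.rS ^ (D.N / 2)) ^ k := by
      rw [show D.rS ^ k * D.tS * (D.rS ^ k * D.tS) =
        D.rS ^ k * (D.tS * D.rS ^ k * D.tS⁻¹) * (D.tS * D.tS) by group, htt, mul_one, ← conj_pow,
        hconj, ← pow_mul, ← pow_add, ← pow_mul]
      congr 1
      obtain ⟨q, hq⟩ : ∃ q, D.N / 2 = q + 1 := ⟨D.N / 2 - 1, by have := D.eight_le; omega⟩
      rw [hq, Nat.add_sub_cancel]; ring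
    have hz : D.rS ^ (D.N / 2) * D.rS ^ (D.N / 2) = 1 := Subtype.ext D.z_sq
    rw [hsq]
    rcases Nat.even_or_odd' k with ⟨i, rfl | rfl⟩
    · left; rw [pow_mul, pow_two, hz, one_pow]
    · right; rw [pow_succ, pow_mul, pow_two, hz, one_pow, one_mul]

/-- The generators in the form used for fusion. -/
noncomputable def gens : QuasiDihedral.Gens (D.S : Subgroup G) where
  n := D.N_pow.choose
  hn := D.N_pow.choose_spec.1
  hcard := by rw [D.card_S, pow_succ', ← D.N_pow.choose_spec.2]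
  x := D.rS
  y := D.tS
  hx := D.orderOf_rS.trans D.N_pow.choose_spec.2
  hy := orderOf_eq_prime ((pow_two _).trans (Subtype.ext D.t_sq)) fun h =>
    D.tS_notMem (h ▸ one_mem _)
  hxy := by
    have e : D.N / 2 = 2 ^ (D.N_pow.choose - 1) := by
      conv_lhs => rw [D.N_pow.choose_spec.2]
      rw [Nat.div_eq_iff_eq_mul_left two_pos (dvd_pow_self 2 (by
        have := D.N_pow.choose_spec.1; omega)), ← pow_succ, Nat.sub_add_cancel (by
        have := D.N_pow.choose_spec.1; omega)]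
    exact Subtype.ext (e ▸ D.rel)

theorem gens_z : (D.gens.z : G) = D.z := by
  have e : (2 : ZMod (2 ^ D.gens.n)) ^ (D.gens.n - 1) = ((2 ^ (D.gens.n - 1) : ℕ) : ZMod _) := by
    push_cast; rfl
  rw [QuasiDihedral.Gens.z, QuasiDihedral.Gens.h, e, D.gens.P_natCast, z]
  show (D.σ) ^ (2 ^ (D.gens.n - 1)) = _
  congr 1
  have h2 : D.N = 2 ^ (D.gens.n - 1) * 2 := by
    rw [← pow_succ, Nat.sub_add_cancel D.gens.n1]; exact D.N_pow.choose_spec.2
  rw [h2, Nat.mul_div_cancel _ two_pos]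

/-! ## Simplicity -/

section simple

variable [IsSimpleGroup G]
include D

theorem not_comm : ¬ ∀ a b : G, a * b = b * a := fun h => by
  have h1 := D.rel
  rw [h D.t, mul_inv_cancel_right] at h1
  have hq := D.eight_le
  have h2 : orderOf (D.σ ^ (D.N / 2 - 2)) = 1 := by
    rw [orderOf_eq_one_iff]
    refine mul_left_cancel (a := D.σ) ?_
    rw [← pow_succ', mul_one, show D.N / 2 - 2 + 1 = D.N / 2 - 1 by omega, ← h1]
  rw [orderOf_eq_one_iff, ← orderOf_dvd_iff_pow_eq_one, D.order_σ] at h2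
  exact absurd (Nat.le_of_dvd (by omega) h2) (by omega)

theorem no_index_two (H : Subgroup G) : H.index ≠ 2 := fun h => by
  haveI := Subgroup.normal_of_index_eq_two h
  rcases Subgroup.Normal.eq_bot_or_eq_top (H := H) inferInstance with rfl | rfl
  · rw [Subgroup.index_bot] at h
    haveI : Fact (Nat.Prime 2) := ⟨Nat.prime_two⟩
    exact D.not_comm fun a b => (isCyclic_of_prime_card h).commGroup.mul_comm a b
  · simp at h

theorem one_class {τ : G} (h : orderOf τ = 2) : IsConj τ D.z := by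
  have := CentralizerInvolution.qd_one_class D.gens D.no_index_two h
  rwa [D.gens_z] at this

end simple

/-! ## Rotations -/

theorem pow_eq_pow {a b : ℕ} : D.σ ^ a = D.σ ^ b ↔ (a : ZMod D.N) = b := by
  rw [pow_eq_pow_iff_modEq, D.order_σ, ZMod.natCast_eq_natCast_iff]

theorem pow_val_eq {a b : ZMod D.N} : D.σ ^ a.val = D.σ ^ b.val ↔ a = b := by
  rw [D.pow_eq_pow, ZMod.natCast_zmod_val, ZMod.natCast_zmod_val]

theorem isPElement (l : ℕ) : ∃ k : ℕ, orderOf (D.σ ^ l) = 2 ^ k := by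
  obtain ⟨j, -, hN⟩ := D.N_pow
  obtain ⟨k, -, hk⟩ := (Nat.dvd_prime_pow Nat.prime_two).1
    ((orderOf_pow_dvd (x := D.σ) l).trans (D.order_σ.trans hN).dvd)
  exact ⟨k, hk⟩

theorem z_mem_zpowers {l : ℕ} (hl : ¬ D.N ∣ 2 * l) : D.z ∈ Subgroup.zpowers (D.σ ^ l) := by
  have h := D.sd.z_mem_of_rot (t := D.rS ^ l) (Subgroup.npow_mem_zpowers _ _) fun e => hl (by
    rw [D.sd.pow_eq_one] at e
    exact e.mul_left 2)
  obtain ⟨k, hk⟩ := Subgroup.mem_zpowers_iff.1 h
  exact Subgroup.mem_zpowers_iff.2 ⟨k, congrArg Subtype.val hk⟩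

theorem cent_le {l : ℕ} (hl : ¬ D.N ∣ 2 * l) :
    Subgroup.centralizer ({D.σ ^ l} : Set G) ≤ Subgroup.centralizer ({D.z} : Set G) := fun g hg => by
  obtain ⟨k, hk⟩ := Subgroup.mem_zpowers_iff.1 (D.z_mem_zpowers hl)
  rw [Subgroup.mem_centralizer_singleton_iff] at hg ⊢
  rw [← hk]
  exact ((show Commute g (D.σ ^ l) from hg).zpow_right k).eq

theorem S_le_cent : (D.S : Subgroup G) ≤ Subgroup.centralizer ({D.z} : Set G) := fun s hs =>
  Subgroup.mem_centralizer_singleton_iff.2 (congrArg Subtype.val (D.sd.z_central ⟨s, hs⟩))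

theorem factorization_G : (Nat.card G).factorization 2 = D.N.factorization 2 + 1 := by
  haveI : Fact (Nat.Prime 2) := ⟨Nat.prime_two⟩
  have h := D.S.card_eq_multiplicity
  rw [D.card_S] at h
  rw [← (Nat.prime_two).factorization_pow (k := (Nat.card G).factorization 2) |> (congrArg (· 2)) |>.trans
    (Finsupp.single_eq_same), ← h, Nat.factorization_mul two_ne_zero (NeZero.ne _),
    Finsupp.add_apply, Nat.prime_two.factorization_self, add_comm]

theorem factorization_C :
    (Nat.card (Subgroup.centralizer ({D.z} : Set G))).factorization 2 = D.N.factorization 2 + 1 := by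
  refine le_antisymm ?_ ?_
  · rw [← D.factorization_G]
    exact Finsupp.le_def.1 ((Nat.factorization_le_iff_dvd Nat.card_pos.ne' Nat.card_pos.ne').2
      (Subgroup.card_subgroup_dvd_card _)) 2
  · have h := (Nat.factorization_le_iff_dvd Nat.card_pos.ne' Nat.card_pos.ne').2
      (Subgroup.card_dvd_of_le D.S_le_cent) 2
    rwa [D.card_S, Nat.factorization_mul two_ne_zero (NeZero.ne _),
      Finsupp.add_apply, Nat.prime_two.factorization_self, add_comm] at h

theorem index_C_odd : ¬ 2 ∣ (Subgroup.centralizer ({D.z} : Set G)).index := fun h => by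
  have e := congrArg (fun n => n.factorization 2)
    (Subgroup.centralizer ({D.z} : Set G)).card_mul_index
  simp only [Nat.factorization_mul Nat.card_pos.ne' Subgroup.index_ne_zero_of_finite,
    Finsupp.add_apply, D.factorization_C, D.factorization_G] at e
  have := (Nat.prime_two.dvd_iff_one_le_factorization Subgroup.index_ne_zero_of_finite).1 h
  omega

theorem card_cent_two {l : ℕ} (hl : ¬ D.N ∣ 2 * l) :
    (Nat.card (Subgroup.centralizer ({D.σ ^ l} : Set G))).factorization 2 = D.N.factorization 2 := by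
  haveI : Fact (Nat.Prime 2) := ⟨Nat.prime_two⟩
  set C := Subgroup.centralizer ({D.σ ^ l} : Set G) with hC
  have hσC : Subgroup.zpowers D.σ ≤ C := Subgroup.zpowers_le.2
    (Subgroup.mem_centralizer_singleton_iff.2 ((Commute.refl D.σ).pow_right l).eq)
  refine le_antisymm ?_ ?_
  · by_contra hgt
    push Not at hgt
    obtain ⟨P⟩ := (Sylow.nonempty : Nonempty (Sylow 2 C))
    have hcard : Nat.card ((P : Subgroup C).map C.subtype) = Nat.card (D.S : Subgroup G) := by
      rw [Subgroup.card_map_of_injective C.subtype_injective, P.card_eq_multiplicity,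
        D.S.card_eq_multiplicity, D.factorization_G]
      congr 1
      have hle := Finsupp.le_def.1 ((Nat.factorization_le_iff_dvd Nat.card_pos.ne' Nat.card_pos.ne').2
        (Subgroup.card_subgroup_dvd_card C)) 2
      rw [D.factorization_G] at hle
      omega
    let R : Sylow 2 G := Sylow.ofCard _ (hcard.trans D.S.card_eq_multiplicity)
    obtain ⟨g, hg⟩ := MulAction.exists_smul_eq G R D.S
    have hx : D.σ ^ l ∈ C := hσC (Subgroup.npow_mem_zpowers _ _)
    have hxP : (⟨_, hx⟩ : C) ∈ (P : Subgroup C) := by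
      have hn : (Subgroup.zpowers (⟨_, hx⟩ : C)).Normal := ⟨fun a ha c => by
        obtain ⟨i, rfl⟩ := Subgroup.mem_zpowers_iff.1 ha
        have hcomm : Commute c (⟨_, hx⟩ : C) := Subtype.ext
          (Subgroup.mem_centralizer_singleton_iff.1 c.2)
        rw [(hcomm.zpow_right i).eq, mul_inv_cancel_right]
        exact Subgroup.zpow_mem_zpowers _ _⟩
      have hp : IsPGroup 2 (Subgroup.zpowers (⟨_, hx⟩ : C)) := by
        obtain ⟨k, hk⟩ := D.isPElement l
        exact IsPGroup.of_card (n := k) (by rw [Nat.card_zpowers, ← Subgroup.orderOf_coe]; exact hk)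
      exact hp.le_sylow_of_normal P (Subgroup.mem_zpowers _)
    have hxS : g * D.σ ^ l * g⁻¹ ∈ (D.S : Subgroup G) := by
      rw [← hg]
      exact ⟨D.σ ^ l, ⟨_, hxP, rfl⟩, rfl⟩
    have hcen : ∀ a : (D.S : Subgroup G), Commute (⟨_, hxS⟩ : (D.S : Subgroup G)) a := by
      rintro ⟨a, ha⟩
      obtain ⟨b, hb, rfl⟩ : ∃ b ∈ ((P : Subgroup C).map C.subtype), g * b * g⁻¹ = a := by
        rw [← hg] at ha
        obtain ⟨b, hb, hba⟩ := ha
        exact ⟨b, hb, hba⟩
      obtain ⟨c, -, rfl⟩ := hb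
      refine Subtype.ext ?_
      show g * D.σ ^ l * g⁻¹ * (g * (c : G) * g⁻¹) = g * (c : G) * g⁻¹ * (g * D.σ ^ l * g⁻¹)
      rw [show g * D.σ ^ l * g⁻¹ * (g * (c : G) * g⁻¹) = g * (D.σ ^ l * (c : G)) * g⁻¹ by group,
        ← Subgroup.mem_centralizer_singleton_iff.1 c.2]
      group
    have hsq : (D.σ ^ l) * (D.σ ^ l) = 1 := by
      refine (MulAut.conj g).injective ?_
      rw [map_mul, map_one]
      show g * D.σ ^ l * g⁻¹ * (g * D.σ ^ l * g⁻¹) = 1
      rcases D.gens.eq_center hcen with e | e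
      · rw [show g * D.σ ^ l * g⁻¹ = ((1 : (D.S : Subgroup G)) : G) from congrArg Subtype.val e,
          Subgroup.coe_one, one_mul]
      · rw [show g * D.σ ^ l * g⁻¹ = (D.gens.z : G) from congrArg Subtype.val e, D.gens_z, D.z_sq]
    refine hl ?_
    rwa [← pow_add, ← two_mul, ← orderOf_dvd_iff_pow_eq_one, D.order_σ] at hsq
  · have h := (Nat.factorization_le_iff_dvd Nat.card_pos.ne' Nat.card_pos.ne').2
      (Subgroup.card_dvd_of_le hσC) 2
    rwa [Nat.card_zpowers, D.order_σ] at h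

/-- The normal 2-complement of the centraliser of a rotation of order at least four. -/
theorem exists_complement {l : ℕ} (hl : ¬ D.N ∣ 2 * l) :
    ∃ N0 : Subgroup (Subgroup.centralizer ({D.σ ^ l} : Set G)), N0.Normal ∧
      ¬ 2 ∣ Nat.card N0 ∧ N0.index = D.N := by
  haveI : Fact (Nat.Prime 2) := ⟨Nat.prime_two⟩
  set C := Subgroup.centralizer ({D.σ ^ l} : Set G)
  have hσC : Subgroup.zpowers D.σ ≤ C := Subgroup.zpowers_le.2
    (Subgroup.mem_centralizer_singleton_iff.2 ((Commute.refl D.σ).pow_right l).eq)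
  have hc : Nat.card ((Subgroup.zpowers D.σ).subgroupOf C) = D.N := by
    rw [Nat.card_congr (Subgroup.subgroupOfEquivOfLe hσC).toEquiv, Nat.card_zpowers, D.order_σ]
  obtain ⟨j, hj, hN⟩ := D.N_pow
  have hN2 : D.N.factorization 2 = j := by rw [hN, Nat.prime_two.factorization_pow]; simp
  let P : Sylow 2 C := Sylow.ofCard _ (hc.trans (by rw [D.card_cent_two hl, hN2, hN]))
  have hP : IsCyclic (P : Subgroup C) :=
    (Subgroup.subgroupOfEquivOfLe hσC).symm.isCyclic.1 inferInstance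
  have h2 : 2 ∣ Nat.card C := by
    refine dvd_trans ?_ (Subgroup.card_dvd_of_le hσC)
    rw [Nat.card_zpowers, D.order_σ]; exact (dvd_trans (by norm_num) D.four_dvd)
  have hmin : (Nat.card C).minFac = 2 := (Nat.minFac_eq_two_iff _).2 h2
  have hcomp := IsCyclic.isComplement' (P := P) hmin hP
  refine ⟨(MonoidHom.transferSylow P (hP.normalizer_le_centralizer hmin)).ker, MonoidHom.normal_ker _, ?_, ?_⟩
  · exact MonoidHom.not_dvd_card_ker_transferSylow P (hP.normalizer_le_centralizer hmin)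
  · rw [hcomp.symm.index_eq_card]; exact hc

theorem conj_rot {g : G} (h : g * D.σ * g⁻¹ ∈ Subgroup.zpowers D.σ) :
    g * D.σ * g⁻¹ = D.σ ∨ g * D.σ * g⁻¹ = D.σ ^ (D.N / 2 - 1) := by
  haveI : Fact (Nat.Prime 2) := ⟨Nat.prime_two⟩
  set A := Subgroup.zpowers D.σ
  have hmap : A.map (MulAut.conj g).toMonoidHom = A := by
    refine Subgroup.eq_of_le_of_card_ge ?_
      (Subgroup.card_map_of_injective (MulAut.conj g).injective).ge
    rw [MonoidHom.map_zpowers]
    exact Subgroup.zpowers_le.2 h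
  have hg : g ∈ Subgroup.normalizer (A : Set G) := by
    rw [Subgroup.mem_normalizer_iff]
    intro a
    constructor
    · exact fun ha => hmap ▸ ⟨a, ha, rfl⟩
    · intro ha
      rw [← hmap] at ha
      obtain ⟨b, hb, hba⟩ := ha
      rwa [← (MulAut.conj g).injective hba]
  set NN := Subgroup.normalizer (A : Set G)
  have hSN : (D.S : Subgroup G) ≤ NN := fun s hs => by
    rw [Subgroup.mem_normalizer_iff]
    have key : ∀ s : (D.S : Subgroup G), ∀ a ∈ A, (s : G) * a * (s : G)⁻¹ ∈ A := by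
      intro s a ha
      obtain ⟨i, rfl⟩ := Subgroup.mem_zpowers_iff.1 ha
      rw [← conj_zpow]
      refine zpow_mem ?_ i
      by_cases hsR : s ∈ Subgroup.zpowers D.rS
      · have e : (s : G) * D.σ = D.σ * s :=
          congrArg Subtype.val (D.sd.comm hsR (Subgroup.mem_zpowers D.rS))
        rw [e, mul_inv_cancel_right]
        exact Subgroup.mem_zpowers _
      · have e := congrArg Subtype.val (D.sd.conj s hsR)
        rw [show (s : G) * D.σ * (s : G)⁻¹ = D.σ ^ (D.N / 2 - 1) from e]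
        exact Subgroup.npow_mem_zpowers _ _
    intro a
    refine ⟨key ⟨s, hs⟩ a, fun ha => ?_⟩
    have := key ⟨s⁻¹, inv_mem hs⟩ _ ha
    simpa [mul_assoc] using this
  let φ : NN →* MulAut A := A.normalizerMonoidHom
  have htwo : IsPGroup 2 φ.range := by
    refine IsPGroup.to_subgroup (IsPGroup.of_card (n := D.N_pow.choose - 1) ?_) _
    rw [IsCyclic.card_mulAut, Nat.card_zpowers, D.order_σ]
    conv_lhs => rw [D.N_pow.choose_spec.2]
    rw [Nat.totient_prime_pow Nat.prime_two (by have := D.N_pow.choose_spec.1; omega)]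
    simp
  obtain ⟨k, hk⟩ := IsPGroup.iff_card.1 htwo
  have hSS := (D.S.subtype hSN).not_dvd_index
  have hdvd : (((D.S.subtype hSN : Sylow 2 NN) : Subgroup NN).map φ.rangeRestrict).index ∣
      ((D.S.subtype hSN : Sylow 2 NN) : Subgroup NN).index :=
    Subgroup.index_map_dvd _ φ.rangeRestrict_surjective
  have htop : ((D.S.subtype hSN : Sylow 2 NN) : Subgroup NN).map φ.rangeRestrict = ⊤ := by
    rw [← Subgroup.index_eq_one]
    obtain ⟨i, -, hi⟩ := (Nat.dvd_prime_pow Nat.prime_two).1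
      ((Subgroup.index_dvd_card _).trans hk.dvd)
    rw [hi]
    rcases i with _ | i
    · rfl
    · exact absurd ((dvd_pow_self 2 i.succ_ne_zero).trans (hi ▸ hdvd)) hSS
  have hmem : φ.rangeRestrict ⟨g, hg⟩ ∈
      ((D.S.subtype hSN : Sylow 2 NN) : Subgroup NN).map φ.rangeRestrict := htop ▸ trivial
  obtain ⟨s, hs, hse⟩ := hmem
  have he : g * D.σ * g⁻¹ = (s : G) * D.σ * (s : G)⁻¹ := by
    have := congrArg (fun e : MulAut A => ((e ⟨D.σ, Subgroup.mem_zpowers _⟩ : A) : G))
      (congrArg Subtype.val hse)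
    exact this.symm
  rw [he]
  by_cases hsR : (⟨(s : G), hs⟩ : (D.S : Subgroup G)) ∈ Subgroup.zpowers D.rS
  · left
    have e : (s : G) * D.σ = D.σ * s :=
      congrArg Subtype.val (D.sd.comm hsR (Subgroup.mem_zpowers D.rS))
    rw [e, mul_inv_cancel_right]
  · exact Or.inr (congrArg Subtype.val (D.sd.conj ⟨(s : G), hs⟩ hsR))

/-- Half of the modulus. -/
def hh : ZMod D.N := ((D.N / 2 : ℕ) : ZMod D.N)

/-- The exponent by which the reflection acts. -/
def μ : ZMod D.N := D.hh - 1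

theorem μ_eq : D.μ = ((D.N / 2 - 1 : ℕ) : ZMod D.N) := by
  rw [μ, hh, Nat.cast_sub (by have := D.eight_le; omega), Nat.cast_one]

theorem hh_add : D.hh + D.hh = 0 := by
  rw [hh, ← Nat.cast_add, show D.N / 2 + D.N / 2 = D.N by have := D.four_dvd; omega,
    ZMod.natCast_self]

theorem hh_mul_hh : D.hh * D.hh = 0 := by
  obtain ⟨q, hq⟩ := D.four_dvd
  rw [hh, ← Nat.cast_mul, show D.N / 2 * (D.N / 2) = D.N * q by rw [hq, show 4 * q / 2 = 2 * q by omega]; ring,
    Nat.cast_mul, ZMod.natCast_self, zero_mul]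

theorem μ_sq : D.μ * D.μ = 1 := by
  rw [μ]; linear_combination D.hh_mul_hh - D.hh_add

theorem two_mul_ne {l : ZMod D.N} : 2 * l ≠ 0 ↔ ¬ D.N ∣ 2 * l.val := by
  rw [Ne, ← ZMod.natCast_eq_zero_iff, Nat.cast_mul, ZMod.natCast_zmod_val, Nat.cast_two]

theorem adm_inv {l : ZMod D.N} (hl : 2 * l ≠ 0) : 2 * (D.μ * l) ≠ 0 := fun h => hl (by
  linear_combination D.μ * h - 2 * l * D.μ_sq)

theorem conj_t (l : ZMod D.N) : D.t * D.σ ^ l.val * D.t⁻¹ = D.σ ^ (D.μ * l).val := by
  rw [← conj_pow, D.rel, ← pow_mul, D.pow_eq_pow, Nat.cast_mul, ← D.μ_eq, ZMod.natCast_zmod_val,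
    ZMod.natCast_zmod_val]

/-- Fusion of the rotations of order at least four. -/
theorem fusion {l m : ZMod D.N} (hl : 2 * l ≠ 0) :
    IsConj (D.σ ^ l.val) (D.σ ^ m.val) ↔ m = l ∨ m = D.μ * l := by
  constructor
  · intro h
    haveI : Fact (Nat.Prime 2) := ⟨Nat.prime_two⟩
    obtain ⟨g, hg⟩ := isConj_iff.1 h
    have hm : ¬ D.N ∣ 2 * m.val := fun hd => D.two_mul_ne.1 hl (by
      have key : ∀ n : ℕ, D.N ∣ n ↔ D.σ ^ n = 1 := fun n => by
        rw [← orderOf_dvd_iff_pow_eq_one, D.order_σ]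
      rw [key, mul_comm, pow_mul] at hd ⊢
      have := congrArg (fun x => g⁻¹ * x * g) hd
      rw [← hg, conj_pow] at this
      simpa [mul_assoc] using this)
    set C := Subgroup.centralizer ({D.σ ^ m.val} : Set G)
    obtain ⟨j, hj, hN⟩ := D.N_pow
    have hcard : 2 ^ (Nat.card C).factorization 2 = D.N := by
      rw [D.card_cent_two hm, hN, Nat.prime_two.factorization_pow]; simp
    have hσC : Subgroup.zpowers D.σ ≤ C := Subgroup.zpowers_le.2
      (Subgroup.mem_centralizer_singleton_iff.2 ((Commute.refl D.σ).pow_right _).eq)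
    have hgC : (Subgroup.zpowers D.σ).map (MulAut.conj g).toMonoidHom ≤ C := by
      rw [MonoidHom.map_zpowers, Subgroup.zpowers_le, Subgroup.mem_centralizer_singleton_iff, ← hg]
      show g * D.σ * g⁻¹ * _ = _
      rw [show g * D.σ * g⁻¹ * (g * D.σ ^ l.val * g⁻¹) = g * (D.σ * D.σ ^ l.val) * g⁻¹ by group,
        ((Commute.refl D.σ).pow_right _).eq]
      show g * (D.σ ^ l.val * D.σ) * g⁻¹ = g * D.σ ^ l.val * g⁻¹ * (g * D.σ * g⁻¹)
      group
    let P : Sylow 2 C := Sylow.ofCard ((Subgroup.zpowers D.σ).subgroupOf C) (by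
      rw [Nat.card_congr (Subgroup.subgroupOfEquivOfLe hσC).toEquiv, Nat.card_zpowers, D.order_σ, hcard])
    let Q : Sylow 2 C := Sylow.ofCard
      (((Subgroup.zpowers D.σ).map (MulAut.conj g).toMonoidHom).subgroupOf C) (by
      rw [Nat.card_congr (Subgroup.subgroupOfEquivOfLe hgC).toEquiv,
        Subgroup.card_map_of_injective (MulAut.conj g).injective, Nat.card_zpowers, D.order_σ, hcard])
    obtain ⟨c, hc⟩ := MulAction.exists_smul_eq C Q P
    have hmem : (c : G) * (g * D.σ * g⁻¹) * (c : G)⁻¹ ∈ Subgroup.zpowers D.σ := by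
      have h1 : (⟨g * D.σ * g⁻¹, hgC ⟨D.σ, Subgroup.mem_zpowers _, rfl⟩⟩ : C) ∈ (Q : Subgroup C) :=
        ⟨D.σ, Subgroup.mem_zpowers _, rfl⟩
      have h2 : c • (⟨g * D.σ * g⁻¹, hgC ⟨D.σ, Subgroup.mem_zpowers _, rfl⟩⟩ : C) = _ := rfl
      have h3 := Subgroup.smul_mem_pointwise_smul _ (MulAut.conj c) (Q : Subgroup C) h1
      have h4 : MulAut.conj c • (Q : Subgroup C) = (P : Subgroup C) := congrArg Sylow.toSubgroup hc
      rw [h4] at h3
      exact h3
    have e : ((c : G) * g) * D.σ ^ l.val * ((c : G) * g)⁻¹ = D.σ ^ m.val := by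
      rw [show (c : G) * g * D.σ ^ l.val * ((c : G) * g)⁻¹ =
        (c : G) * (g * D.σ ^ l.val * g⁻¹) * (c : G)⁻¹ by group, hg,
        Subgroup.mem_centralizer_singleton_iff.1 c.2, mul_inv_cancel_right]
    rcases D.conj_rot (g := (c : G) * g) (by simpa [mul_assoc] using hmem) with h1 | h1
    · left
      rw [← conj_pow, h1] at e
      exact (D.pow_val_eq.1 e).symm
    · right
      rw [← conj_pow, h1, ← pow_mul, D.pow_eq_pow, Nat.cast_mul, ← D.μ_eq, ZMod.natCast_zmod_val,
        ZMod.natCast_zmod_val] at e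
      exact e.symm
  · rintro (rfl | rfl)
    · exact IsConj.refl _
    · exact isConj_iff.2 ⟨D.t, D.conj_t l⟩

/-! ## The centraliser of the central involution -/

/-- The kernel of the deflation, on the centraliser of the central involution. -/
def K' : Subgroup (Subgroup.centralizer ({D.z} : Set G)) := D.K

instance K'_normal : D.K'.Normal := D.K_normal

/-- The deflation. -/
def π' : Subgroup.centralizer ({D.z} : Set G) →* Matrix.ProjGenLinGroup (Fin 2) (ZMod D.p) := D.π

/-- The central involution in its centraliser. -/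
def zC : Subgroup.centralizer ({D.z} : Set G) :=
  ⟨D.z, Subgroup.mem_centralizer_singleton_iff.2 rfl⟩

theorem zC_center : D.zC ∈ Subgroup.center _ := Subgroup.mem_center_iff.2 fun c =>
  Subtype.ext (Subgroup.mem_centralizer_singleton_iff.1 c.2)

theorem orderOf_zC : orderOf D.zC = 2 := by rw [← Subgroup.orderOf_coe]; exact D.orderOf_z

theorem π'_ker (c : Subgroup.centralizer ({D.z} : Set G)) :
    D.π' c = 1 ↔ c ∈ D.K' ∨ c * D.zC ∈ D.K' := D.π_ker c

theorem card_C : haveI := D.hp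
    Nat.card (Subgroup.centralizer ({D.z} : Set G)) =
      2 * Nat.card D.K' * Nat.card (Matrix.ProjGenLinGroup (Fin 2) (ZMod D.p)) := by
  haveI := D.hp
  have hsurj : Function.Surjective D.π' := D.π_surj
  rw [← (D.π'.ker).card_mul_index, Subgroup.index_ker, MonoidHom.range_eq_top.2 hsurj, Subgroup.card_top]
  congr 1
  have hz2 : D.zC * D.zC = 1 := Subtype.ext D.z_sq
  have hzK : D.zC ∉ D.K' := fun h => D.K_odd (by
    have h' := D.K'.orderOf_dvd_natCard h
    rwa [D.orderOf_zC] at h')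
  have hr : D.K'.relIndex D.π'.ker = 2 := Subgroup.relIndex_eq_two_iff.2
    ⟨D.zC, MonoidHom.mem_ker.2 ((D.π'_ker _).2 (Or.inr (by rw [hz2]; exact one_mem _))),
      fun b hb => by
        rcases (D.π'_ker b).1 (MonoidHom.mem_ker.1 hb) with h | h
        · exact Or.inr ⟨h, fun h' => hzK (by simpa using mul_mem (inv_mem h) h')⟩
        · exact Or.inl ⟨h, fun h' => hzK (by simpa using mul_mem (inv_mem h') h)⟩⟩
  rw [← Subgroup.card_mul_index (D.K'.subgroupOf D.π'.ker), ← Subgroup.relIndex, hr,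
    Nat.card_congr (Subgroup.subgroupOfEquivOfLe
      (show D.K' ≤ D.π'.ker from fun k hk => MonoidHom.mem_ker.2 ((D.π'_ker k).2 (Or.inl hk)))).toEquiv,
    mul_comm]

theorem exists_w : haveI := D.hp
    ∃ w : SL(2, ZMod D.p), w * w = -1 := by
  haveI := D.hp
  refine ⟨⟨!![0, 1; -1, 0], by simp [Matrix.det_fin_two]⟩, ?_⟩
  refine Subtype.ext ?_
  show (!![0, 1; -1, 0] : Matrix (Fin 2) (Fin 2) (ZMod D.p)) * !![0, 1; -1, 0] = _
  rw [Matrix.SpecialLinearGroup.coe_neg, Matrix.SpecialLinearGroup.coe_one]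
  ext i j
  fin_cases i <;> fin_cases j <;> simp [Matrix.mul_apply, Fin.sum_univ_two]

theorem torus_two {w : haveI := D.hp; SL(2, ZMod D.p)} (hw : w * w = -1) : haveI := D.hp
    2 ^ (Nat.card (Cfsg.Agent.Forms.DicksonPGL.torus w)).factorization 2 = D.N / 2 := by
  haveI := D.hp
  obtain ⟨j, hj, hN⟩ := D.N_pow
  have h2 := congrArg (fun n => n.factorization 2) D.card_C
  have hN2 : D.N.factorization 2 = j := by rw [hN, Nat.prime_two.factorization_pow]; simp
  have hodd : D.p % 2 = 1 := (D.hp.out.eq_two_or_odd).resolve_left D.p_odd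
  simp only [D.factorization_C, hN2, Nat.factorization_mul (mul_ne_zero two_ne_zero Nat.card_pos.ne')
    Nat.card_pos.ne', Nat.factorization_mul two_ne_zero Nat.card_pos.ne', Finsupp.add_apply,
    Nat.prime_two.factorization_self, Nat.factorization_eq_zero_of_not_dvd
      (show ¬ 2 ∣ Nat.card D.K' from D.K_odd)] at h2
  set T := Nat.card (Cfsg.Agent.Forms.DicksonPGL.torus w) with hT
  have hTc := XGroup.card_torus D.p_odd hw
  obtain ⟨q, hq, hPP, hqo⟩ : ∃ q : ℕ, 0 < q ∧
      Nat.card (Matrix.ProjGenLinGroup (Fin 2) (ZMod D.p)) = T * (2 * q) ∧ ¬ 2 ∣ q := by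
    have h4 := XBlock.four_dvd_torus D.p_odd hw
    rw [XGroup.card_PP]
    unfold XGroup.sgnP at hTc
    split_ifs at hTc with h
    · have e : T = D.p - 1 := by omega
      have e1 : D.p + 1 = 2 * ((D.p + 1) / 2) := by omega
      refine ⟨D.p * ((D.p + 1) / 2), ?_, ?_, ?_⟩
      · have := D.hp.out.two_le; exact Nat.mul_pos (by omega) (by omega)
      · conv_lhs => rw [← e, e1]
        ring
      · rw [Nat.prime_two.dvd_mul]; omega
    · have e : T = D.p + 1 := by omega
      have e1 : D.p - 1 = 2 * ((D.p - 1) / 2) := by omega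
      refine ⟨D.p * ((D.p - 1) / 2), ?_, ?_, ?_⟩
      · have := D.hp.out.two_le; exact Nat.mul_pos (by omega) (by omega)
      · conv_lhs => rw [← e, e1]
        ring
      · rw [Nat.prime_two.dvd_mul]; omega
  rw [hPP, Nat.factorization_mul Nat.card_pos.ne' (by omega),
    Nat.factorization_mul two_ne_zero (by omega), Finsupp.add_apply, Finsupp.add_apply,
    Nat.prime_two.factorization_self, Nat.factorization_eq_zero_of_not_dvd hqo] at h2
  simp only [← hT] at h2 ⊢
  rw [show T.factorization 2 = j - 1 by omega, hN]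
  exact (Nat.div_eq_of_eq_mul_left two_pos (by rw [← pow_succ, Nat.sub_add_cancel (by omega)])).symm

/-- A regular element of the centraliser over the standard unipotent element. -/
theorem exists_u {M : Ideal Cfsg.AlgInt} (hM : Cfsg.IsPModular 2 M) : haveI := D.hp
    ∃ u : Subgroup.centralizer ({D.z} : Set G), D.π' u = XGroup.uu ∧ ¬ 2 ∣ orderOf u := by
  haveI := D.hp
  haveI := D.K'_normal
  refine exists_regular_lift (K := D.K') (π := D.π') hM D.zC_center D.orderOf_zC D.K_odd D.π_surj D.π'_ker ?_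
  rw [XGroup.orderOf_uu]
  intro h
  exact D.p_odd ((Nat.prime_dvd_prime_iff_eq Nat.prime_two D.hp.out).1 h).symm

end Data

end Cfsg.Agent.CycSD
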