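import Mathlib
import Cfsg.Agent.Lib.CycSD.Setting

/-!
# Inversion of the centraliser of the even rotations by involutions
-/

set_option autoImplicit false
set_option linter.unusedSectionVars false
set_option linter.style.haveILetI false

namespace Cfsg.Agent.CycSD

open scoped _root_.Classical

universe u

variable {G : Type u} [Group G] [Finite G]

/-- The conjugates of an element by a subgroup, counted. -/
theorem card_orbit_mul (A : Subgroup G) (x : G) :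
    Nat.card {y : G // ∃ a ∈ A, a * x * a⁻¹ = y} *
      Nat.card (A ⊓ Subgroup.centralizer ({x} : Set G) : Subgroup G) = Nat.card A := by
  set K := (Subgroup.centralizer ({x} : Set G)).subgroupOf A with hK
  have hcard : Nat.card K = Nat.card (A ⊓ Subgroup.centralizer ({x} : Set G) : Subgroup G) :=
    Nat.card_congr
      { toFun := fun a => ⟨((a : A) : G), Subgroup.mem_inf.2 ⟨(a : A).2, a.2⟩⟩
        invFun := fun a => ⟨⟨(a : G), (Subgroup.mem_inf.1 a.2).1⟩, (Subgroup.mem_inf.1 a.2).2⟩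
        left_inv := fun _ => rfl
        right_inv := fun _ => rfl }
  have key : ∀ a b : A, (a : G) * x * (a : G)⁻¹ = (b : G) * x * (b : G)⁻¹ ↔ a⁻¹ * b ∈ K := by
    intro a b
    rw [hK, Subgroup.mem_subgroupOf, Subgroup.mem_centralizer_singleton_iff, Subgroup.coe_mul,
      Subgroup.coe_inv]
    constructor
    · intro h
      have := congrArg (fun v => (a : G)⁻¹ * v * (b : G)) h
      simpa [mul_assoc] using this.symm
    · intro h
      have := congrArg (fun v => (a : G) * v * (b : G)⁻¹) h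
      simpa [mul_assoc] using this.symm
  let f : A ⧸ K → {y : G // ∃ a ∈ A, a * x * a⁻¹ = y} :=
    Quotient.lift (fun a : A => ⟨(a : G) * x * (a : G)⁻¹, a, a.2, rfl⟩)
      (fun a b h => Subtype.ext ((key a b).2 (QuotientGroup.leftRel_apply.1 h)))
  have hf : Function.Bijective f := by
    refine ⟨fun p q => ?_, fun y => ?_⟩
    · induction p using QuotientGroup.induction_on with
      | H a => induction q using QuotientGroup.induction_on with
        | H b => exact fun h => QuotientGroup.eq.2 ((key a b).1 (congrArg Subtype.val h))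
    · obtain ⟨y, a, ha, rfl⟩ := y
      exact ⟨QuotientGroup.mk ⟨a, ha⟩, rfl⟩
  rw [← Nat.card_congr (Equiv.ofBijective f hf), ← Subgroup.index_eq_card, ← hcard,
    K.index_mul_card]

/-- An element of odd order is the square of one of its powers. -/
theorem exists_sq {a : G} (ha : ¬ 2 ∣ orderOf a) : ∃ k : ℕ, (a ^ k) * (a ^ k) = a := by
  refine ⟨(orderOf a + 1) / 2, ?_⟩
  rw [← pow_add, show (orderOf a + 1) / 2 + (orderOf a + 1) / 2 = orderOf a + 1 by omega, pow_succ,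
    pow_orderOf_eq_one, one_mul]

variable (D : Data G)

namespace Data

theorem hh_ne_zero : D.hh ≠ 0 := fun h => by
  rw [hh, ZMod.natCast_eq_zero_iff] at h
  have h8 := D.eight_le
  have := Nat.le_of_dvd (by omega) h
  omega

theorem eq_zero_or_hh' {j : ZMod D.N} (h : 2 * j = 0) : j = 0 ∨ j = D.hh := by
  have h2 : ((2 * j.val : ℕ) : ZMod D.N) = 0 := by rw [Nat.cast_mul, ZMod.natCast_zmod_val]; exact_mod_cast h
  rw [ZMod.natCast_eq_zero_iff] at h2
  obtain ⟨c, hc⟩ := h2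
  have hlt := ZMod.val_lt j
  have h4 := D.four_dvd
  rcases c with _ | _ | c
  · left; rw [← ZMod.natCast_zmod_val j, show j.val = 0 by omega, Nat.cast_zero]
  · right; rw [← ZMod.natCast_zmod_val j, show j.val = D.N / 2 by omega]; rfl
  · have : D.N * (c + 1 + 1) ≥ D.N * 2 := Nat.mul_le_mul le_rfl (by omega)
    omega

/-- The centraliser of the even rotations. -/
def H2 : Subgroup G := Subgroup.centralizer ({D.σ ^ 2} : Set G)

theorem not_dvd_four : ¬ D.N ∣ 2 * 2 := fun h => by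
  have := Nat.le_of_dvd (by norm_num) h
  have := D.eight_le
  omega

theorem σ_mem_H2 : D.σ ∈ D.H2 :=
  Subgroup.mem_centralizer_singleton_iff.2 ((Commute.refl D.σ).pow_right 2).eq

theorem z_mem_H2 : D.z ∈ D.H2 := pow_mem D.σ_mem_H2 _

theorem t_conj_H2 {a : G} (ha : a ∈ D.H2) : D.t * a * D.t⁻¹ ∈ D.H2 := by
  rw [H2, Subgroup.mem_centralizer_singleton_iff] at ha ⊢
  have e : D.t * D.σ ^ 2 * D.t⁻¹ = (D.σ ^ 2)⁻¹ := by
    rw [← conj_pow, D.rel, ← pow_mul]
    refine eq_inv_of_mul_eq_one_left ?_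
    rw [← pow_add, show (D.N / 2 - 1) * 2 + 2 = D.N by have := D.eight_le; have := D.four_dvd; omega,
      D.pow_N]
  have hc : Commute a (D.σ ^ 2)⁻¹ := (show Commute a (D.σ ^ 2) from ha).inv_right
  have h3 : Commute (D.t * a * D.t⁻¹) (D.t * (D.σ ^ 2)⁻¹ * D.t⁻¹) := by
    have := hc.map (MulAut.conj D.t).toMonoidHom
    simpa using this
  have e2 : D.t * (D.σ ^ 2)⁻¹ * D.t⁻¹ = D.σ ^ 2 := by
    rw [← conj_inv, e, inv_inv]
  rw [e2] at h3
  exact h3.eq

/-- The structure of the centraliser: odd normal part times rotations. -/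
theorem exists_O : ∃ O : Subgroup G, O ≤ D.H2 ∧ ¬ 2 ∣ Nat.card O ∧ Nat.card D.H2 = D.N * Nat.card O ∧
    (∀ a ∈ D.H2, ∀ s ∈ O, a * s * a⁻¹ ∈ O) ∧ (∀ s ∈ D.H2, ¬ 2 ∣ orderOf s → s ∈ O) ∧
    (∀ s ∈ O, D.t * s * D.t⁻¹ ∈ O) ∧
    ∀ a ∈ D.H2, ∃ s ∈ O, ∃ k : ℕ, a = s * D.σ ^ k := by
  obtain ⟨N0, hN, hodd, hidx⟩ := D.exists_complement D.not_dvd_four
  change Subgroup D.H2 at N0
  set O := N0.map D.H2.subtype with hO
  have hcard : Nat.card O = Nat.card N0 := Subgroup.card_map_of_injective D.H2.subtype_injective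
  have hreg : ∀ s ∈ D.H2, ¬ 2 ∣ orderOf s → s ∈ O := fun s hs ho => by
    obtain ⟨j, -, hj⟩ := D.N_pow
    exact ⟨⟨s, hs⟩, Cfsg.Agent.Blocks.mem_of_regular Nat.prime_two ⟨j, hidx.trans hj⟩
      (fun h => ho ((Subgroup.orderOf_coe (⟨s, hs⟩ : D.H2)).symm ▸ h :)), rfl⟩
  have hodd' : ∀ s ∈ O, ¬ 2 ∣ orderOf s := fun s hs h =>
    hodd (hcard ▸ h.trans (O.orderOf_dvd_natCard hs))
  refine ⟨O, Subgroup.map_subtype_le _, hcard ▸ hodd, ?_, ?_, hreg, fun s hs => ?_, fun a ha => ?_⟩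
  · rw [hcard, ← hidx]
    exact (N0.index_mul_card).symm
  · intro a ha s hs
    obtain ⟨s', hs', rfl⟩ := hs
    exact ⟨⟨a, ha⟩ * s' * ⟨a, ha⟩⁻¹, hN.conj_mem _ hs' _, rfl⟩
  · refine hreg _ (D.t_conj_H2 (Subgroup.map_subtype_le _ hs)) ?_
    rw [show orderOf (D.t * s * D.t⁻¹) = orderOf s from MulEquiv.orderOf_eq (MulAut.conj D.t) s]
    exact hodd' s hs
  · set R := (Subgroup.zpowers D.σ).subgroupOf D.H2
    have hR : Nat.card R = D.N := by
      rw [Nat.card_congr (Subgroup.subgroupOfEquivOfLe (Subgroup.zpowers_le.2 D.σ_mem_H2)).toEquiv,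
        Nat.card_zpowers, D.order_σ]
    have hcomp : N0.IsComplement' R := by
      refine Subgroup.isComplement'_of_coprime ?_ ?_
      · rw [hR, ← hidx, mul_comm]; exact N0.index_mul_card
      · rw [hR]
        obtain ⟨j, -, hj⟩ := D.N_pow
        rw [hj]
        exact ((Nat.prime_two.coprime_iff_not_dvd.2 hodd).symm).pow_right j
    obtain ⟨⟨s, r⟩, hsr⟩ := hcomp.2 ⟨a, ha⟩
    obtain ⟨k, hk⟩ := mem_powers_iff_mem_zpowers.2 (Subgroup.mem_subgroupOf.1 r.2)
    refine ⟨((s : D.H2) : G), ⟨_, s.2, rfl⟩, k, ?_⟩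
    rw [show D.σ ^ k = ((r : D.H2) : G) from hk]
    exact (congrArg Subtype.val hsr).symm

theorem card_H2 : Nat.card D.H2 = D.N * D.o := by
  obtain ⟨O, -, -, h, -⟩ := D.exists_O
  have hq : D.o = Nat.card O := by
    show Nat.card D.H2 / D.N = _
    rw [h, Nat.mul_div_cancel_left _ (NeZero.pos D.N)]
  rw [hq, h]

theorem even_of_fixed {O : Subgroup G} (hOH : O ≤ D.H2) (hodd : ¬ 2 ∣ Nat.card O)
    {k : ℕ} (h : D.σ ^ k ∈ O) : D.σ ^ k = 1 := by
  have h1 : orderOf (D.σ ^ k) ∣ Nat.card O := O.orderOf_dvd_natCard h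
  obtain ⟨j, hj⟩ := D.isPElement k
  rw [hj] at h1
  rcases j with _ | j
  · exact orderOf_eq_one_iff.1 hj
  · exact absurd ((dvd_pow_self 2 j.succ_ne_zero).trans h1) hodd

/-- The involutions outside the centraliser inverting the even rotations are conjugate to the
reflection. -/
theorem exists_conj_t {i : G} (hi : orderOf i = 2) (hti : D.t * i ∈ D.H2) :
    ∃ a ∈ D.H2, a * D.t * a⁻¹ = i := by
  obtain ⟨O, hOH, hodd, -, hnorm, -, htO, hdec⟩ := D.exists_O
  have hii : i * i = 1 := by rw [← pow_two, ← hi, pow_orderOf_eq_one]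
  obtain ⟨s, hs, k, hk⟩ := hdec _ hti
  have hinv : D.t⁻¹ = D.t := inv_eq_of_mul_eq_one_right D.t_sq
  have hsk : D.t * (s * D.σ ^ k) * D.t⁻¹ = (s * D.σ ^ k)⁻¹ := by
    rw [← hk, mul_inv_rev, inv_eq_of_mul_eq_one_right hii, hinv, ← mul_assoc, D.t_sq, one_mul]
  have hσt : D.t * D.σ ^ k * D.t⁻¹ = D.σ ^ ((D.N / 2 - 1) * k) := by
    rw [← conj_pow, D.rel, ← pow_mul]
  -- the rotation part is even
  have hmem : D.σ ^ k * D.σ ^ ((D.N / 2 - 1) * k) ∈ O := by
    have e : s * D.σ ^ k * (D.t * s * D.t⁻¹) * (D.t * D.σ ^ k * D.t⁻¹) = 1 := by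
      calc s * D.σ ^ k * (D.t * s * D.t⁻¹) * (D.t * D.σ ^ k * D.t⁻¹)
          = (s * D.σ ^ k) * (D.t * (s * D.σ ^ k) * D.t⁻¹) := by group
        _ = 1 := by rw [hsk, mul_inv_cancel]
    rw [hσt] at e
    set r := D.σ ^ k
    set r' := D.σ ^ ((D.N / 2 - 1) * k)
    have : r * r' = (s * (r * (D.t * s * D.t⁻¹) * r⁻¹))⁻¹ := by
      refine eq_inv_of_mul_eq_one_right ?_
      calc s * (r * (D.t * s * D.t⁻¹) * r⁻¹) * (r * r') = s * r * (D.t * s * D.t⁻¹) * r' := by group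
        _ = 1 := e
    rw [this]
    exact inv_mem (mul_mem hs (hnorm _ (pow_mem D.σ_mem_H2 _) _ (htO s hs)))
  rw [← pow_add] at hmem
  have h1 := D.even_of_fixed hOH hodd hmem
  rw [← pow_zero D.σ, D.pow_eq_pow] at h1
  push_cast at h1
  rw [← D.μ_eq, μ] at h1
  have hke : D.hh * (k : ZMod D.N) = 0 := by linear_combination h1
  -- move the rotation part into conjugation
  obtain ⟨q, hq⟩ := D.four_dvd
  obtain ⟨j, hj⟩ : ∃ j : ℕ, ((D.N / 2 - 1) * j + k : ℕ) % D.N = j % D.N := by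
    obtain ⟨k', rfl⟩ : 2 ∣ k := by
      by_contra hodd'
      obtain ⟨k', rfl⟩ : ∃ k', k = 2 * k' + 1 := ⟨k / 2, by omega⟩
      apply D.hh_ne_zero
      push_cast at hke
      linear_combination hke - (k' : ZMod D.N) * D.hh_add
    have hq2 : 2 ∣ q := by
      obtain ⟨j, hj, hN⟩ := D.N_pow
      have h8 : 8 ∣ D.N := hN ▸ pow_dvd_pow 2 hj
      omega
    have hcop : Nat.Coprime (q - 1) D.N := by
      obtain ⟨j, -, hN⟩ := D.N_pow
      have := D.eight_le
      rw [hN]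
      exact Nat.Coprime.pow_right j
        ((Nat.prime_two.coprime_iff_not_dvd.2 (by omega)).symm)
    set v := ((ZMod.unitOfCoprime _ hcop)⁻¹ : (ZMod D.N)ˣ)
    have hv : ((q - 1 : ℕ) : ZMod D.N) * (v : ZMod D.N) = 1 := by
      rw [← ZMod.coe_unitOfCoprime _ hcop, ← Units.val_mul, mul_inv_cancel, Units.val_one]
    refine ⟨(-(v : ZMod D.N) * k').val, ?_⟩
    rw [← ZMod.natCast_eq_natCast_iff']
    push_cast
    rw [ZMod.natCast_zmod_val]
    have hμ : ((D.N / 2 - 1 : ℕ) : ZMod D.N) = 2 * ((q - 1 : ℕ) : ZMod D.N) + 1 := by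
      rw [show D.N / 2 - 1 = 2 * (q - 1) + 1 by have := D.eight_le; omega]
      push_cast; rfl
    rw [hμ]
    linear_combination (-2 * (k' : ZMod D.N)) * hv
  have hσ : D.σ ^ ((D.N / 2 - 1) * j) * D.σ ^ k = D.σ ^ j := by
    rw [← pow_add, pow_inj_mod, D.order_σ]; exact hj
  -- the odd part is a commutator
  set r := D.σ ^ j
  set w := r * D.t * r⁻¹
  have hrmem : r ∈ D.H2 := pow_mem D.σ_mem_H2 _
  have hrt : D.t * r * D.t⁻¹ = D.σ ^ ((D.N / 2 - 1) * j) := by rw [← conj_pow, D.rel, ← pow_mul]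
  have hi' : i = D.t * (s * D.σ ^ k) := by rw [← hk, ← mul_assoc, D.t_sq, one_mul]
  obtain ⟨s', hs'def⟩ : ∃ s', s' = (D.t * r * D.t⁻¹) * s * (D.t * r * D.t⁻¹)⁻¹ := ⟨_, rfl⟩
  have hs' : s' ∈ O := hs'def ▸ hnorm _ (D.t_conj_H2 hrmem) _ hs
  have hri : r * i * r⁻¹ = D.t * s' := by
    have e : (D.t * r * D.t⁻¹) * D.σ ^ k = r := by rw [hrt]; exact hσ
    calc r * i * r⁻¹ = r * D.t * (s * D.σ ^ k) * r⁻¹ := by rw [hi']; group
      _ = D.t * (D.t⁻¹ * r * D.t) * s * D.σ ^ k * r⁻¹ := by group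
      _ = D.t * (D.t * r * D.t⁻¹) * s * D.σ ^ k * r⁻¹ := by rw [hinv]
      _ = D.t * s' * ((D.t * r * D.t⁻¹) * D.σ ^ k * r⁻¹) := by rw [hs'def]; group
      _ = D.t * s' := by rw [e, mul_inv_cancel, mul_one]
  have hs'inv : D.t * s' * D.t⁻¹ = s'⁻¹ := by
    have e : D.t * s' * (D.t * s') = 1 := by
      rw [← hri, show r * i * r⁻¹ * (r * i * r⁻¹) = r * (i * i) * r⁻¹ by group, hii, mul_one,
        mul_inv_cancel]
    rw [hinv]
    exact eq_inv_of_mul_eq_one_left (by simpa [mul_assoc] using e)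
  obtain ⟨m, hm⟩ := exists_sq fun h => hodd (h.trans (O.orderOf_dvd_natCard hs'))
  set b := s' ^ m
  refine ⟨r⁻¹ * b⁻¹, mul_mem (inv_mem hrmem) (inv_mem (hOH (pow_mem hs' _))), ?_⟩
  have hb : D.t * b * D.t⁻¹ = b⁻¹ := by rw [← conj_pow, hs'inv, inv_pow]
  calc r⁻¹ * b⁻¹ * D.t * (r⁻¹ * b⁻¹)⁻¹ = r⁻¹ * (b⁻¹ * D.t * b) * r := by group
    _ = r⁻¹ * (D.t * b * D.t⁻¹ * D.t * b) * r := by rw [hb]
    _ = r⁻¹ * (D.t * (b * b)) * r := by group
    _ = r⁻¹ * (r * i * r⁻¹) * r := by rw [hm, hri]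
    _ = i := by group

/-- The number of involutions inverting the even rotations. -/
theorem card_I : Nat.card {i : G // orderOf i = 2 ∧ D.t * i ∈ D.H2} *
    Nat.card (D.H2 ⊓ Subgroup.centralizer ({D.t} : Set G) : Subgroup G) = Nat.card D.H2 := by
  have hinv : D.t⁻¹ = D.t := inv_eq_of_mul_eq_one_right D.t_sq
  rw [← card_orbit_mul D.H2 D.t]
  congr 1
  refine Nat.card_congr (Equiv.subtypeEquivRight fun i => ⟨fun h => D.exists_conj_t h.1 h.2, ?_⟩)
  rintro ⟨a, ha, rfl⟩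
  refine ⟨?_, ?_⟩
  · rw [show orderOf (a * D.t * a⁻¹) = orderOf D.t from MulEquiv.orderOf_eq (MulAut.conj a) D.t]
    exact orderOf_eq_prime ((pow_two _).trans D.t_sq) fun h => D.t_notMem (h ▸ one_mem _)
  · rw [show D.t * (a * D.t * a⁻¹) = D.t * a * D.t⁻¹ * a⁻¹ by rw [hinv]; group]
    exact mul_mem (D.t_conj_H2 ha) (inv_mem ha)

/-- The elements of odd order inverted by an involution inverting the even rotations. -/
theorem card_J {i : G} (hi : orderOf i = 2) (hti : D.t * i ∈ D.H2) :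
    Nat.card {s : G // s ∈ D.H2 ∧ ¬ 2 ∣ orderOf s ∧ i * s * i⁻¹ = s⁻¹} * D.ot = D.o := by
  obtain ⟨O, hOH, hodd, hcard, hnorm, hreg, htO, hdec⟩ := D.exists_O
  have hinv : D.t⁻¹ = D.t := inv_eq_of_mul_eq_one_right D.t_sq
  have ho : D.o = Nat.card O :=
    Nat.eq_of_mul_eq_mul_left (NeZero.pos D.N) (D.card_H2.symm.trans hcard)
  have hOodd : ∀ {s}, s ∈ O → ¬ 2 ∣ orderOf s := fun hs h =>
    hodd (h.trans (O.orderOf_dvd_natCard hs))
  have hhalf : D.ot = Nat.card (O ⊓ Subgroup.centralizer ({D.t} : Set G) : Subgroup G) := by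
    set C := D.H2 ⊓ Subgroup.centralizer ({D.t} : Set G) with hC
    set C' := O ⊓ Subgroup.centralizer ({D.t} : Set G) with hC'
    have hle : C' ≤ C := inf_le_inf_right _ hOH
    have hzt : D.z ∈ Subgroup.centralizer ({D.t} : Set G) :=
      Subgroup.mem_centralizer_singleton_iff.2
        (Subgroup.mem_centralizer_singleton_iff.1 (D.S_le_cent D.t_mem)).symm
    have hzC : D.z ∈ C := Subgroup.mem_inf.2 ⟨D.z_mem_H2, hzt⟩
    have hzO : D.z ∉ O := fun h => hOodd h (by rw [D.orderOf_z])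
    have hr : C'.relIndex C = 2 := by
      refine Subgroup.relIndex_eq_two_iff.2 ⟨D.z, hzC, fun b hb => ?_⟩
      obtain ⟨hbH, hbt⟩ := Subgroup.mem_inf.1 hb
      obtain ⟨s, hs, k, rfl⟩ := hdec b hbH
      have e : D.t * (s * D.σ ^ k) * D.t⁻¹ = s * D.σ ^ k := by
        rw [← Subgroup.mem_centralizer_singleton_iff.1 hbt, mul_inv_cancel_right]
      rw [show D.t * (s * D.σ ^ k) * D.t⁻¹ = (D.t * s * D.t⁻¹) * (D.t * D.σ ^ k * D.t⁻¹) by group,
        ← conj_pow, D.rel, ← pow_mul] at e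
      have e2 : D.σ ^ ((D.N / 2 - 1) * k) * (D.σ ^ k)⁻¹ ∈ O := by
        have : D.σ ^ ((D.N / 2 - 1) * k) * (D.σ ^ k)⁻¹ = (D.t * s * D.t⁻¹)⁻¹ * s := by
          rw [eq_inv_mul_iff_mul_eq, ← mul_assoc, e, mul_inv_cancel_right]
        rw [this]
        exact mul_mem (inv_mem (htO s hs)) hs
      obtain ⟨k2, hk2⟩ : ∃ k2 : ℕ, D.σ ^ ((D.N / 2 - 1) * k) * (D.σ ^ k)⁻¹ = D.σ ^ k2 := by
        obtain ⟨k2, hk2⟩ := mem_powers_iff_mem_zpowers.2
          (mul_mem (Subgroup.npow_mem_zpowers D.σ ((D.N / 2 - 1) * k))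
            (inv_mem (Subgroup.npow_mem_zpowers D.σ k)))
        exact ⟨k2, hk2.symm⟩
      rw [hk2] at e2
      rw [D.even_of_fixed hOH hodd e2, mul_inv_eq_one, D.pow_eq_pow, Nat.cast_mul, ← D.μ_eq,
        μ] at hk2
      have hz2 : (D.σ ^ k = 1 ∨ D.σ ^ k = D.z) := by
        have h4 : 2 * (2 * (k : ZMod D.N)) = 0 := by
          linear_combination (-2 : ZMod D.N) * hk2 + (k : ZMod D.N) * D.hh_add
        have hk0 : 2 * (k : ZMod D.N) = D.hh * k := by linear_combination -hk2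
        by_cases h2 : 2 * (k : ZMod D.N) = 0
        · rcases D.eq_zero_or_hh' h2 with h5 | h5
          · left; rw [← pow_zero D.σ, D.pow_eq_pow, h5, Nat.cast_zero]
          · right; exact D.pow_eq_pow.2 h5
        · exfalso
          have h5 := (D.eq_zero_or_hh' h4).resolve_left h2
          refine D.hh_ne_zero ?_
          obtain ⟨j, hj, hN⟩ := D.N_pow
          have hd : D.N ∣ 2 * k + (D.N - D.N / 2) := by
            rw [← ZMod.natCast_eq_zero_iff, Nat.cast_add, Nat.cast_mul,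
              Nat.cast_sub (Nat.div_le_self _ _), ZMod.natCast_self, Nat.cast_two, h5]
            show D.hh + (0 - D.hh) = 0
            ring
          have h8 : 8 ∣ D.N := hN ▸ pow_dvd_pow 2 hj
          obtain ⟨i, hi⟩ : 2 ∣ k := by
            have := h8.trans hd
            omega
          rw [← h5, hk0, hi]
          push_cast
          linear_combination (i : ZMod D.N) * D.hh_add
      rcases hz2 with e3 | e3 <;> rw [e3] at hbt ⊢
      · rw [mul_one] at hbt ⊢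
        refine Or.inr ⟨Subgroup.mem_inf.2 ⟨hs, hbt⟩, fun h => ?_⟩
        exact hzO (by simpa using mul_mem (inv_mem hs) (Subgroup.mem_inf.1 h).1)
      · refine Or.inl ⟨?_, fun h => hzO ?_⟩
        · rw [mul_assoc, D.z_sq, mul_one]
          refine Subgroup.mem_inf.2 ⟨hs, ?_⟩
          have := mul_mem hbt (inv_mem hzt)
          rwa [mul_inv_cancel_right] at this
        · simpa using mul_mem (inv_mem hs) (Subgroup.mem_inf.1 h).1
    show Nat.card C / 2 = Nat.card C'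
    rw [← Subgroup.card_mul_index (C'.subgroupOf C), ← Subgroup.relIndex, hr,
      Nat.card_congr (Subgroup.subgroupOfEquivOfLe hle).toEquiv, Nat.mul_div_cancel _ two_pos]
  obtain ⟨a, ha, rfl⟩ := D.exists_conj_t hi hti
  rw [ho, hhalf, ← card_orbit_mul O D.t]
  congr 1
  refine Nat.card_congr (Equiv.trans
    (Equiv.subtypeEquiv (MulAut.conj a⁻¹).toEquiv (q := fun s => s ∈ O ∧ D.t * s * D.t⁻¹ = s⁻¹)
      fun s => ?_) ?_)
  · show _ ↔ (a⁻¹ * s * a⁻¹⁻¹ ∈ O ∧ _)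
    rw [inv_inv]
    constructor
    · rintro ⟨h1, h2, h3⟩
      refine ⟨hreg _ (mul_mem (mul_mem (inv_mem ha) h1) ha) ?_, ?_⟩
      · rwa [show orderOf (a⁻¹ * s * a) = orderOf s by
          simpa using MulEquiv.orderOf_eq (MulAut.conj a⁻¹) s]
      · show D.t * (a⁻¹ * s * a⁻¹⁻¹) * D.t⁻¹ = (a⁻¹ * s * a⁻¹⁻¹)⁻¹
        rw [inv_inv, show (a⁻¹ * s * a)⁻¹ = a⁻¹ * s⁻¹ * a by group, ← h3]
        group
    · rintro ⟨h1, h2⟩
      have h2' : D.t * (a⁻¹ * s * a) * D.t⁻¹ = (a⁻¹ * s * a)⁻¹ := by simpa using h2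
      refine ⟨?_, ?_, ?_⟩
      · have := mul_mem (mul_mem ha (hOH h1)) (inv_mem ha)
        simpa [mul_assoc] using this
      · rw [show orderOf s = orderOf (a⁻¹ * s * a) by
          simpa using (MulEquiv.orderOf_eq (MulAut.conj a⁻¹) s).symm]
        exact hOodd h1
      · calc a * D.t * a⁻¹ * s * (a * D.t * a⁻¹)⁻¹ = a * (D.t * (a⁻¹ * s * a) * D.t⁻¹) * a⁻¹ := by
              group
          _ = s⁻¹ := by rw [h2']; group
  · refine Equiv.subtypeEquiv (Equiv.mulRight D.t) fun s => ?_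
    show _ ↔ ∃ a ∈ O, a * D.t * a⁻¹ = s * D.t
    constructor
    · rintro ⟨h1, h2⟩
      obtain ⟨m, hm⟩ := exists_sq (hOodd h1)
      refine ⟨s ^ m, pow_mem h1 _, ?_⟩
      have hb : D.t * s ^ m * D.t⁻¹ = (s ^ m)⁻¹ := by rw [← conj_pow, h2, inv_pow]
      conv_rhs => rw [← hm]
      calc s ^ m * D.t * (s ^ m)⁻¹ = s ^ m * D.t * (D.t * s ^ m * D.t⁻¹) := by rw [hb]
        _ = s ^ m * (D.t * D.t) * s ^ m * D.t⁻¹ := by group
        _ = s ^ m * s ^ m * D.t := by rw [D.t_sq, hinv, mul_one]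
    · rintro ⟨b, hb, e⟩
      have hs : s = b * D.t * b⁻¹ * D.t := by
        rw [e, mul_assoc, D.t_sq, mul_one]
      refine ⟨?_, ?_⟩
      · rw [hs, show b * D.t * b⁻¹ * D.t = b * (D.t * b⁻¹ * D.t⁻¹) by rw [hinv]; group]
        exact mul_mem hb (htO _ (inv_mem hb))
      · rw [hs, hinv]
        calc D.t * (b * D.t * b⁻¹ * D.t) * D.t = D.t * b * D.t * b⁻¹ * (D.t * D.t) := by group
          _ = (b * D.t⁻¹ * b⁻¹ * D.t⁻¹)⁻¹ := by rw [D.t_sq]; group
          _ = _ := by rw [hinv]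

end Data

end Cfsg.Agent.CycSD
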