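import Mathlib
import Cfsg.Agent.Lib.CycSD.Setting
import Cfsg.Agent.S4722

/-!
# The columns at the rotations: two combinations of small norm
-/

set_option autoImplicit false
set_option linter.unusedSectionVars false
set_option linter.style.haveILetI false

open scoped Classical

namespace Cfsg.Agent.CycSD

open Cfsg.Agent.Blocks Cfsg.Agent.Characters
open scoped ComplexConjugate

universe u

variable {G : Type u} [Group G] [Finite G] (D : Data G) [Fintype (Cfsg.IrrCharacter G)]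
  {M : Ideal Cfsg.AlgInt}

/-- The principal block as a finset. -/
noncomputable def bb (M : Ideal Cfsg.AlgInt) (G : Type u) [Group G] [Fintype (Cfsg.IrrCharacter G)] :
    Finset (Cfsg.IrrCharacter G) :=
  Finset.univ.filter fun χ => χ ∈ Cfsg.principalBlock M G

theorem mem_bb {χ : Cfsg.IrrCharacter G} : χ ∈ bb M G ↔ χ ∈ Cfsg.principalBlock M G := by
  simp [bb]

namespace Data

/-- The combination `m_0 - m_{N/2}`. -/
noncomputable def ev (χ : Cfsg.IrrCharacter G) : ℤ := dd D.σ D.pow_N 0 D.hh χ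

/-- The combination `m_0 - m_2`. -/
noncomputable def dv (χ : Cfsg.IrrCharacter G) : ℤ := dd D.σ D.pow_N 0 2 χ

theorem four_ne : (4 : ZMod D.N) ≠ 0 := fun h => by
  have h' : ((4 : ℕ) : ZMod D.N) = 0 := by exact_mod_cast h
  rw [ZMod.natCast_eq_zero_iff] at h'
  have := Nat.le_of_dvd (by norm_num) h'
  have := D.eight_le
  omega

theorem two_ne : (2 : ZMod D.N) ≠ 0 := fun h => D.four_ne (by linear_combination 2 * h)

theorem hh_ne : D.hh ≠ 0 := fun h => by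
  rw [hh, ZMod.natCast_eq_zero_iff] at h
  have h8 := D.eight_le
  have := Nat.le_of_dvd (by omega) h
  omega

theorem hh_ne_two : D.hh ≠ 2 := fun h => by
  have h' : ((D.N / 2 : ℕ) : ZMod D.N) = ((2 : ℕ) : ZMod D.N) := by exact_mod_cast h
  rw [ZMod.natCast_eq_natCast_iff'] at h'
  have := D.eight_le
  rw [Nat.mod_eq_of_lt (by omega), Nat.mod_eq_of_lt (by omega)] at h'
  omega

theorem two_mul_hh : 2 * D.hh = 0 := by rw [two_mul]; exact D.hh_add

theorem μ_mul_hh : D.μ * D.hh = D.hh := by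
  rw [μ]; linear_combination D.hh_mul_hh - D.hh_add

theorem eq_zero_or_hh {j : ZMod D.N} (h : 2 * j = 0) : j = 0 ∨ j = D.hh := by
  have h2 : ((2 * j.val : ℕ) : ZMod D.N) = 0 := by rw [Nat.cast_mul, ZMod.natCast_zmod_val]; exact_mod_cast h
  rw [ZMod.natCast_eq_zero_iff] at h2
  obtain ⟨c, hc⟩ := h2
  have hlt := ZMod.val_lt j
  have h4 := D.four_dvd
  rcases c with _ | _ | c
  · left; rw [← ZMod.natCast_zmod_val j, show j.val = 0 by omega, Nat.cast_zero]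
  · right; rw [← ZMod.natCast_zmod_val j, show j.val = D.N / 2 by omega]; rfl
  · have : D.N * (c + 1 + 1) ≥ D.N * 2 := Nat.mul_le_mul le_rfl (by omega)
    omega

theorem hjk_hh : ∀ l : ZMod D.N, ¬ (2 * l ≠ 0) → (0 : ZMod D.N) * l = D.hh * l := fun l hl => by
  rcases D.eq_zero_or_hh (not_not.1 hl) with rfl | rfl
  · simp
  · rw [zero_mul, D.hh_mul_hh]

theorem hjk_two : ∀ l : ZMod D.N, ¬ (2 * l ≠ 0) → (0 : ZMod D.N) * l = 2 * l := fun l hl => by
  rw [zero_mul, not_not.1 hl]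

/-- The column at a rotation of order at least four. -/
theorem col_sum (hM : Cfsg.IsPModular 2 M) {l : ZMod D.N} (hl : 2 * l ≠ 0) (g : G) :
    ∑ χ ∈ bb M G, (χ : G → ℂ) g * conj ((χ : G → ℂ) (D.σ ^ l.val)) =
      if InSec 2 (D.σ ^ l.val) g then (D.N : ℂ) else 0 := by
  obtain ⟨N0, hN0, hodd, hidx⟩ := D.exists_complement (D.two_mul_ne.1 hl)
  have := column_pnilpotent hM (D.isPElement l.val) hodd (N := N0)
    (by obtain ⟨j, -, hj⟩ := D.N_pow; exact ⟨j, hidx.trans hj⟩) g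
  rw [hidx] at this
  exact this

theorem inSec_pow {l m : ZMod D.N} (hl : 2 * l ≠ 0) :
    InSec 2 (D.σ ^ l.val) (D.σ ^ m.val) ↔ m = l ∨ m = D.μ * l := by
  rw [inSec_iff_of_pElement Nat.prime_two (D.isPElement _), D.fusion hl]

theorem μ_mul_ne {l : ZMod D.N} (hl : 2 * l ≠ 0) : D.μ * l ≠ l := fun h => by
  have h2 : (D.hh - 2) * l = 0 := by rw [μ] at h; linear_combination h
  have h4 : 4 * l = 0 := by linear_combination -2 * h2 + l * D.two_mul_hh
  rcases D.eq_zero_or_hh (show 2 * (2 * l) = 0 by linear_combination h4) with h5 | h5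
  · exact hl h5
  · obtain ⟨q, hq⟩ := D.four_dvd
    have h6 : D.hh * l = D.hh := by linear_combination h2 + h5
    have h7 : D.hh * l = 0 := by
      obtain ⟨j, hj, hN⟩ := D.N_pow
      have hq2 : 2 ∣ q := by
        have h8 : 8 ∣ D.N := hN ▸ pow_dvd_pow 2 hj
        omega
      have hd : D.N ∣ 2 * l.val + (D.N - D.N / 2) := by
        rw [← ZMod.natCast_eq_zero_iff, Nat.cast_add, Nat.cast_mul, ZMod.natCast_zmod_val,
          Nat.cast_sub (Nat.div_le_self _ _), ZMod.natCast_self]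
        show ((2 : ℕ) : ZMod D.N) * l + (0 - D.hh) = 0
        push_cast; linear_combination h5
      have hl2 : 2 ∣ l.val := by
        obtain ⟨c, hc⟩ := hd
        have e : D.N * c = 4 * (q * c) := by rw [hq]; ring
        obtain ⟨q', rfl⟩ := hq2
        have e' : 4 * (2 * q' * c) = 8 * (q' * c) := by ring
        omega
      obtain ⟨i, hi⟩ := hl2
      rw [← ZMod.natCast_zmod_val l, hi, Nat.cast_mul, ← mul_assoc, Nat.cast_two,
        mul_comm D.hh 2, D.two_mul_hh, zero_mul]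
    exact D.hh_ne (h6.symm.trans h7)

/-- The products of the columns. -/
theorem hcol (hM : Cfsg.IsPModular 2 M) :
    ∀ m l : ZMod D.N, 2 * m ≠ 0 → 2 * l ≠ 0 →
      ∑ χ ∈ bb M G, (χ : G → ℂ) (D.σ ^ m.val) * conj ((χ : G → ℂ) (D.σ ^ l.val)) =
        (D.N : ℂ) * ((if m = l then 1 else 0) + if m = D.μ * l then 1 else 0) := by
  intro m l _ hl
  rw [D.col_sum hM hl, if_congr (D.inSec_pow hl) rfl rfl]
  rcases eq_or_ne m l with rfl | h1
  · rw [if_pos (Or.inl rfl), if_pos rfl, if_neg (D.μ_mul_ne hl).symm]; simp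
  · rw [if_congr (or_iff_right h1) rfl rfl, if_neg h1]
    split_ifs <;> simp

theorem sum_ev_ev (hM : Cfsg.IsPModular 2 M) : ∑ χ ∈ bb M G, D.ev χ * D.ev χ = 4 := by
  simp only [ev]
  rw [sum_dd_dd D.pow_N D.μ_sq (D.hcol hM) (fun l hl => D.adm_inv hl) D.hjk_hh D.hjk_hh]
  simp [D.hh_ne, D.hh_ne.symm, D.μ_mul_hh]

theorem sum_dv_dv (hM : Cfsg.IsPModular 2 M) : ∑ χ ∈ bb M G, D.dv χ * D.dv χ = 3 := by
  simp only [dv]
  rw [sum_dd_dd D.pow_N D.μ_sq (D.hcol hM) (fun l hl => D.adm_inv hl) D.hjk_two D.hjk_two]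
  have h1 : D.μ * 2 ≠ 0 := fun h => D.two_ne (by linear_combination D.μ * h - 2 * D.μ_sq)
  have h2 : D.μ * 2 ≠ 2 := fun h => D.four_ne (by
    rw [μ] at h; linear_combination D.two_mul_hh - h)
  simp [D.two_ne, D.two_ne.symm, h1, h2]

theorem sum_ev_dv (hM : Cfsg.IsPModular 2 M) : ∑ χ ∈ bb M G, D.ev χ * D.dv χ = 2 := by
  simp only [ev, dv]
  rw [sum_dd_dd D.pow_N D.μ_sq (D.hcol hM) (fun l hl => D.adm_inv hl) D.hjk_hh D.hjk_two]
  simp [D.hh_ne, D.hh_ne_two, D.two_ne.symm, D.μ_mul_hh]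

omit D in
theorem mem_principal_triv (hM : Cfsg.IsPModular 2 M) : trivIrr G ∈ bb M G :=
  mem_bb.2 (trivIrr_mem_principal hM)

theorem mult_triv (j : ZMod D.N) :
    mult D.σ D.pow_N (trivIrr G) j = if j = 0 then 1 else 0 := by
  apply Int.cast_injective (α := ℂ)
  refine mul_left_cancel₀ (Nat.cast_ne_zero.2 (NeZero.ne D.N) : (D.N : ℂ) ≠ 0) ?_
  rw [mult_eq D.pow_N, Finset.sum_congr rfl (g := fun l : ZMod D.N => ee (l * -j)) fun l _ => by
    rw [trivIrr_coe, one_mul, show -(j * l) = l * -j by ring], sum_ee, if_congr neg_eq_zero rfl rfl]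
  split_ifs <;> simp

theorem ev_triv : D.ev (trivIrr G) = 1 := by
  simp [ev, dd, D.mult_triv, D.hh_ne]

theorem dv_triv : D.dv (trivIrr G) = 1 := by
  simp [dv, dd, D.mult_triv, D.two_ne]

theorem mult_μ (χ : Cfsg.IrrCharacter G) (j : ZMod D.N) :
    mult D.σ D.pow_N χ (D.μ * j) = mult D.σ D.pow_N χ j := by
  apply Int.cast_injective (α := ℂ)
  refine mul_left_cancel₀ (Nat.cast_ne_zero.2 (NeZero.ne D.N) : (D.N : ℂ) ≠ 0) ?_
  rw [mult_eq D.pow_N, mult_eq D.pow_N]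
  refine Fintype.sum_equiv ⟨(D.μ * ·), (D.μ * ·), fun l => ?_, fun l => ?_⟩ _ _ fun l => ?_
  · show D.μ * (D.μ * l) = l
    linear_combination l * D.μ_sq
  · show D.μ * (D.μ * l) = l
    linear_combination l * D.μ_sq
  · show _ = (χ : G → ℂ) (D.σ ^ (D.μ * l).val) * ee (-(j * (D.μ * l)))
    rw [← D.conj_t, irr_isClassFunction χ, show D.μ * j * l = j * (D.μ * l) by ring]

/-- The first combination agrees with the degree modulo two. -/
theorem ev_cong (χ : Cfsg.IrrCharacter G) :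
    ((Cfsg.charDegree (χ : G → ℂ) : ℤ) : ZMod 2) = (D.ev χ : ZMod 2) := by
  have h0 : (Cfsg.charDegree (χ : G → ℂ) : ℤ) = ∑ j, mult D.σ D.pow_N χ j := by
    apply Int.cast_injective (α := ℂ)
    have h := mult_spec D.pow_N χ 0
    rw [pow_zero] at h
    push_cast
    rw [charDegree_cast, h]
    refine Finset.sum_congr rfl fun j _ => ?_
    rw [Nat.cast_zero, mul_zero]
    show (_ : ℂ) * ZMod.stdAddChar (0 : ZMod D.N) = _
    rw [AddChar.map_zero_eq_one, mul_one]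
  have hfix : ∀ j : ZMod D.N, D.μ * j = j → j = 0 ∨ j = D.hh := fun j hj => by
    by_contra hne
    push Not at hne
    exact D.μ_mul_ne (fun h2 => (D.eq_zero_or_hh h2).elim hne.1 hne.2) hj
  have hrest : ∑ j ∈ Finset.univ \ ({0, D.hh} : Finset (ZMod D.N)),
      (mult D.σ D.pow_N χ j : ZMod 2) = 0 := by
    refine Finset.sum_involution (fun j _ => D.μ * j) (fun j _ => ?_) (fun j hj _ h => ?_)
      (fun j hj => ?_) (fun j _ => ?_)
    · rw [D.mult_μ χ j]; exact CharTwo.add_self_eq_zero _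
    · simp only [Finset.mem_sdiff, Finset.mem_univ, true_and, Finset.mem_insert,
        Finset.mem_singleton] at hj
      exact hj (hfix j h)
    · simp only [Finset.mem_sdiff, Finset.mem_univ, true_and, Finset.mem_insert,
        Finset.mem_singleton, not_or] at hj ⊢
      refine ⟨fun h => hj.1 ?_, fun h => hj.2 ?_⟩
      · linear_combination D.μ * h - j * D.μ_sq
      · linear_combination D.μ * h - j * D.μ_sq + D.μ_mul_hh
    · show D.μ * (D.μ * j) = j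
      linear_combination j * D.μ_sq
  rw [h0, Int.cast_sum, ← Finset.sum_sdiff (Finset.subset_univ ({0, D.hh} : Finset (ZMod D.N))),
    hrest, zero_add, Finset.sum_pair D.hh_ne.symm, ev, dd, Int.cast_sub, CharTwo.sub_eq_add]

/-- Four members of the block of odd degree, and a fifth of even degree. -/
structure Quad (D : Data G) (M : Ideal Cfsg.AlgInt) where
  c₁ : Cfsg.IrrCharacter G
  c₂ : Cfsg.IrrCharacter G
  c₃ : Cfsg.IrrCharacter G
  Y : Cfsg.IrrCharacter G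
  mem : c₁ ∈ bb M G ∧ c₂ ∈ bb M G ∧ c₃ ∈ bb M G ∧ Y ∈ bb M G
  ne₁ : c₁ ≠ trivIrr G
  ne₂ : c₂ ≠ trivIrr G ∧ c₂ ≠ c₁
  ne₃ : c₃ ≠ trivIrr G ∧ c₃ ≠ c₁ ∧ c₃ ≠ c₂
  neY : Y ≠ trivIrr G ∧ Y ≠ c₁ ∧ Y ≠ c₂ ∧ Y ≠ c₃
  unit : (D.ev c₁ = 1 ∨ D.ev c₁ = -1) ∧ (D.ev c₂ = 1 ∨ D.ev c₂ = -1) ∧
    (D.ev c₃ = 1 ∨ D.ev c₃ = -1) ∧ (D.dv Y = 1 ∨ D.dv Y = -1)
  dv₁ : D.dv c₁ = D.ev c₁
  evY : D.ev Y = 0
  supp : ∀ χ ∈ bb M G, χ ≠ trivIrr G → χ ≠ c₁ →
    (χ ≠ Y → D.dv χ = 0) ∧ (χ ≠ c₂ → χ ≠ c₃ → D.ev χ = 0)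

theorem unit_of_norm {B : Finset (Cfsg.IrrCharacter G)} {f : Cfsg.IrrCharacter G → ℤ} {n : ℤ}
    (hn : n < 5) {o : Cfsg.IrrCharacter G} (ho : o ∈ B) (hf : f o = 1)
    (hs : ∑ χ ∈ B, f χ * f χ = n) : ∀ χ ∈ B, f χ ≠ 0 → f χ = 1 ∨ f χ = -1 := by
  intro χ hχ h0
  by_contra hne
  have h4 : 4 ≤ f χ * f χ := by
    rcases (show 2 ≤ f χ ∨ f χ ≤ -2 by omega) with h | h <;> nlinarith
  have hχo : χ ≠ o := fun h => hne (Or.inl (h ▸ hf))
  have := Finset.sum_le_sum_of_subset_of_nonneg (f := fun χ => f χ * f χ)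
    (show {χ, o} ⊆ B by simp [Finset.insert_subset_iff, hχ, ho]) fun _ _ _ => mul_self_nonneg _
  rw [Finset.sum_pair hχo, hf, hs] at this
  omega

theorem exists_quad (hM : Cfsg.IsPModular 2 M) : Nonempty (Quad D M) := by
  have ho := mem_principal_triv (G := G) hM
  set o := trivIrr G with hodef
  have he1 := unit_of_norm (by norm_num) ho D.ev_triv (D.sum_ev_ev hM)
  have hd1 := unit_of_norm (by norm_num) ho D.dv_triv (D.sum_dv_dv hM)
  set E := (bb M G).filter fun χ => D.ev χ ≠ 0 with hE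
  set E' := (bb M G).filter fun χ => D.dv χ ≠ 0 with hE'
  have hEc : E.card = 4 := by
    have h := D.sum_ev_ev hM
    rw [← Finset.sum_filter_of_ne (p := fun χ => D.ev χ ≠ 0) (fun χ _ h => fun h0 => h (by simp [h0])),
      Finset.sum_congr rfl (g := fun _ => (1 : ℤ)) fun χ hχ => by
        rcases he1 χ (Finset.mem_filter.1 hχ).1 (Finset.mem_filter.1 hχ).2 with e | e <;> simp [e]] at h
    rw [Finset.sum_const, nsmul_one] at h
    exact_mod_cast h
  have hEc' : E'.card = 3 := by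
    have h := D.sum_dv_dv hM
    rw [← Finset.sum_filter_of_ne (p := fun χ => D.dv χ ≠ 0) (fun χ _ h => fun h0 => h (by simp [h0])),
      Finset.sum_congr rfl (g := fun _ => (1 : ℤ)) fun χ hχ => by
        rcases hd1 χ (Finset.mem_filter.1 hχ).1 (Finset.mem_filter.1 hχ).2 with e | e <;> simp [e]] at h
    rw [Finset.sum_const, nsmul_one] at h
    exact_mod_cast h
  have hoE : o ∈ E := Finset.mem_filter.2 ⟨ho, by rw [D.ev_triv]; exact one_ne_zero⟩
  have hoE' : o ∈ E' := Finset.mem_filter.2 ⟨ho, by rw [D.dv_triv]; exact one_ne_zero⟩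
  obtain ⟨a, b, hab, hE'o⟩ : ∃ a b, a ≠ b ∧ E'.erase o = {a, b} :=
    Finset.card_eq_two.1 (by rw [Finset.card_erase_of_mem hoE', hEc'])
  have hsum : D.ev a * D.dv a + D.ev b * D.dv b = 1 := by
    have h := D.sum_ev_dv hM
    rw [← Finset.sum_filter_of_ne (p := fun χ => D.dv χ ≠ 0)
      (fun χ _ h => fun h0 => h (by simp [h0])), ← hE', ← Finset.add_sum_erase E' _ hoE', hE'o,
      Finset.sum_pair hab, D.ev_triv, D.dv_triv] at h
    linarith
  have hab' : ∀ χ ∈ ({a, b} : Finset _), χ ∈ bb M G ∧ χ ≠ o ∧ (D.dv χ = 1 ∨ D.dv χ = -1) ∧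
      (D.ev χ = 0 ∨ D.ev χ = 1 ∨ D.ev χ = -1) := fun χ hχ => by
    rw [← hE'o, Finset.mem_erase, hE', Finset.mem_filter] at hχ
    refine ⟨hχ.2.1, hχ.1, hd1 χ hχ.2.1 hχ.2.2, ?_⟩
    by_cases h : D.ev χ = 0
    · exact Or.inl h
    · exact Or.inr (he1 χ hχ.2.1 h)
  obtain ⟨c, Y, hcY, hset, hcy⟩ : ∃ c Y, c ≠ Y ∧ ({a, b} : Finset _) = {c, Y} ∧
      D.dv c = D.ev c ∧ D.ev Y = 0 := by
    obtain ⟨-, -, ha1, ha2⟩ := hab' a (by simp)
    obtain ⟨-, -, hb1, hb2⟩ := hab' b (by simp)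
    by_cases hb : D.ev b = 0
    · refine ⟨a, b, hab, rfl, ?_, hb⟩
      rw [hb, zero_mul, add_zero] at hsum
      rcases ha1 with e | e <;> rw [e] at hsum ⊢ <;> omega
    · refine ⟨b, a, hab.symm, Finset.pair_comm a b, ?_, ?_⟩ <;>
      · rcases ha1 with e1 | e1 <;> rcases hb1 with e2 | e2 <;> rw [e1, e2] at hsum <;>
          rcases ha2 with e | e | e <;> rcases hb2 with e' | e' | e' <;> omega
  rw [hset] at hab' hE'o
  obtain ⟨hcB, hco, hcd, -⟩ := hab' c (by simp)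
  obtain ⟨hYB, hYo, hYd, -⟩ := hab' Y (by simp)
  have hce : D.ev c = 1 ∨ D.ev c = -1 := hcy.1 ▸ hcd
  have hcE : c ∈ E.erase o := Finset.mem_erase.2 ⟨hco, Finset.mem_filter.2 ⟨hcB, by omega⟩⟩
  obtain ⟨x, y, hxy, hExy⟩ : ∃ x y, x ≠ y ∧ (E.erase o).erase c = {x, y} :=
    Finset.card_eq_two.1 (by
      rw [Finset.card_erase_of_mem hcE, Finset.card_erase_of_mem hoE, hEc])
  have hxy' : ∀ χ ∈ ({x, y} : Finset _), χ ∈ bb M G ∧ χ ≠ o ∧ χ ≠ c ∧ χ ≠ Y ∧
      (D.ev χ = 1 ∨ D.ev χ = -1) := fun χ hχ => by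
    rw [← hExy, Finset.mem_erase, Finset.mem_erase, hE, Finset.mem_filter] at hχ
    exact ⟨hχ.2.2.1, hχ.2.1, hχ.1, fun h => hχ.2.2.2 (h ▸ hcy.2), he1 χ hχ.2.2.1 hχ.2.2.2⟩
  obtain ⟨hxB, hxo, hxc, hxY, hxe⟩ := hxy' x (by simp)
  obtain ⟨hyB, hyo, hyc, hyY, hye⟩ := hxy' y (by simp)
  refine ⟨⟨c, x, y, Y, ⟨hcB, hxB, hyB, hYB⟩, hco, ⟨hxo, hxc⟩, ⟨hyo, hyc, hxy.symm⟩,
    ⟨hYo, hcY.symm, hxY.symm, hyY.symm⟩, ⟨hce, hxe, hye, hYd⟩, hcy.1, hcy.2,
    fun χ hχ hχo hχc => ⟨fun hχY => ?_, fun hχx hχy => ?_⟩⟩⟩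
  · by_contra h
    have : χ ∈ E'.erase o := Finset.mem_erase.2 ⟨hχo, Finset.mem_filter.2 ⟨hχ, h⟩⟩
    rw [hE'o] at this
    simp [hχc, hχY] at this
  · by_contra h
    have : χ ∈ (E.erase o).erase c :=
      Finset.mem_erase.2 ⟨hχc, Finset.mem_erase.2 ⟨hχo, Finset.mem_filter.2 ⟨hχ, h⟩⟩⟩
    rw [hExy] at this
    simp [hχx, hχy] at this

theorem sum_ev_perp (hM : Cfsg.IsPModular 2 M) {g : G}
    (hg : ∀ l : ZMod D.N, 2 * l ≠ 0 → ¬ InSec 2 (D.σ ^ l.val) g) :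
    ∑ χ ∈ bb M G, (D.ev χ : ℂ) * (χ : G → ℂ) g = 0 ∧
      ∑ χ ∈ bb M G, (D.dv χ : ℂ) * (χ : G → ℂ) g = 0 := by
  have hz : ∀ l : ZMod D.N, 2 * l ≠ 0 →
      ∑ χ ∈ bb M G, (χ : G → ℂ) (D.σ ^ l.val) * conj ((χ : G → ℂ) g) = 0 := fun l hl => by
    have h := congrArg conj (D.col_sum hM hl g)
    rw [if_neg (hg l hl), map_sum, map_zero] at h
    rw [← h]
    refine Finset.sum_congr rfl fun χ _ => ?_
    rw [map_mul, Complex.conj_conj]; ring
  constructor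
  · have h := congrArg conj (sum_dd_col_zero (g := g) D.pow_N hz D.hjk_hh)
    rw [map_sum, map_zero] at h
    rw [← h]
    exact Finset.sum_congr rfl fun χ _ => by rw [map_mul, map_intCast, Complex.conj_conj]; rfl
  · have h := congrArg conj (sum_dd_col_zero (g := g) D.pow_N hz D.hjk_two)
    rw [map_sum, map_zero] at h
    rw [← h]
    exact Finset.sum_congr rfl fun χ _ => by rw [map_mul, map_intCast, Complex.conj_conj]; rfl

/-- The relations between the values on four members, where the rotations do not see. -/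
theorem Quad.relations (Q : Quad D M) (hM : Cfsg.IsPModular 2 M) {f : Cfsg.IrrCharacter G → ℂ}
    (he : ∑ χ ∈ bb M G, (D.ev χ : ℂ) * f χ = 0) (hd : ∑ χ ∈ bb M G, (D.dv χ : ℂ) * f χ = 0) :
    f (trivIrr G) + (D.ev Q.c₁ : ℂ) * f Q.c₁ + (D.ev Q.c₂ : ℂ) * f Q.c₂ +
        (D.ev Q.c₃ : ℂ) * f Q.c₃ = 0 ∧
      f (trivIrr G) + (D.ev Q.c₁ : ℂ) * f Q.c₁ + (D.dv Q.Y : ℂ) * f Q.Y = 0 := by
  obtain ⟨h1, h2, h3, hY⟩ := Q.mem
  constructor
  · rw [← Finset.sum_subset (s₁ := {trivIrr G, Q.c₁, Q.c₂, Q.c₃})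
      (by simp [Finset.insert_subset_iff, mem_principal_triv hM, h1, h2, h3])
      (fun χ hχ hn => by
        simp only [Finset.mem_insert, Finset.mem_singleton, not_or] at hn
        rw [((Q.supp χ hχ hn.1 hn.2.1).2 hn.2.2.1 hn.2.2.2), Int.cast_zero, zero_mul])] at he
    rw [Finset.sum_insert (by simp [Q.ne₁.symm, Q.ne₂.1.symm, Q.ne₃.1.symm]),
      Finset.sum_insert (by simp [Q.ne₂.2.symm, Q.ne₃.2.1.symm]),
      Finset.sum_pair Q.ne₃.2.2.symm, D.ev_triv] at he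
    push_cast at he
    linear_combination he
  · rw [← Finset.sum_subset (s₁ := {trivIrr G, Q.c₁, Q.Y})
      (by simp [Finset.insert_subset_iff, mem_principal_triv hM, h1, hY])
      (fun χ hχ hn => by
        simp only [Finset.mem_insert, Finset.mem_singleton, not_or] at hn
        rw [((Q.supp χ hχ hn.1 hn.2.1).1 hn.2.2), Int.cast_zero, zero_mul])] at hd
    rw [Finset.sum_insert (by simp [Q.ne₁.symm, Q.neY.1.symm]),
      Finset.sum_pair Q.neY.2.1.symm, D.dv_triv, Q.dv₁] at hd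
    push_cast at hd
    linear_combination hd

theorem Quad.ev_odd (Q : Quad D M) {χ : Cfsg.IrrCharacter G} (hχ : χ ∈ bb M G) :
    D.ev χ % 2 = 1 ↔ χ = trivIrr G ∨ χ = Q.c₁ ∨ χ = Q.c₂ ∨ χ = Q.c₃ := by
  obtain ⟨h1, h2, h3, -⟩ := Q.unit
  constructor
  · intro h
    by_contra hn
    push Not at hn
    rw [(Q.supp χ hχ hn.1 hn.2.1).2 hn.2.2.1 hn.2.2.2] at h
    simp at h
  · rintro (rfl | rfl | rfl | rfl)
    · rw [D.ev_triv]; rfl
    all_goals omega

/-! ## The rotations are not inverted -/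

theorem not_inverted (l : ℕ) (hl : ¬ 2 ∣ l) (g : G) :
    g * D.σ ^ l * g⁻¹ ≠ (D.σ ^ l)⁻¹ := fun h => by
  have hodd : ¬ 2 ∣ (l : ZMod D.N).val := by
    rw [ZMod.val_natCast]
    intro hd
    have h2 : 2 ∣ D.N := dvd_trans (by norm_num) D.four_dvd
    exact hl ((Nat.dvd_mod_iff h2).1 hd)
  have hhl : D.hh * (l : ZMod D.N) = D.hh := by
    obtain ⟨i, rfl⟩ : ∃ i, l = 2 * i + 1 := ⟨l / 2, by omega⟩
    push_cast
    linear_combination (i : ZMod D.N) * D.two_mul_hh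
  have hadm : 2 * (l : ZMod D.N) ≠ 0 := fun h2 => D.hh_ne (by
    rcases D.eq_zero_or_hh h2 with e | e
    · rw [e, mul_zero] at hhl; exact hhl.symm
    · rw [e, D.hh_mul_hh] at hhl; exact hhl.symm)
  have hinv : (D.σ ^ l)⁻¹ = D.σ ^ (-(l : ZMod D.N)).val := by
    refine inv_eq_of_mul_eq_one_right ?_
    rw [← pow_add, ← pow_zero D.σ, D.pow_eq_pow, Nat.cast_add, ZMod.natCast_zmod_val, Nat.cast_zero,
      add_neg_cancel]
  have hc : IsConj (D.σ ^ (l : ZMod D.N).val) (D.σ ^ (-(l : ZMod D.N)).val) := by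
    rw [← hinv, show D.σ ^ (l : ZMod D.N).val = D.σ ^ l from D.pow_eq_pow.2 (ZMod.natCast_zmod_val _)]
    exact isConj_iff.2 ⟨g, h⟩
  rcases (D.fusion hadm).1 hc with e | e
  · exact hadm (by linear_combination -e)
  · refine D.hh_ne ?_
    rw [μ] at e
    linear_combination -e - hhl

/-- The combination `m_0 - m_{N/2}` kills the squares of the values at the involution. -/
theorem sum_ev_sq (hM : Cfsg.IsPModular 2 M) :
    ∑ χ ∈ bb M G, (D.ev χ : ℂ) * (χ : G → ℂ) D.z ^ 2 / (χ : G → ℂ) 1 = 0 := by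
  haveI : Fact (Nat.Prime 2) := ⟨Nat.prime_two⟩
  set A := Subgroup.zpowers D.σ
  have hg : ∀ x : A, x ∈ Subgroup.zpowers (⟨D.σ, Subgroup.mem_zpowers _⟩ : A) := fun x => by
    obtain ⟨k, hk⟩ := Subgroup.mem_zpowers_iff.1 x.2
    exact Subgroup.mem_zpowers_iff.2 ⟨k, Subtype.ext hk⟩
  have hm1 : orderOf (-1 : ℂˣ) ∣ orderOf (⟨D.σ, Subgroup.mem_zpowers _⟩ : A) := by
    rw [← Subgroup.orderOf_coe]
    show _ ∣ orderOf D.σ
    rw [D.order_σ]
    exact (orderOf_dvd_of_pow_eq_one (by simp : (-1 : ℂˣ) ^ 2 = 1)).trans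
      (dvd_trans (by norm_num) D.four_dvd)
  set sg : A →* ℂˣ := monoidHomOfForallMemZpowers hg hm1
  set θ : A → ℂ := (fun _ => 1) - fun y => (sg y : ℂ) with hθdef
  have hθ : Cfsg.IsGeneralizedCharacter A θ := ⟨_, _, isCharacter_of_isIrr isIrrCharacter_one,
    isCharacter_of_isIrr (isIrrCharacter_linear sg), rfl⟩
  have hsg : ∀ l : ℕ, (sg ⟨D.σ ^ l, Subgroup.npow_mem_zpowers _ _⟩ : ℂ) = (-1) ^ l := fun l => by
    rw [show (⟨D.σ ^ l, Subgroup.npow_mem_zpowers _ _⟩ : A) = ⟨D.σ, Subgroup.mem_zpowers _⟩ ^ l from rfl,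
      map_pow, monoidHomOfForallMemZpowers_apply_gen]
    simp
  set U : Set G := {y | ∃ l : ℕ, ¬ 2 ∣ l ∧ D.σ ^ l = y}
  have hp : IsPGroup 2 A := by
    obtain ⟨j, -, hj⟩ := D.N_pow
    exact IsPGroup.of_card (n := j) (by rw [Nat.card_zpowers, D.order_σ, hj])
  obtain ⟨h, -, -, -⟩ := Cfsg.Agent.S4722.result M hM A hp U
    (by rintro _ ⟨l, -, rfl⟩; exact Subgroup.npow_mem_zpowers _ _) D.z D.orderOf_z
    (by rintro _ ⟨l, hl, rfl⟩ g; exact D.not_inverted l hl _) θ hθ (fun y hy => by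
      obtain ⟨k, hk⟩ := mem_powers_iff_mem_zpowers.2 y.2
      obtain rfl : y = ⟨D.σ ^ k, Subgroup.npow_mem_zpowers _ _⟩ := Subtype.ext hk.symm
      have hk2 : Even k := by
        by_contra hodd
        exact hy ⟨k, fun h => hodd (even_iff_two_dvd.2 h), rfl⟩
      show (1 : ℂ) - (sg _ : ℂ) = 0
      rw [hsg, hk2.neg_one_pow, sub_self])
  rw [ZStar.Principal.finsum_mem_eq_sum_filter] at h
  refine Eq.trans (Finset.sum_congr rfl fun χ _ => ?_) h
  congr 2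
  symm
  haveI := Fintype.ofFinite A
  rw [finsum_eq_sum_of_fintype, Nat.card_zpowers, D.order_σ]
  rw [inv_mul_eq_iff_eq_mul₀ (Nat.cast_ne_zero.2 (NeZero.ne D.N))]
  rw [ev, dd_eq D.pow_N]
  have hbij : Function.Bijective
      fun l : ZMod D.N => (⟨D.σ ^ l.val, Subgroup.npow_mem_zpowers _ _⟩ : A) := by
    refine ⟨fun a b e => D.pow_val_eq.1 (congrArg Subtype.val e), fun y => ?_⟩
    obtain ⟨k, hk⟩ := mem_powers_iff_mem_zpowers.2 y.2
    exact ⟨(k : ZMod D.N), Subtype.ext ((D.pow_eq_pow.2 (ZMod.natCast_zmod_val _)).trans hk)⟩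
  refine (Fintype.sum_bijective _ hbij _ _ fun l => ?_).symm
  show _ = (χ : G → ℂ) (D.σ ^ l.val) * ((1 : ℂ) - (sg (⟨_, _⟩ : A)⁻¹ : ℂ))
  rw [map_inv, Units.val_inv_eq_inv_val, hsg, ← inv_pow, inv_neg, inv_one, mul_comm]
  congr 1
  simp only [zero_mul, neg_zero]
  show ZMod.stdAddChar (0 : ZMod D.N) - ZMod.stdAddChar (-(D.hh * l)) = _
  rw [AddChar.map_zero_eq_one]
  congr 1
  have hm : (ZMod.stdAddChar D.hh : ℂ) = -1 := by
    have h2 : (ZMod.stdAddChar D.hh : ℂ) * ZMod.stdAddChar D.hh = 1 := by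
      rw [← AddChar.map_add_eq_mul, D.hh_add, AddChar.map_zero_eq_one]
    rcases mul_self_eq_one_iff.1 h2 with e | e
    · exact absurd (ZMod.injective_stdAddChar (e.trans (AddChar.map_zero_eq_one _).symm)) D.hh_ne
    · exact e
  rw [show -(D.hh * l) = l.val • D.hh by
    rw [nsmul_eq_mul, ZMod.natCast_zmod_val]; linear_combination -l * D.two_mul_hh,
    AddChar.map_nsmul_eq_pow, hm]

end Data

end Cfsg.Agent.CycSD
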