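import Mathlib
import Cfsg.Agent.Lib.CycSD.Rot
import Cfsg.Agent.Lib.Characters.Integrality

/-!
# The values in the section of the central involution
-/

set_option autoImplicit false
set_option linter.unusedSectionVars false
set_option linter.style.haveILetI false

open scoped Classical

namespace Cfsg.Agent.CycSD

open Cfsg.Agent.Blocks Cfsg.Agent.Characters
open scoped ComplexConjugate

universe u

variable {G : Type u} [Group G] [Finite G] (D : Data G) [Fintype (Cfsg.IrrCharacter G)]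
  {M : Ideal Cfsg.AlgInt}

theorem sum_range_periodic {p : ℕ} (f : ℕ → ℂ) (hf : ∀ a i, f (a * p + i) = f i) :
    ∀ q : ℕ, ∑ i ∈ Finset.range (q * p), f i = q * ∑ i ∈ Finset.range p, f i
  | 0 => by simp
  | q + 1 => by
    rw [add_mul, one_mul, Finset.sum_range_add, sum_range_periodic f hf q,
      Finset.sum_congr rfl fun i _ => hf q i]
    push_cast
    ring

namespace Data

theorem dvd_iff {n : ℕ} : D.N ∣ n ↔ D.σ ^ n = 1 := by
  rw [← orderOf_dvd_iff_pow_eq_one, D.order_σ]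

theorem z_two : ∃ k : ℕ, orderOf D.z = 2 ^ k := ⟨1, by rw [D.orderOf_z, pow_one]⟩

/-- The values in the section depend only on the image in `PGL₂(p)`. -/
theorem value_congr (hM : Cfsg.IsPModular 2 M) {χ : Cfsg.IrrCharacter G}
    (hχ : χ ∈ bb M G) {g g' : Subgroup.centralizer ({D.z} : Set G)} (hg : ¬ 2 ∣ orderOf g)
    (hg' : ¬ 2 ∣ orderOf g') (h : D.π' g = D.π' g') :
    (χ : G → ℂ) (D.z * (g : G)) = (χ : G → ℂ) (D.z * (g' : G)) := by
  letI := Fintype.ofFinite (Subgroup.centralizer ({D.z} : Set G))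
  have hk : g⁻¹ * g' ∈ D.K' := by
    rcases (D.π'_ker (g⁻¹ * g')).1 (by rw [map_mul, map_inv, h, inv_mul_cancel]) with hk | hk
    · exact hk
    · exfalso
      have h2 := regular_mul_mem D.K_odd (K := D.K') hg hk
      rw [← mul_assoc, mul_inv_cancel_left] at h2
      rw [Subgroup.mem_center_iff.1 D.zC_center g',
        ZStar.Sections.orderOf_mul_regular D.orderOf_zC
          (Subgroup.mem_center_iff.1 D.zC_center g').symm hg'] at h2
      exact h2 (dvd_mul_right 2 _)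
  have hχ' := mem_bb.1 hχ
  have h1 := ZStar.Principal.shift_eq_principal hM D.z_two hχ' hg
  have h2 := ZStar.Principal.shift_eq_principal hM D.z_two hχ' hg'
  simp only [ZStar.Principal.shift] at h1 h2
  rw [h1, h2]
  refine finsum_congr fun ξ => finsum_congr fun hξ => ?_
  congr 1
  obtain ⟨ψ, -, hψ, -⟩ := exists_deflate (QuotientGroup.mk' D.K') (QuotientGroup.mk'_surjective _)
    (irr_isCharacter ξ) fun n hn => trivial_on_transfer (N := D.K') hM D.K_odd (χ := trivIrr _) hξ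
      (fun _ _ => rfl) n (by rwa [QuotientGroup.ker_mk'] at hn)
  rw [← hψ]
  show ψ ((g : Subgroup.centralizer ({D.z} : Set G) ⧸ D.K')) = ψ (g' : _ ⧸ D.K')
  rw [QuotientGroup.eq.2 hk]

theorem value_z_int (χ : Cfsg.IrrCharacter G) : ∃ n : ℤ, (χ : G → ℂ) D.z = n := by
  have hz : D.z ^ 2 = 1 := (pow_two _).trans D.z_sq
  refine ⟨∑ j : ZMod 2, mult D.z hz χ j * if j = 0 then 1 else -1, ?_⟩
  have h := mult_spec hz χ 1
  rw [pow_one] at h
  rw [h]
  push_cast
  refine Finset.sum_congr rfl fun j _ => ?_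
  congr 1
  rw [mul_one]
  show (ZMod.stdAddChar j : ℂ) = _
  split_ifs with hj
  · rw [hj, AddChar.map_zero_eq_one]
  · have h2 : (ZMod.stdAddChar j : ℂ) * ZMod.stdAddChar j = 1 := by
      rw [← AddChar.map_add_eq_mul, CharTwo.add_self_eq_zero, AddChar.map_zero_eq_one]
    rcases mul_self_eq_one_iff.1 h2 with e | e
    · exact absurd (ZMod.injective_stdAddChar (e.trans (AddChar.map_zero_eq_one _).symm)) hj
    · exact e

theorem pow_value_sum {x : G} {L : ℕ} [NeZero L] (hx : x ^ (2 * L) = 1) (hL : Odd L)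
    (χ : Cfsg.IrrCharacter G) :
    ∃ n : ℤ, ∑ i ∈ Finset.range L, (χ : G → ℂ) (x ^ (L + (L + 1) * i)) = (L : ℂ) * n := by
  haveI : NeZero (2 * L) := ⟨mul_ne_zero two_ne_zero (NeZero.ne L)⟩
  have hsign : ∀ j : ZMod (2 * L), ∃ e : ℤ, (ee (j * (L : ZMod (2 * L))) : ℂ) = e := fun j => by
    have h2 : ee (j * (L : ZMod (2 * L))) * ee (j * (L : ZMod (2 * L))) = 1 := by
      show ZMod.stdAddChar _ * ZMod.stdAddChar _ = (1 : ℂ)
      rw [← AddChar.map_add_eq_mul, ← mul_add, ← Nat.cast_add,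
        show L + L = 2 * L by ring, ZMod.natCast_self, mul_zero, AddChar.map_zero_eq_one]
    rcases mul_self_eq_one_iff.1 h2 with e | e
    · exact ⟨1, by rw [e]; simp⟩
    · exact ⟨-1, by rw [e]; simp⟩
  choose sg hsg using hsign
  refine ⟨∑ j : ZMod (2 * L), mult x hx χ j *
    (sg j * if j * ((L + 1 : ℕ) : ZMod (2 * L)) = 0 then 1 else 0), ?_⟩
  simp only [mult_spec hx χ]
  rw [Finset.sum_comm, Int.cast_sum, Finset.mul_sum]
  refine Finset.sum_congr rfl fun j _ => ?_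
  have he : ∀ i : ℕ, ee (j * ((L + (L + 1) * i : ℕ) : ZMod (2 * L))) =
      (sg j : ℂ) * ee (j * ((L + 1 : ℕ) : ZMod (2 * L))) ^ i := fun i => by
    rw [← hsg, ee_pow]
    show _ = ZMod.stdAddChar _ * ZMod.stdAddChar _
    rw [← AddChar.map_add_eq_mul]
    show ZMod.stdAddChar _ = _
    congr 1
    push_cast
    ring
  simp only [he, ← mul_assoc, ← Finset.mul_sum]
  set ω : ℂ := ee (j * ((L + 1 : ℕ) : ZMod (2 * L))) with hω
  have hωL : ω ^ L = 1 := by
    obtain ⟨k, hk⟩ := hL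
    rw [hω, ee_pow, mul_left_comm, ← Nat.cast_mul,
      show L * (L + 1) = 2 * L * (k + 1) by subst hk; ring, Nat.cast_mul, ZMod.natCast_self,
      zero_mul, mul_zero]
    exact AddChar.map_zero_eq_one _
  by_cases hj : j * ((L + 1 : ℕ) : ZMod (2 * L)) = 0
  · have : ω = 1 := by rw [hω, hj]; exact AddChar.map_zero_eq_one _
    rw [this, if_pos hj]
    simp
    ring
  · have hne : ω ≠ 1 := fun h =>
      hj (ZMod.injective_stdAddChar (h.trans (AddChar.map_zero_eq_one _).symm))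
    rw [geom_sum_eq hne, hωL, if_neg hj]
    simp

/-- The values at the involution and at its product with an element over a unipotent element. -/
theorem exists_zy (hM : Cfsg.IsPModular 2 M) {u : Subgroup.centralizer ({D.z} : Set G)}
    (hu : haveI := D.hp; D.π' u = XGroup.uu) (huo : ¬ 2 ∣ orderOf u) {χ : Cfsg.IrrCharacter G}
    (hχ : χ ∈ bb M G) :
    ∃ y m : ℤ, (χ : G → ℂ) (D.z * (u : G)) = y ∧ (χ : G → ℂ) D.z + ((D.p : ℂ) - 1) * y = D.p * m := by
  haveI := D.hp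
  set L := orderOf u with hLdef
  haveI : NeZero L := ⟨(orderOf_pos u).ne'⟩
  have huG : orderOf (u : G) = L := Subgroup.orderOf_coe u
  have hcu : Commute D.z (u : G) := (Subgroup.mem_centralizer_singleton_iff.1 u.2).symm
  have hL : Odd L := Nat.odd_iff.2 (Nat.two_dvd_ne_zero.1 huo)
  have hx : (D.z * (u : G)) ^ (2 * L) = 1 := by
    rw [hcu.mul_pow, pow_mul, pow_two, D.z_sq, one_pow, mul_comm 2 L, pow_mul, ← huG,
      pow_orderOf_eq_one, one_pow, one_mul]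
  have hval : ∀ i : ℕ, (D.z * (u : G)) ^ (L + (L + 1) * i) = D.z * ((u ^ i : _) : G) := fun i => by
    obtain ⟨k, hk⟩ := hL
    have hz : ∀ n : ℕ, D.z ^ (2 * n) = 1 := fun n => by rw [pow_mul, pow_two, D.z_sq, one_pow]
    rw [hcu.mul_pow, show L + (L + 1) * i = 2 * (k + (k + 1) * i) + 1 by rw [hk]; ring, pow_succ,
      hz, one_mul, Subgroup.coe_pow]
    congr 1
    rw [show 2 * (k + (k + 1) * i) + 1 = L * (1 + i) + i by rw [hk]; ring, pow_add, pow_mul,
      ← huG, pow_orderOf_eq_one, one_pow, one_mul]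
  have hup : D.p ∣ L := by
    rw [← XGroup.orderOf_uu (p := D.p), ← hu]; exact orderOf_map_dvd _ _
  have hreg : ∀ i : ℕ, ¬ 2 ∣ orderOf (u ^ i) := fun i h => huo (h.trans (orderOf_pow_dvd i))
  set f : ℕ → ℂ := fun i => (χ : G → ℂ) (D.z * ((u ^ i : _) : G)) with hf
  set y : ℂ := (χ : G → ℂ) (D.z * (u : G)) with hy
  have hf0 : f 0 = (χ : G → ℂ) D.z := by simp [hf]
  have hper : ∀ a i, f (a * D.p + i) = f i := fun a i =>
    D.value_congr hM hχ (hreg _) (hreg _) (by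
      rw [map_pow, map_pow, hu, pow_add, mul_comm a, pow_mul]
      rw [show (XGroup.uu (p := D.p)) ^ D.p = 1 from
        (congrArg _ (XGroup.orderOf_uu (p := D.p)).symm).trans (pow_orderOf_eq_one _), one_pow,
        one_mul])
  have hfi : ∀ i, ¬ D.p ∣ i → f i = y := fun i hi => by
    obtain ⟨c, hc⟩ := isConj_iff.1 (XGroup.isConj_uu_pow (p := D.p) hi)
    obtain ⟨c', rfl⟩ := (show Function.Surjective D.π' from D.π_surj) c
    have h1 : D.π' (c' * u * c'⁻¹) = D.π' (u ^ i) := by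
      rw [map_mul, map_mul, map_inv, map_pow, hu]; exact hc
    rw [hf]
    show (χ : G → ℂ) _ = _
    rw [← D.value_congr hM hχ (by rwa [BlockCharsA.RegularPart.orderOf_conj']) (hreg i) h1, hy,
      ← irr_isClassFunction χ (D.z * (u : G)) (c' : G)]
    refine congrArg (χ : G → ℂ) ?_
    rw [Subgroup.coe_mul, Subgroup.coe_mul, Subgroup.coe_inv]
    have hc' := Subgroup.mem_centralizer_singleton_iff.1 c'.2
    calc D.z * ((c' : G) * (u : G) * (c' : G)⁻¹) = (D.z * (c' : G)) * (u : G) * (c' : G)⁻¹ := by group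
      _ = ((c' : G) * D.z) * (u : G) * (c' : G)⁻¹ := by rw [hc']
      _ = _ := by group
  obtain ⟨q, hq⟩ := hup
  have hblock : ∑ i ∈ Finset.range D.p, f i = (χ : G → ℂ) D.z + ((D.p : ℂ) - 1) * y := by
    rw [← Finset.add_sum_erase _ _ (Finset.mem_range.2 D.hp.out.pos), hf0,
      Finset.sum_congr rfl (g := fun _ => y) fun i hi => by
        rw [Finset.mem_erase, Finset.mem_range] at hi
        exact hfi i fun hd => hi.1 (Nat.eq_zero_of_dvd_of_lt hd hi.2),
      Finset.sum_const, nsmul_eq_mul, Finset.card_erase_of_mem (Finset.mem_range.2 D.hp.out.pos),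
      Finset.card_range, Nat.cast_sub D.hp.out.one_le, Nat.cast_one]
  obtain ⟨n, hn⟩ := pow_value_sum hx hL χ
  simp only [hval] at hn
  rw [show Finset.range L = Finset.range (q * D.p) by rw [hq, mul_comm],
    sum_range_periodic f hper q, hblock, hq] at hn
  have hq0 : (q : ℂ) ≠ 0 := Nat.cast_ne_zero.2 (by rintro rfl; exact NeZero.ne L (by rw [hq, mul_zero]))
  have hm : (χ : G → ℂ) D.z + ((D.p : ℂ) - 1) * y = D.p * n := by
    refine mul_left_cancel₀ hq0 ?_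
    push_cast at hn
    linear_combination hn
  obtain ⟨Z, hZ⟩ := D.value_z_int χ
  have hp1 : ((D.p : ℂ) - 1) ≠ 0 := sub_ne_zero.2 (Nat.cast_ne_one.2 D.hp.out.ne_one)
  have hrat : y = (((((D.p : ℤ) * n - Z : ℤ) : ℚ) / ((D.p : ℚ) - 1) : ℚ) : ℂ) := by
    push_cast
    rw [eq_div_iff hp1]
    linear_combination hm - hZ
  have hint : IsIntegral ℤ y := hy ▸ char_value_isIntegral (irr_isCharacter χ) _
  obtain ⟨Y, hY⟩ := exists_int_of_isIntegral_ratCast (hrat ▸ hint)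
  rw [← hrat] at hY
  exact ⟨Y, n, hY, by rw [← hY]; exact hm⟩

/-- The two integer functions on the block in the section of the involution. -/
structure Sec (D : Data G) (M : Ideal Cfsg.AlgInt) where
  u : Subgroup.centralizer ({D.z} : Set G)
  hu : haveI := D.hp; D.π' u = XGroup.uu
  huo : ¬ 2 ∣ orderOf u
  a : Cfsg.IrrCharacter G → ℤ
  w : Cfsg.IrrCharacter G → ℤ
  at_z : ∀ χ ∈ bb M G, (χ : G → ℂ) D.z = a χ + ((XGroup.sgnP D.p : ℂ) + D.p) * w χ
  at_zu : ∀ χ ∈ bb M G, (χ : G → ℂ) (D.z * (u : G)) = a χ + (XGroup.sgnP D.p : ℂ) * w χ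

theorem exists_sec (hM : Cfsg.IsPModular 2 M) : Nonempty (Sec D M) := by
  obtain ⟨u, hu, huo⟩ := D.exists_u hM
  have h := fun χ : Cfsg.IrrCharacter G => exists_zy D hM hu huo (χ := χ)
  choose y m hy hm using h
  refine ⟨⟨u, hu, huo,
    fun χ => if hχ : χ ∈ bb M G then y χ hχ - XGroup.sgnP D.p * (m χ hχ - y χ hχ) else 0,
    fun χ => if hχ : χ ∈ bb M G then m χ hχ - y χ hχ else 0, fun χ hχ => ?_, fun χ hχ => ?_⟩⟩
  · simp only [dif_pos hχ]
    push_cast
    linear_combination hm χ hχ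
  · simp only [dif_pos hχ]
    rw [hy χ hχ]
    push_cast
    ring

theorem inSec_z {c : Subgroup.centralizer ({D.z} : Set G)} (hc : ¬ 2 ∣ orderOf c)
    {l : ZMod D.N} (hl : 2 * l ≠ 0) : ¬ InSec 2 (D.σ ^ l.val) (D.z * (c : G)) := by
  have hp : Cfsg.IsPPart 2 (D.z * (c : G)) D.z :=
    ⟨c, rfl, (Subgroup.mem_centralizer_singleton_iff.1 c.2).symm, D.z_two,
      by rwa [Subgroup.orderOf_coe]⟩
  rw [inSec_iff_of_ppart Nat.prime_two hp]
  intro h
  obtain ⟨g, hg⟩ := isConj_iff.1 h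
  refine D.two_mul_ne.1 hl ?_
  rw [D.dvd_iff, mul_comm, pow_mul]
  refine (MulAut.conj g).injective ?_
  rw [map_pow, map_one]
  show (g * D.σ ^ l.val * g⁻¹) ^ 2 = 1
  rw [hg, pow_two, D.z_sq]

theorem inSec_regular {g : G} (hg : ¬ 2 ∣ orderOf g) {l : ZMod D.N} (hl : 2 * l ≠ 0) :
    ¬ InSec 2 (D.σ ^ l.val) g := by
  have hp : Cfsg.IsPPart 2 g 1 :=
    ⟨g, one_mul g, Commute.one_left g, ⟨0, by simp⟩, hg⟩
  rw [inSec_iff_of_ppart Nat.prime_two hp]
  intro h
  have h1 : D.σ ^ l.val = 1 := isConj_one_left.1 h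
  refine D.two_mul_ne.1 hl (Dvd.dvd.mul_left ?_ 2)
  exact D.dvd_iff.2 h1

variable {D}

theorem Sec.gram (S : Sec D M) (hM : Cfsg.IsPModular 2 M) :
    ∑ χ ∈ bb M G, S.a χ * S.a χ = 8 ∧
      ∑ χ ∈ bb M G, S.a χ * S.w χ = -4 * XGroup.sgnP D.p ∧
      ∑ χ ∈ bb M G, S.w χ * S.w χ = ((D.N / 2 + 2 : ℕ) : ℤ) := by
  haveI := D.hp
  letI := Fintype.ofFinite (Cfsg.IrrCharacter (Subgroup.centralizer ({D.z} : Set G)))
  letI := Fintype.ofFinite (Cfsg.IrrCharacter (Matrix.ProjGenLinGroup (Fin 2) (ZMod D.p)))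
  obtain ⟨w, hw⟩ := D.exists_w
  obtain ⟨x, hx, hxo⟩ := XBlock.exists_rot D.p_odd hw
  rw [D.torus_two hw] at hxo
  haveI : NeZero (D.N / 2) := ⟨by have := D.eight_le; omega⟩
  obtain ⟨g11, g1u, guu⟩ := XBlock.gram (N := D.N / 2) D.p_odd hw hM hx (D.torus_two hw).symm hxo
  have one_reg : ¬ 2 ∣ orderOf (1 : Subgroup.centralizer ({D.z} : Set G)) := by simp
  have key : ∀ c d : Subgroup.centralizer ({D.z} : Set G), ¬ 2 ∣ orderOf c → ¬ 2 ∣ orderOf d →
      ∑ χ ∈ bb M G, (χ : G → ℂ) (D.z * (c : G)) * conj ((χ : G → ℂ) (D.z * (d : G))) =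
        2 * ∑ χ ∈ XBlock.B0 (p := D.p) M,
          (χ : _ → ℂ) (D.π' c) * conj ((χ : _ → ℂ) (D.π' d)) := fun c d hc hd => by
    rw [bb, gram_section hM D.z_two hc hd,
      gram_quot (K := D.K') (π := D.π') hM D.zC_center D.orderOf_zC D.K_odd D.π_surj D.π'_ker hc hd]
    try rfl
  have h11 := key 1 1 one_reg one_reg
  have h1u := key 1 S.u one_reg S.huo
  have huu := key S.u S.u S.huo S.huo
  rw [map_one, g11] at h11
  rw [map_one, S.hu, g1u] at h1u
  rw [S.hu, guu] at huu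
  simp only [OneMemClass.coe_one, mul_one] at h11 h1u
  rw [Finset.sum_congr rfl fun χ hχ => by
    rw [S.at_z χ hχ, map_add, map_mul, map_add, map_intCast, map_intCast, map_natCast, map_intCast]]
    at h11
  rw [Finset.sum_congr rfl fun χ hχ => by
    rw [S.at_z χ hχ, S.at_zu χ hχ, map_add, map_mul, map_intCast, map_intCast, map_intCast]] at h1u
  rw [Finset.sum_congr rfl fun χ hχ => by
    rw [S.at_zu χ hχ, map_add, map_mul, map_intCast, map_intCast, map_intCast]] at huu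
  obtain ⟨q, hq⟩ := D.four_dvd
  have hN : (((D.N / 2 : ℕ) : ℂ)) / 2 = (q : ℂ) := by
    rw [show D.N / 2 = 2 * q by omega]; push_cast; ring
  rw [hN] at h11 h1u huu
  set s : ℂ := (XGroup.sgnP D.p : ℂ) with hs
  have hs2 : s * s = 1 := by
    rcases XGroup.sgnP_eq D.p with e | e <;> simp [hs, e]
  set A : ℂ := ∑ χ ∈ bb M G, (S.a χ : ℂ) * S.a χ with hA
  set B : ℂ := ∑ χ ∈ bb M G, (S.a χ : ℂ) * S.w χ with hB
  set W : ℂ := ∑ χ ∈ bb M G, (S.w χ : ℂ) * S.w χ with hW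
  have e11 : A + 2 * (s + D.p) * B + (s + D.p) * (s + D.p) * W =
      2 * (2 + 2 * (D.p : ℂ) ^ 2 + ((q : ℂ) - 1) * ((D.p : ℂ) + s) ^ 2) := by
    rw [← h11, hA, hB, hW]
    simp only [Finset.mul_sum, ← Finset.sum_add_distrib]
    exact Finset.sum_congr rfl fun χ _ => by ring
  have e1u : A + (2 * s + D.p) * B + (s + D.p) * s * W =
      2 * (2 + ((q : ℂ) - 1) * s * ((D.p : ℂ) + s)) := by
    rw [← h1u, hA, hB, hW]
    simp only [Finset.mul_sum, ← Finset.sum_add_distrib]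
    exact Finset.sum_congr rfl fun χ _ => by ring
  have euu : A + 2 * s * B + W = 2 * (2 + ((q : ℂ) - 1)) := by
    rw [← huu, hA, hB, hW]
    simp only [Finset.mul_sum, ← Finset.sum_add_distrib]
    exact Finset.sum_congr rfl fun χ _ => by linear_combination -((S.w χ : ℂ) * S.w χ) * hs2
  have hp0 : (D.p : ℂ) ≠ 0 := Nat.cast_ne_zero.2 D.hp.out.ne_zero
  have hWv : W = 2 * q + 2 := by
    refine mul_left_cancel₀ (pow_ne_zero 2 hp0) ?_
    linear_combination e11 - 2 * e1u + euu + (2 - 2 * (q : ℂ) + W) * hs2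
  have hBv : B = -4 * s := by
    refine mul_left_cancel₀ hp0 ?_
    linear_combination e1u - euu + (-(s * D.p)) * hWv + (2 * (q : ℂ) - 2 - W) * hs2
  have hAv : A = 8 := by linear_combination euu - 2 * s * hBv - hWv + 8 * hs2
  refine ⟨?_, ?_, ?_⟩ <;> apply Int.cast_injective (α := ℂ)
  · push_cast; exact hAv
  · push_cast; exact hBv
  · rw [show D.N / 2 + 2 = 2 * q + 2 by omega]; push_cast; exact hWv

theorem Sec.perp (S : Sec D M) (hM : Cfsg.IsPModular 2 M) :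
    (∑ χ ∈ bb M G, (D.ev χ : ℂ) * (S.a χ : ℂ) = 0 ∧
      ∑ χ ∈ bb M G, (D.dv χ : ℂ) * (S.a χ : ℂ) = 0) ∧
    (∑ χ ∈ bb M G, (D.ev χ : ℂ) * (S.w χ : ℂ) = 0 ∧
      ∑ χ ∈ bb M G, (D.dv χ : ℂ) * (S.w χ : ℂ) = 0) := by
  haveI := D.hp
  have one_reg : ¬ 2 ∣ orderOf (1 : Subgroup.centralizer ({D.z} : Set G)) := by simp
  have h1 := D.sum_ev_perp hM (g := D.z) fun l hl => by simpa using D.inSec_z one_reg hl
  have h2 := D.sum_ev_perp hM (g := D.z * (S.u : G)) fun l hl => D.inSec_z S.huo hl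
  have hp0 : (D.p : ℂ) ≠ 0 := Nat.cast_ne_zero.2 D.hp.out.ne_zero
  have key : ∀ v : Cfsg.IrrCharacter G → ℤ,
      ∑ χ ∈ bb M G, (v χ : ℂ) * (χ : G → ℂ) D.z = 0 →
      ∑ χ ∈ bb M G, (v χ : ℂ) * (χ : G → ℂ) (D.z * (S.u : G)) = 0 →
      ∑ χ ∈ bb M G, (v χ : ℂ) * (S.a χ : ℂ) = 0 ∧ ∑ χ ∈ bb M G, (v χ : ℂ) * (S.w χ : ℂ) = 0 := by
    intro v e1 e2
    rw [Finset.sum_congr rfl fun χ hχ => by rw [S.at_z χ hχ]] at e1
    rw [Finset.sum_congr rfl fun χ hχ => by rw [S.at_zu χ hχ]] at e2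
    have hw : ∑ χ ∈ bb M G, (v χ : ℂ) * (S.w χ : ℂ) = 0 := by
      refine mul_left_cancel₀ hp0 ?_
      rw [mul_zero]
      have e3 := congrArg₂ (· - ·) e1 e2
      simp only [sub_zero, ← Finset.sum_sub_distrib] at e3
      rw [Finset.mul_sum, ← e3]
      exact Finset.sum_congr rfl fun χ _ => by ring
    refine ⟨?_, hw⟩
    calc ∑ χ ∈ bb M G, (v χ : ℂ) * (S.a χ : ℂ) = ∑ χ ∈ bb M G, ((v χ : ℂ) *
          ((S.a χ : ℂ) + (XGroup.sgnP D.p : ℂ) * S.w χ) -
          (XGroup.sgnP D.p : ℂ) * ((v χ : ℂ) * (S.w χ : ℂ))) :=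
          Finset.sum_congr rfl fun χ _ => by ring
      _ = 0 := by rw [Finset.sum_sub_distrib, e2, ← Finset.mul_sum, hw]; ring
  exact ⟨⟨(key _ h1.1 h2.1).1, (key _ h1.2 h2.2).1⟩, ⟨(key _ h1.1 h2.1).2, (key _ h1.2 h2.2).2⟩⟩

theorem Sec.cong_deg (S : Sec D M) (hM : Cfsg.IsPModular 2 M) {χ : Cfsg.IrrCharacter G}
    (hχ : χ ∈ bb M G) :
    (S.a χ : ZMod 2) = ((Cfsg.charDegree (χ : G → ℂ) : ℤ) : ZMod 2) := by
  haveI := D.hp
  have h := char_cong_of_commute hM χ (x := D.z) (y := 1) (Commute.one_right _) (k := 1)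
    (by rw [pow_one]; exact (pow_two _).trans D.z_sq) (by simp)
  rw [mul_one, S.at_z χ hχ, ← charDegree_cast, Cong,
    show (S.a χ : ℂ) + ((XGroup.sgnP D.p : ℂ) + D.p) * S.w χ - (Cfsg.charDegree (χ : G → ℂ) : ℂ) =
      ((S.a χ + (XGroup.sgnP D.p + D.p) * S.w χ - Cfsg.charDegree (χ : G → ℂ) : ℤ) : ℂ) by push_cast; ring,
    ideal_intCast_iff hM, ← ZMod.intCast_zmod_eq_zero_iff_dvd] at h
  have he : (((XGroup.sgnP D.p : ℤ) + D.p : ℤ) : ZMod 2) = 0 := by
    rw [ZMod.intCast_zmod_eq_zero_iff_dvd]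
    have := (D.hp.out.eq_two_or_odd).resolve_left D.p_odd
    rcases XGroup.sgnP_eq D.p with e | e <;> rw [e] <;> push_cast <;> omega
  rw [Int.cast_sub, Int.cast_add, Int.cast_mul, he, zero_mul, add_zero, sub_eq_zero] at h
  exact h

theorem Sec.cong_u (S : Sec D M) (hM : Cfsg.IsPModular 2 M) {χ : Cfsg.IrrCharacter G}
    (hχ : χ ∈ bb M G) :
    Cong M ((χ : G → ℂ) (S.u : G)) ((S.a χ + XGroup.sgnP D.p * S.w χ : ℤ) : ℂ) := by
  have h := char_cong_of_commute hM χ (x := D.z) (y := (S.u : G))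
    (Subgroup.mem_centralizer_singleton_iff.1 S.u.2).symm (k := 1)
    (by rw [pow_one]; exact (pow_two _).trans D.z_sq) (by rw [Subgroup.orderOf_coe]; exact S.huo)
  rw [S.at_zu χ hχ] at h
  push_cast
  exact cong_symm hM h

end Data

end Cfsg.Agent.CycSD
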