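import Mathlib
import Cfsg.Agent.Lib.CycSD.ZValues
import Cfsg.Agent.Lib.Blocks.Semidihedral.Invariants
import Cfsg.Agent.BlockCharsA.PairPrincipal

/-!
# The layout of the principal block and the parities in the section of the involution
-/

set_option autoImplicit false
set_option linter.unusedSectionVars false
set_option linter.style.haveILetI false

open scoped Classical

namespace Cfsg.Agent.CycSD

open Cfsg.Agent.Blocks Cfsg.Agent.Characters Cfsg.Agent.Blocks.Quaternion
open Cfsg.Agent.Blocks.Semidihedral Cfsg.Agent.BlockCharsA Cfsg.Agent.BlockCharsA.BrauerPairs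
open Cfsg.Agent.Blocks.Star Cfsg.Agent.Blocks.CentralStep Cfsg.Agent.BlockCharsA.PairConj Cfsg.Agent.BlockCharsA.PairMax Cfsg.Agent.BlockCharsA.PairPrincipal

universe u

variable {G : Type u} [Group G] [Finite G] {D : Data G} [Fintype (Cfsg.IrrCharacter G)]
  {M : Ideal Cfsg.AlgInt}

/-- The indicator of `1`. -/
def ind (x : ZMod 2) : ℕ := if x = 1 then 1 else 0

theorem zmod_two_cases : ∀ x : ZMod 2, x = 0 ∨ x = 1 := by decide

theorem four_odd {x y k : ZMod 2} {m : ℕ} (hm : 3 ≤ m)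
    (h : ind x + ind y + ind (y + k) + ind (x + k) + (m * ind (x + y) + ind k) = 4) :
    x = 1 ∧ y = 1 ∧ k = 0 := by
  rcases zmod_two_cases x with rfl | rfl <;> rcases zmod_two_cases y with rfl | rfl <;>
    rcases zmod_two_cases k with rfl | rfl <;> simp +decide [ind] at h ⊢ <;> omega

theorem cast_of_sign {σ : ℤ} (h : σ = 1 ∨ σ = -1) : (σ : ZMod 2) = 1 := by
  rcases h with e | e <;> rw [e] <;> decide

namespace Data

/-- The positions of the principal block, and the linearity of congruences at regular elements. -/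
theorem exists_layout (hM : Cfsg.IsPModular 2 M) :
    ∃ (m g : ℕ), 3 ≤ m ∧ Odd m ∧ m + 1 = D.N / 2 ∧ g ≤ 1 ∧
      ∃ ρ : Pos m 0 g ≃ {χ : Cfsg.IrrCharacter G // χ ∈ bb M G},
        ∀ (v : Cfsg.IrrCharacter G → ℤ) (s : G), ¬ 2 ∣ orderOf s →
          (∀ χ ∈ bb M G, Cong M ((χ : G → ℂ) s) (v χ : ℂ)) → ∀ p,
            (v (ρ p).1 : ZMod 2) = (cA p : ZMod 2) * (v (ρ .a).1) + (cB p : ZMod 2) * (v (ρ .b).1) +
              (cK p : ZMod 2) * ∑ i : Fin g, (v (ρ (.k i)).1 : ZMod 2) := by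
  haveI := fact_prime_of_pm hM
  haveI := Fintype.ofFinite G
  set B := Cfsg.principalBlock M G with hB
  haveI := Fintype.ofFinite B
  obtain ⟨q, hqe, hq2, hNq⟩ := D.sd.exists_quarter
  set z : (D.S : Subgroup G) := D.rS ^ (D.N / 2) with hz
  have hmax := isMaximal_prin hM D.S
  haveI := Fintype.ofFinite (gAt 2 M (prin M (D.S : Subgroup G)) (z : G))
  obtain ⟨a, S, g, hg, c₀, hc₀⟩ := exists_setting hM hmax D.sd hz
  obtain ⟨c, hc⟩ := S.transfer hc₀
  set δ : B → ℝ := fun χ => (Cfsg.charDegree ((χ : Cfsg.IrrCharacter G) : G → ℂ) : ℝ)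
  set m := (D.N / 4 - 1) + ((D.N / 4 - 1) + 1) with hm
  have hmodd : Odd m := ⟨D.N / 4 - 1, by omega⟩
  obtain ⟨ρ, σ, hσ, hρ⟩ := Semidihedral.lattice hmodd hg hc.gram (δ := δ)
    (fun χ => Nat.cast_ne_zero.2 (charDegree_pos _).ne') (fun i => by
      apply Complex.ofReal_injective
      have e0 := (hc.good i).1 1 (by simp)
      simp only [← charDegree_cast] at e0
      simp only [δ, Complex.ofReal_sum, Complex.ofReal_mul, Complex.ofReal_intCast,
        Complex.ofReal_natCast, Complex.ofReal_zero]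
      exact e0)
    (S.exists_col_ne hc)
  refine ⟨m, g, by omega, hmodd, by omega, hg,
    ρ.trans (Equiv.subtypeEquivRight fun χ => (mem_bb (M := M)).symm), fun v s hs hv p => ?_⟩
  set y : Pos m 0 g → ℂ := fun p => (σ p : ℂ) * ((ρ p : Cfsg.IrrCharacter G) : G → ℂ) s with hy
  have hrel : ∀ i, ∑ p, (col (emb i) p : ℂ) * y p = 0 := by
    intro i
    refine Eq.trans ?_ ((hc.good i).1 s hs)
    rw [← ρ.sum_comp]
    exact Finset.sum_congr rfl fun p _ => by simp only [hρ, Int.cast_mul, hy]; ring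
  have hV := fun i => hrel (Sum.inl i)
  have hC := hrel (Sum.inr (Sum.inl ()))
  have hH := hrel (Sum.inr (Sum.inr ()))
  simp [emb, Pos.sum_eq, col, Finset.sum_ite_eq'] at hV hC hH
  have hy' : y p = (cA p : ℂ) * y .a + (cB p : ℂ) * y .b + (cK p : ℂ) * ∑ i : Fin g, y (.k i) := by
    rcases (show g = 0 ∨ g = 1 by omega) with rfl | rfl <;> simp at hH ⊢ <;> cases p with
    | a => simp [cA, cB, cK]
    | b => simp [cA, cB, cK]
    | u => simp [cA, cB, cK]; linear_combination hH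
    | v => simp [cA, cB, cK]; linear_combination hC - hH
    | x i => simp [cA, cB, cK]; linear_combination hV i
    | g i => exact i.elim0
    | k i => first
      | exact i.elim0
      | (simp [cA, cB, cK]; rw [Subsingleton.elim i 0])
  set w : Pos m 0 g → ℤ := fun p => σ p * v (ρ p : Cfsg.IrrCharacter G) with hw
  have hyw : ∀ p, Cong M (y p) (w p : ℂ) := fun p => by
    rw [hy, hw]
    push_cast
    exact cong_mul_left hM (ring_intCast hM _) (hv _ (mem_bb.2 (ρ p).2))
  have h1 : Cong M (w p : ℂ) ((cA p * w .a + cB p * w .b + cK p * ∑ i : Fin g, w (.k i) : ℤ) : ℂ) := by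
    refine cong_trans hM (cong_symm hM (hyw p)) ?_
    rw [hy']
    push_cast
    exact cong_add hM (cong_add hM (cong_mul_left hM (ring_intCast hM _) (hyw _))
      (cong_mul_left hM (ring_intCast hM _) (hyw _)))
      (cong_mul_left hM (ring_intCast hM _) (cong_sum hM fun i _ => hyw _))
  rw [Cong, ← Int.cast_sub, ideal_intCast_iff hM, ← ZMod.intCast_zmod_eq_zero_iff_dvd,
    Int.cast_sub, sub_eq_zero] at h1
  simp only [hw, Int.cast_add, Int.cast_mul, Int.cast_sum, cast_of_sign (hσ _), one_mul] at h1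
  exact h1

theorem Quad.card_odd (Q : Quad D M) (hM : Cfsg.IsPModular 2 M) :
    ((bb M G).filter fun χ => D.ev χ % 2 = 1).card = 4 := by
  obtain ⟨h1, h2, h3, -⟩ := Q.mem
  have he : (bb M G).filter (fun χ => D.ev χ % 2 = 1) = {trivIrr G, Q.c₁, Q.c₂, Q.c₃} := by
    ext χ
    simp only [Finset.mem_filter, Finset.mem_insert, Finset.mem_singleton]
    refine ⟨fun h => (Q.ev_odd (D := D) h.1).1 h.2, fun h => ?_⟩
    have hm : χ ∈ bb M G := by
      rcases h with rfl | rfl | rfl | rfl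
      exacts [mem_principal_triv hM, h1, h2, h3]
    exact ⟨hm, (Q.ev_odd (D := D) hm).2 h⟩
  rw [he, Finset.card_insert_of_notMem (by simp [Q.ne₁.symm, Q.ne₂.1.symm, Q.ne₃.1.symm]),
    Finset.card_insert_of_notMem (by simp [Q.ne₂.2.symm, Q.ne₃.2.1.symm]),
    Finset.card_pair Q.ne₃.2.2.symm]

theorem z_value_ne (hM : Cfsg.IsPModular 2 M) {χ : Cfsg.IrrCharacter G} (hχ : χ ∈ bb M G) :
    (χ : G → ℂ) D.z ≠ 0 := value_ne_zero_of_odd_class hM D.index_C_odd (mem_bb.1 hχ)

theorem Sec.zero_of (S : Sec D M) (hM : Cfsg.IsPModular 2 M) {χ : Cfsg.IrrCharacter G}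
    (hχ : χ ∈ bb M G) (ha : S.a χ = 0) : S.w χ ≠ 0 := fun hw =>
  D.z_value_ne hM hχ (by rw [S.at_z χ hχ, ha, hw]; simp)

theorem Sec.a_odd (S : Sec D M) (hM : Cfsg.IsPModular 2 M) {χ : Cfsg.IrrCharacter G}
    (hχ : χ ∈ bb M G) : (S.a χ : ZMod 2) = (D.ev χ : ZMod 2) := by
  rw [S.cong_deg hM hχ, D.ev_cong]

theorem sign_mod_two (n : ℤ) : n % 2 = 1 ↔ (n : ZMod 2) = 1 := by
  rw [show (1 : ZMod 2) = ((1 : ℤ) : ZMod 2) from Int.cast_one.symm, ZMod.intCast_eq_intCast_iff']
  rfl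

theorem sq_cast_two (x : ℤ) : ((x * x : ℤ) : ZMod 2) = (x : ZMod 2) := by
  push_cast
  generalize (x : ZMod 2) = e
  revert e; decide

/-- All entries of the second function are at most one in size, and odd outside the four. -/
theorem Sec.small (S : Sec D M) (Q : Quad D M) (hM : Cfsg.IsPModular 2 M) :
    ∀ χ ∈ bb M G, (S.w χ = 0 ∨ S.w χ = 1 ∨ S.w χ = -1) ∧ (D.ev χ % 2 = 0 → S.w χ ≠ 0) := by
  haveI := D.hp
  obtain ⟨m, g, hm3, hmodd, hmN, hg, ρ, hlin⟩ := exists_layout (D := D) hM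
  -- the three functions modulo two
  have hdeg : ∀ χ ∈ bb M G, Cong M ((χ : G → ℂ) 1) ((Cfsg.charDegree (χ : G → ℂ) : ℤ) : ℂ) :=
    fun χ _ => cong_of_eq hM (by rw [← charDegree_cast]; norm_cast)
  have hs : ((XGroup.sgnP D.p : ℤ) : ZMod 2) = 1 := cast_of_sign (XGroup.sgnP_eq _)
  have lf := hlin (fun χ => (Cfsg.charDegree (χ : G → ℂ) : ℤ)) 1 (by simp) hdeg
  have lu := hlin (fun χ => S.a χ + XGroup.sgnP D.p * S.w χ) (S.u : G)
    (by rw [Subgroup.orderOf_coe]; exact S.huo) fun χ hχ => S.cong_u hM hχ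
  set F : Pos m 0 g → ZMod 2 := fun p => (D.ev (ρ p).1 : ZMod 2) with hF
  set W : Pos m 0 g → ZMod 2 := fun p => (S.w (ρ p).1 : ZMod 2) with hW
  have lF : ∀ p, F p = (cA p : ZMod 2) * F .a + (cB p : ZMod 2) * F .b +
      (cK p : ZMod 2) * ∑ i : Fin g, F (.k i) := fun p => by
    have := lf p
    simp only [Int.cast_natCast] at this
    simp only [hF, ← D.ev_cong, Int.cast_natCast]
    exact this
  have lW : ∀ p, W p = (cA p : ZMod 2) * W .a + (cB p : ZMod 2) * W .b +
      (cK p : ZMod 2) * ∑ i : Fin g, W (.k i) := fun p => by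
    have h1 := lu p
    have h2 := lF p
    simp only [hF] at h2
    simp only [Int.cast_add, Int.cast_mul, hs, one_mul,
      fun q => S.a_odd hM (ρ q).2, Finset.sum_add_distrib] at h1
    simp only [hW]
    linear_combination h1 - h2
  -- the degrees
  have hcard : ∑ p, (if F p = 1 then 1 else 0 : ℕ) = 4 := by
    rw [← Q.card_odd hM, Finset.card_filter, ← Finset.sum_coe_sort (bb M G)]
    exact Fintype.sum_equiv ρ _ _ fun p => by simp only [hF, sign_mod_two]
  rw [Pos.sum_eq] at hcard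
  have hFx : ∀ i, F (.x i) = F .a + F .b := fun i => by
    rw [lF]; simp [cA, cB, cK, CharTwo.neg_eq]
  obtain ⟨hFa, hFb, hFk⟩ : F .a = 1 ∧ F .b = 1 ∧ ∀ i, F (.k i) = 0 := by
    have hu := lF .u
    have hv := lF .v
    simp [cA, cB, cK, CharTwo.neg_eq] at hu hv
    simp only [hFx] at hcard
    rw [hu, hv] at hcard
    rcases (show g = 0 ∨ g = 1 by omega) with rfl | rfl
    · obtain ⟨h1, h2, -⟩ := four_odd (k := 0) hm3 (by simpa [ind] using hcard)
      exact ⟨h1, h2, fun i => i.elim0⟩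
    · obtain ⟨h1, h2, h3⟩ := four_odd (x := F .a) (y := F .b) (k := F (.k 0)) hm3 (by
        simp only [Fin.sum_univ_one] at hcard; simpa [ind] using hcard)
      exact ⟨h1, h2, fun i => Subsingleton.elim i 0 ▸ h3⟩
  have hax : ∀ i, F (.x i) = 0 := fun i => by rw [hFx, hFa, hFb]; decide
  -- the second function at the positions of height one
  obtain ⟨hA8, -, hW2⟩ := S.gram hM
  rw [← Finset.sum_coe_sort (bb M G), ← ρ.sum_comp, Pos.sum_eq] at hA8 hW2
  have hWx : ∀ i, W (.x i) = W .a + W .b := fun i => by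
    rw [lW]; simp [cA, cB, cK, CharTwo.neg_eq]
  have hsq : ∀ {p}, F p = 1 → 1 ≤ S.a (ρ p).1 * S.a (ρ p).1 := fun {p} hp => by
    have : (S.a (ρ p).1 : ZMod 2) = 1 := (S.a_odd hM (ρ p).2).trans hp
    have hne : S.a (ρ p).1 ≠ 0 := fun h => by rw [h] at this; simp at this
    exact Int.add_one_le_iff.2 (mul_self_pos.2 hne)
  have hFu : F .u = 1 := by rw [lF]; simp [cA, cB, cK, hFa, hFb, hFk, CharTwo.neg_eq]
  have hFv : F .v = 1 := by rw [lF]; simp [cA, cB, cK, hFa, hFb, hFk, CharTwo.neg_eq]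
  have hab : W .a + W .b = 1 := by
    by_contra hne
    have hab0 : W .a + W .b = 0 := by
      generalize W .a + W .b = e at hne ⊢; revert e; decide
    have hWeven : ∀ i, S.a (ρ (.x i)).1 = 0 →
        4 ≤ S.w (ρ (.x i)).1 * S.w (ρ (.x i)).1 := fun i ha => by
      have h0 : ((S.w (ρ (.x i)).1 : ℤ) : ZMod 2) = 0 := (hWx i).trans hab0
      rw [ZMod.intCast_zmod_eq_zero_iff_dvd] at h0
      obtain ⟨k, hk⟩ := h0
      have hk0 : k ≠ 0 := fun h => S.zero_of hM (ρ (.x i)).2 ha (by rw [hk, h]; simp)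
      have := Int.add_one_le_iff.2 (mul_self_pos.2 hk0)
      rw [hk]; push_cast; linarith
    have heven : ∀ i, S.a (ρ (.x i)).1 ≠ 0 → 4 ≤ S.a (ρ (.x i)).1 * S.a (ρ (.x i)).1 := fun i hne => by
      have h0 : ((S.a (ρ (.x i)).1 : ℤ) : ZMod 2) = 0 := (S.a_odd hM (ρ _).2).trans (hax i)
      rw [ZMod.intCast_zmod_eq_zero_iff_dvd] at h0
      obtain ⟨k, hk⟩ := h0
      have hk0 : k ≠ 0 := fun h => hne (by rw [hk, h]; simp)
      have := Int.add_one_le_iff.2 (mul_self_pos.2 hk0)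
      rw [hk]; push_cast; linarith
    have h4 : (4 : ℤ) * m ≤ ∑ i, S.a (ρ (.x i)).1 * S.a (ρ (.x i)).1 +
        ∑ i, S.w (ρ (.x i)).1 * S.w (ρ (.x i)).1 := by
      rw [← Finset.sum_add_distrib,
        show (4 : ℤ) * m = ∑ _i : Fin m, (4 : ℤ) by simp [mul_comm]]
      refine Finset.sum_le_sum fun i _ => ?_
      by_cases ha : S.a (ρ (.x i)).1 = 0
      · have := hWeven i ha; rw [ha]; linarith
      · have := heven i ha; linarith [mul_self_nonneg (S.w (ρ (.x i)).1)]
    have := hsq hFa; have := hsq hFb; have := hsq hFu; have := hsq hFv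
    have nn : ∀ f : Fin g → ℤ, 0 ≤ ∑ i, f i * f i := fun f =>
      Finset.sum_nonneg fun i _ => mul_self_nonneg _
    have := nn fun i => S.a (ρ (.k i)).1
    have := nn fun i => S.w (ρ (.k i)).1
    have hNc : ((D.N / 2 + 2 : ℕ) : ℤ) = m + 3 := by omega
    simp only [Fin.sum_univ_zero] at hA8 hW2
    linarith [mul_self_nonneg (S.w (ρ .a).1), mul_self_nonneg (S.w (ρ .b).1),
      mul_self_nonneg (S.w (ρ .u).1), mul_self_nonneg (S.w (ρ .v).1)]
  have hWu : W .u = W .b + ∑ i, W (.k i) := by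
    rw [lW]; simp [cA, cB, cK, CharTwo.neg_eq]
    rcases (show g = 0 ∨ g = 1 by omega) with rfl | rfl <;> simp
  have hWv : W .v = W .a + ∑ i, W (.k i) := by
    rw [lW]; simp [cA, cB, cK, CharTwo.neg_eq]
    rcases (show g = 0 ∨ g = 1 by omega) with rfl | rfl <;> simp
  -- the parity of the sum of the squares forces the extra position
  have hg1 : g = 1 ∧ ∀ i, W (.k i) = 1 := by
    have h := congrArg (Int.cast : ℤ → ZMod 2) hW2
    simp only [Fin.sum_univ_zero, Int.cast_add, Int.cast_sum, sq_cast_two, Int.cast_zero] at h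
    have hNc : ((((D.N / 2 + 2 : ℕ) : ℤ)) : ZMod 2) = 0 := by
      rw [ZMod.intCast_zmod_eq_zero_iff_dvd]
      obtain ⟨q, hq⟩ := D.four_dvd
      omega
    rw [hNc] at h
    simp only [hW] at hWx hWu hWv hab
    rw [Finset.sum_congr rfl fun i _ => (hWx i).trans hab, Finset.sum_const, Finset.card_univ,
      Fintype.card_fin, hWu, hWv, nsmul_one,
      show (m : ZMod 2) = 1 from ZMod.natCast_eq_one_iff_odd.2 hmodd] at h
    rcases (show g = 0 ∨ g = 1 by omega) with rfl | rfl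
    · exfalso
      simp at h
      revert hab h
      generalize (S.w (ρ .a).1 : ZMod 2) = x, (S.w (ρ .b).1 : ZMod 2) = y
      revert x y; decide
    · refine ⟨rfl, fun i => ?_⟩
      rw [Subsingleton.elim i 0]
      simp only [hW]
      simp at h
      revert hab h
      generalize (S.w (ρ .a).1 : ZMod 2) = x, (S.w (ρ .b).1 : ZMod 2) = y,
        (S.w (ρ (.k 0)).1 : ZMod 2) = k
      revert x y k; decide
  obtain ⟨rfl, hWk⟩ := hg1
  -- each term is at least its parity
  have hge : ∀ p, (if W p = 1 then (1 : ℤ) else 0) ≤ S.w (ρ p).1 * S.w (ρ p).1 := fun p => by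
    split_ifs with h
    · have hne : S.w (ρ p).1 ≠ 0 := fun e => by simp [hW, e] at h
      exact Int.add_one_le_iff.2 (mul_self_pos.2 hne)
    · exact mul_self_nonneg _
  have hsum : ∑ p, (if W p = 1 then (1 : ℤ) else 0) = ((D.N / 2 + 2 : ℕ) : ℤ) := by
    rw [Pos.sum_eq]
    simp only [hWx, hab, hWk, hWu, hWv, Fin.sum_univ_one, Fin.sum_univ_zero, if_true,
      Finset.sum_const, Finset.card_univ, Fintype.card_fin, nsmul_one]
    have hNc : ((D.N / 2 + 2 : ℕ) : ℤ) = m + 3 := by omega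
    rw [hNc]
    rcases zmod_two_cases (W .a) with e1 | e1 <;> rcases zmod_two_cases (W .b) with e2 | e2 <;>
      simp +decide [e1, e2] at hab ⊢ <;> ring
  have htot : ∑ p, S.w (ρ p).1 * S.w (ρ p).1 = ((D.N / 2 + 2 : ℕ) : ℤ) := by
    rw [Pos.sum_eq]; exact hW2
  have heq := (Finset.sum_eq_sum_iff_of_le fun p _ => hge p).1 (hsum.trans htot.symm)
  intro χ hχ
  obtain ⟨p, hp⟩ := ρ.surjective ⟨χ, hχ⟩
  have hp' : (ρ p).1 = χ := congrArg Subtype.val hp
  have he := heq p (Finset.mem_univ p)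
  rw [hp'] at he
  refine ⟨?_, fun hev h0 => ?_⟩
  · split_ifs at he
    · exact Or.inr (mul_self_eq_one_iff.1 he.symm)
    · exact Or.inl (mul_self_eq_zero.1 he.symm)
  · rw [h0, mul_zero] at he
    have hF0 : F p = 0 := by
      simp only [hF, hp']
      rw [ZMod.intCast_zmod_eq_zero_iff_dvd]
      push_cast; omega
    have hW1 : W p = 1 := by
      cases p with
      | a => exact absurd (hF0.symm.trans hFa) zero_ne_one
      | b => exact absurd (hF0.symm.trans hFb) zero_ne_one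
      | u => exact absurd (hF0.symm.trans hFu) zero_ne_one
      | v => exact absurd (hF0.symm.trans hFv) zero_ne_one
      | x i => exact (hWx i).trans hab
      | g i => exact i.elim0
      | k i => exact hWk i
    rw [if_pos hW1] at he
    exact one_ne_zero he

end Data

end Cfsg.Agent.CycSD
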