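import Mathlib
import Cfsg.Agent.Lib.CycSD.Layout
import Cfsg.Agent.Lib.CycSD.Arith
import Cfsg.Agent.Lib.Characters.Kernel
import Cfsg.Agent.Lib.Characters.Integrality

/-!
# The four degrees of odd parity
-/

set_option autoImplicit false
set_option linter.unusedSectionVars false
set_option linter.style.haveILetI false

open scoped Classical

namespace Cfsg.Agent.CycSD

open Cfsg.Agent.Blocks Cfsg.Agent.Characters

universe u

variable {G : Type u} [Group G] [Finite G] {D : Data G} [Fintype (Cfsg.IrrCharacter G)]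
  {M : Ideal Cfsg.AlgInt}

theorem sq_div_signed {e : ℤ} (he : e = 1 ∨ e = -1) (Z f : ℂ) :
    (e : ℂ) * Z ^ 2 / f = ((e : ℂ) * Z) ^ 2 / ((e : ℂ) * f) := by
  rcases he with rfl | rfl <;> push_cast <;> ring

theorem abs_le_of_even {a w : ℤ} (ha : a % 2 = 0) (hw : w = 0 ∨ w = 1 ∨ w = -1) :
    2 * (a * w) ≤ a * a ∧ -(a * a) ≤ 2 * (a * w) := by
  obtain ⟨k, rfl⟩ : ∃ k, a = 2 * k := ⟨a / 2, by omega⟩
  have h1 : 0 ≤ k * (k - 1) := by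
    rcases le_or_gt k 0 with h | h
    · exact mul_nonneg_of_nonpos_of_nonpos h (by omega)
    · exact mul_nonneg h.le (by omega)
  have h2 : 0 ≤ k * (k + 1) := by
    rcases lt_or_ge k 0 with h | h
    · exact mul_nonneg_of_nonpos_of_nonpos h.le (by omega)
    · exact mul_nonneg h (by omega)
  rcases hw with rfl | rfl | rfl <;> constructor <;> nlinarith

theorem one_of_simple [IsSimpleGroup G] (hns : ¬ ∀ a b : G, a * b = b * a)
    {χ : Cfsg.IrrCharacter G} (h1 : (χ : G → ℂ) 1 = 1) : χ = trivIrr G := by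
  set f := linearOfDegreeOne (irr_isCharacter χ) h1 with hf
  rcases Subgroup.Normal.eq_bot_or_eq_top (H := f.ker) inferInstance with h | h
  · exact absurd (fun a b => (MonoidHom.ker_eq_bot_iff f).1 h (by rw [map_mul, map_mul, mul_comm])) hns
  · refine Subtype.ext (funext fun g => ?_)
    rw [← linearOfDegreeOne_apply (irr_isCharacter χ) h1 g, ← hf,
      MonoidHom.mem_ker.1 (h ▸ Subgroup.mem_top g : g ∈ f.ker)]
    simp

theorem solve_signs {s W1 W2 A2 W4 R : ℤ} (hs : s = 1 ∨ s = -1) (hA : A2 = 1 ∨ A2 = -1)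
    (h1 : W1 + W2 = 0) (h4 : W1 + W4 = 0) (h4' : W4 = 1 ∨ W4 = -1)
    (hR : 2 * R ≤ 4 ∧ -4 ≤ 2 * R) (h : -W1 + A2 * W2 + R = -4 * s) :
    W1 = s ∧ A2 = 1 ∧ W2 = -s := by
  rcases hs with rfl | rfl <;> rcases hA with rfl | rfl <;> omega

namespace Data

/-- A quad with the last two members interchanged. -/
def Quad.swap (Q : Quad D M) : Quad D M where
  c₁ := Q.c₁
  c₂ := Q.c₃
  c₃ := Q.c₂
  Y := Q.Y
  mem := ⟨Q.mem.1, Q.mem.2.2.1, Q.mem.2.1, Q.mem.2.2.2⟩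
  ne₁ := Q.ne₁
  ne₂ := ⟨Q.ne₃.1, Q.ne₃.2.1⟩
  ne₃ := ⟨Q.ne₂.1, Q.ne₂.2, Q.ne₃.2.2.symm⟩
  neY := ⟨Q.neY.1, Q.neY.2.1, Q.neY.2.2.2, Q.neY.2.2.1⟩
  unit := ⟨Q.unit.1, Q.unit.2.2.1, Q.unit.2.1, Q.unit.2.2.2⟩
  dv₁ := Q.dv₁
  evY := Q.evY
  supp := fun χ h1 h2 h3 => ⟨(Q.supp χ h1 h2 h3).1, fun a b => (Q.supp χ h1 h2 h3).2 b a⟩

/-- The first function is orthogonal to the degrees. -/
theorem Sec.perp_deg (S : Sec D M) (hM : Cfsg.IsPModular 2 M) :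
    ∑ χ ∈ bb M G, S.a χ * (Cfsg.charDegree (χ : G → ℂ) : ℤ) = 0 := by
  haveI := D.hp
  haveI := Fintype.ofFinite G
  have hp0 : (D.p : ℂ) ≠ 0 := Nat.cast_ne_zero.2 D.hp.out.ne_zero
  set f : Cfsg.IrrCharacter G → ℤ := fun χ => (Cfsg.charDegree (χ : G → ℂ) : ℤ) with hfdef
  have hfC : ∀ χ, (f χ : ℂ) = (χ : G → ℂ) 1 := fun χ => by
    rw [← charDegree_cast]; simp [hfdef]
  show ∑ χ ∈ bb M G, S.a χ * f χ = 0
  apply Int.cast_injective (α := ℂ)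
  push_cast
  have key : ∀ c : Subgroup.centralizer ({D.z} : Set G), ¬ 2 ∣ orderOf c →
      ∑ χ ∈ bb M G, (χ : G → ℂ) (D.z * (c : G)) * (f χ : ℂ) = 0 := fun c hc => by
    have hsing : 2 ∣ orderOf (D.z * (c : G)) := by
      rw [ZStar.Sections.orderOf_mul_regular D.orderOf_z
        (Subgroup.mem_centralizer_singleton_iff.1 c.2).symm (by rwa [Subgroup.orderOf_coe])]
      exact dvd_mul_right 2 _
    have h := sum_block_reg_sing hM (intEl_blockIdem hM (isPBlock_principal M G))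
      (x := (1 : G)) (by simp) hsing
    rw [ZStar.Principal.finsum_mem_eq_sum_filter] at h
    have h' := congrArg (starRingEnd ℂ) h
    rw [map_sum, map_zero] at h'
    rw [← h']
    refine Finset.sum_congr rfl fun χ _ => ?_
    rw [map_mul, Complex.conj_conj, ← hfC, map_intCast]; ring
  have k1 := key 1 (by simp)
  have ku := key S.u S.huo
  simp only [OneMemClass.coe_one, mul_one] at k1
  rw [Finset.sum_congr rfl fun χ hχ => by rw [S.at_z χ hχ]] at k1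
  rw [Finset.sum_congr rfl fun χ hχ => by rw [S.at_zu χ hχ]] at ku
  refine mul_left_cancel₀ hp0 ?_
  rw [mul_zero, Finset.mul_sum]
  have e3 : ∑ χ ∈ bb M G, (((XGroup.sgnP D.p : ℂ) + D.p) *
      (((S.a χ : ℂ) + (XGroup.sgnP D.p : ℂ) * S.w χ) * (f χ : ℂ)) - (XGroup.sgnP D.p : ℂ) *
      (((S.a χ : ℂ) + ((XGroup.sgnP D.p : ℂ) + D.p) * S.w χ) * (f χ : ℂ))) = 0 := by
    rw [Finset.sum_sub_distrib, ← Finset.mul_sum, ← Finset.mul_sum, k1, ku]; ring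
  rw [← e3]
  exact Finset.sum_congr rfl fun χ _ => by ring


/-- The signed values at the involution of the four members and of the fifth. -/
theorem exists_signed (hM : Cfsg.IsPModular 2 M) :
    ∃ Q : Quad D M,
      (D.ev Q.c₁ : ℂ) * (Q.c₁ : G → ℂ) D.z = ((XGroup.sgnP D.p * D.p : ℤ) : ℂ) ∧
      (D.ev Q.c₂ : ℂ) * (Q.c₂ : G → ℂ) D.z = -((XGroup.sgnP D.p * D.p : ℤ) : ℂ) ∧
      (D.ev Q.c₃ : ℂ) * (Q.c₃ : G → ℂ) D.z = -1 ∧
      (D.dv Q.Y : ℂ) * (Q.Y : G → ℂ) D.z = -(1 + ((XGroup.sgnP D.p * D.p : ℤ) : ℂ)) ∧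
      (1 + D.ev Q.c₁ * (Cfsg.charDegree (Q.c₁ : G → ℂ) : ℤ) +
          D.ev Q.c₂ * (Cfsg.charDegree (Q.c₂ : G → ℂ) : ℤ) +
          D.ev Q.c₃ * (Cfsg.charDegree (Q.c₃ : G → ℂ) : ℤ) = 0) ∧
      1 + D.ev Q.c₁ * (Cfsg.charDegree (Q.c₁ : G → ℂ) : ℤ) +
          D.dv Q.Y * (Cfsg.charDegree (Q.Y : G → ℂ) : ℤ) = 0 := by
  haveI := D.hp
  obtain ⟨Q₀⟩ := D.exists_quad hM
  obtain ⟨S⟩ := D.exists_sec hM
  set o := trivIrr G with hodef
  have ho : o ∈ bb M G := mem_principal_triv hM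
  have hp0 : (D.p : ℂ) ≠ 0 := Nat.cast_ne_zero.2 D.hp.out.ne_zero
  obtain ⟨hao, hwo⟩ : S.a o = 1 ∧ S.w o = 0 := by
    have h1 : (1 : ℂ) = S.a o + ((XGroup.sgnP D.p : ℂ) + D.p) * S.w o := S.at_z o ho
    have h2 : (1 : ℂ) = S.a o + (XGroup.sgnP D.p : ℂ) * S.w o := S.at_zu o ho
    have hw : (S.w o : ℂ) = 0 := mul_left_cancel₀ hp0 (by linear_combination h2 - h1)
    rw [hw, mul_zero, add_zero] at h2
    exact ⟨by exact_mod_cast h2.symm, by exact_mod_cast hw⟩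
  obtain ⟨hwsmall, hwodd⟩ : (∀ χ ∈ bb M G, S.w χ = 0 ∨ S.w χ = 1 ∨ S.w χ = -1) ∧
      (∀ χ ∈ bb M G, D.ev χ % 2 = 0 → S.w χ ≠ 0) :=
    ⟨fun χ hχ => (S.small Q₀ hM χ hχ).1, fun χ hχ => (S.small Q₀ hM χ hχ).2⟩
  have intrel : ∀ (Q : Quad D M) (v : Cfsg.IrrCharacter G → ℤ),
      (∑ χ ∈ bb M G, (D.ev χ : ℂ) * (v χ : ℂ) = 0) → (∑ χ ∈ bb M G, (D.dv χ : ℂ) * (v χ : ℂ) = 0) →
      v o + D.ev Q.c₁ * v Q.c₁ + D.ev Q.c₂ * v Q.c₂ + D.ev Q.c₃ * v Q.c₃ = 0 ∧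
        v o + D.ev Q.c₁ * v Q.c₁ + D.dv Q.Y * v Q.Y = 0 := fun Q v he hd => by
    obtain ⟨h1, h2⟩ := Q.relations D hM he hd
    exact ⟨by exact_mod_cast h1, by exact_mod_cast h2⟩
  obtain ⟨Q, hW3⟩ : ∃ Q : Quad D M, S.w Q.c₃ = 0 := by
    obtain ⟨h1, h4⟩ := intrel Q₀ S.w (S.perp hM).2.1 (S.perp hM).2.2
    obtain ⟨u1, u2, u3, uY⟩ := Q₀.unit
    have := hwodd Q₀.Y Q₀.mem.2.2.2 (by rw [Q₀.evY]; rfl)
    have hY := hwsmall Q₀.Y Q₀.mem.2.2.2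
    rw [hwo] at h1 h4
    by_cases h3 : S.w Q₀.c₃ = 0
    · exact ⟨Q₀, h3⟩
    refine ⟨Q₀.swap, ?_⟩
    show S.w Q₀.c₂ = 0
    have hc1 := hwsmall Q₀.c₁ Q₀.mem.1
    have hc2 := hwsmall Q₀.c₂ Q₀.mem.2.1
    have hc3 := hwsmall Q₀.c₃ Q₀.mem.2.2.1
    rcases u1 with e1 | e1 <;> rcases u2 with e2 | e2 <;> rcases u3 with e3 | e3 <;>
      rcases uY with eY | eY <;> rw [e1, e2, e3] at h1 <;> rw [e1, eY] at h4 <;> omega
  obtain ⟨m1, m2, m3, mY⟩ := Q.mem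
  obtain ⟨u1, u2, u3, uY⟩ := Q.unit
  set f : Cfsg.IrrCharacter G → ℤ := fun χ => (Cfsg.charDegree (χ : G → ℂ) : ℤ) with hfdef
  have hfC : ∀ χ, (f χ : ℂ) = (χ : G → ℂ) 1 := fun χ => by
    rw [← charDegree_cast]; simp [hfdef]
  have hfpos : ∀ χ, 0 < f χ := fun χ => Int.natCast_pos.2 (charDegree_pos _)
  have hfo : f o = 1 := by
    apply Int.cast_injective (α := ℂ); rw [hfC]; simp [hodef]
  have hperp1 := D.sum_ev_perp hM (g := (1 : G)) fun l hl => D.inSec_regular (by simp) hl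
  simp only [← hfC] at hperp1
  obtain ⟨hf1, hf4⟩ := intrel Q f hperp1.1 hperp1.2
  obtain ⟨ha1, ha4⟩ := intrel Q S.a (S.perp hM).1.1 (S.perp hM).1.2
  obtain ⟨hw1, hw4⟩ := intrel Q S.w (S.perp hM).2.1 (S.perp hM).2.2
  rw [hfo] at hf1 hf4
  rw [hao] at ha1 ha4
  rw [hwo, hW3] at hw1
  rw [hwo] at hw4
  -- the first function on the four
  obtain ⟨hA8, hAW, -⟩ := S.gram hM
  have hodd : ∀ {χ}, χ ∈ bb M G → (χ = o ∨ χ = Q.c₁ ∨ χ = Q.c₂ ∨ χ = Q.c₃) → S.a χ % 2 = 1 := by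
    intro χ hχ h
    have h2 := S.a_odd hM hχ
    rw [sign_mod_two, h2, ← sign_mod_two]
    exact (Q.ev_odd (D := D) hχ).2 h
  have heven : ∀ χ ∈ bb M G, χ ≠ o → χ ≠ Q.c₁ → χ ≠ Q.c₂ → χ ≠ Q.c₃ → S.a χ % 2 = 0 := by
    intro χ hχ n0 n1 n2 n3
    have h2 := S.a_odd hM hχ
    rw [(Q.supp χ hχ n0 n1).2 n2 n3, Int.cast_zero, ZMod.intCast_zmod_eq_zero_iff_dvd] at h2
    omega
  set T : Finset (Cfsg.IrrCharacter G) := (bb M G) \ {o, Q.c₁, Q.c₂, Q.c₃} with hT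
  have hsub : ({o, Q.c₁, Q.c₂, Q.c₃} : Finset _) ⊆ bb M G := by
    simp [Finset.insert_subset_iff, ho, m1, m2, m3]
  have four : ∀ v : Cfsg.IrrCharacter G → ℤ,
      ∑ χ ∈ bb M G, v χ = v o + (v Q.c₁ + (v Q.c₂ + v Q.c₃)) + ∑ χ ∈ T, v χ := fun v => by
    rw [← Finset.sum_sdiff hsub, add_comm, hT]
    congr 1
    rw [Finset.sum_insert (by simp [hodef, Q.ne₁.symm, Q.ne₂.1.symm, Q.ne₃.1.symm]),
      Finset.sum_insert (by simp [Q.ne₂.2.symm, Q.ne₃.2.1.symm]), Finset.sum_pair Q.ne₃.2.2.symm]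
  have hTmem : ∀ χ ∈ T, χ ∈ bb M G ∧ S.a χ % 2 = 0 := fun χ hχ => by
    simp only [hT, Finset.mem_sdiff, Finset.mem_insert, Finset.mem_singleton, not_or] at hχ
    exact ⟨hχ.1, heven χ hχ.1 hχ.2.1 hχ.2.2.1 hχ.2.2.2.1 hχ.2.2.2.2⟩
  have hYT : Q.Y ∈ T := by
    simp [hT, mY, Q.neY.1, Q.neY.2.1, Q.neY.2.2.1, Q.neY.2.2.2, hodef]
  rw [four, hao] at hA8
  have hTsum : 0 ≤ ∑ χ ∈ T, S.a χ * S.a χ := Finset.sum_nonneg fun _ _ => mul_self_nonneg _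
  have hsq1 : ∀ {x : ℤ}, x % 2 = 1 → x * x ≤ 5 → x = 1 ∨ x = -1 := fun {x} hx h5 => by
    have : -3 < x ∧ x < 3 := ⟨by nlinarith, by nlinarith⟩
    omega
  have o1 := hodd m1 (Or.inr (Or.inl rfl))
  have o2 := hodd m2 (Or.inr (Or.inr (Or.inl rfl)))
  have o3 := hodd m3 (Or.inr (Or.inr (Or.inr rfl)))
  have n1 := mul_self_nonneg (S.a Q.c₁); have n2 := mul_self_nonneg (S.a Q.c₂)
  have n3 := mul_self_nonneg (S.a Q.c₃)
  have p1 : 1 ≤ S.a Q.c₁ * S.a Q.c₁ := Int.add_one_le_iff.2 (mul_self_pos.2 (by omega))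
  have p2 : 1 ≤ S.a Q.c₂ * S.a Q.c₂ := Int.add_one_le_iff.2 (mul_self_pos.2 (by omega))
  have p3 : 1 ≤ S.a Q.c₃ * S.a Q.c₃ := Int.add_one_le_iff.2 (mul_self_pos.2 (by omega))
  have a1 := hsq1 o1 (by linarith); have a2 := hsq1 o2 (by linarith); have a3 := hsq1 o3 (by linarith)
  have hT4 : ∑ χ ∈ T, S.a χ * S.a χ = 4 := by
    rcases a1 with e1 | e1 <;> rcases a2 with e2 | e2 <;> rcases a3 with e3 | e3 <;>
      rw [e1, e2, e3] at hA8 <;> linarith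
  -- the first member
  have hA1 : D.ev Q.c₁ * S.a Q.c₁ = -1 := by
    by_contra hne
    have h1 : D.ev Q.c₁ * S.a Q.c₁ = 1 := by
      rcases u1 with e | e <;> rcases a1 with e' | e' <;> rw [e, e'] at hne ⊢ <;> omega
    have hY2 : D.dv Q.Y * S.a Q.Y = -2 := by linarith
    have hYsq : S.a Q.Y * S.a Q.Y = 4 := by
      have := congrArg (fun x => x * x) hY2
      rcases uY with e | e <;> simp [e] at this <;> linarith
    have hrest : ∀ χ ∈ T.erase Q.Y, S.a χ = 0 := by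
      intro χ hχ
      have h := Finset.add_sum_erase T (fun χ => S.a χ * S.a χ) hYT
      rw [hT4, hYsq] at h
      exact mul_self_eq_zero.1 ((Finset.sum_eq_zero_iff_of_nonneg fun _ _ => mul_self_nonneg _).1
        (by linarith) χ hχ)
    have hperp : ∑ χ ∈ bb M G, S.a χ * f χ = 0 := S.perp_deg hM
    rw [four, hao, hfo, ← Finset.add_sum_erase T _ hYT,
      Finset.sum_eq_zero (s := T.erase Q.Y) fun χ hχ => by rw [hrest χ hχ, zero_mul]] at hperp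
    have := hfpos Q.Y
    have hsum2 : D.ev Q.c₂ * S.a Q.c₂ = -1 ∧ D.ev Q.c₃ * S.a Q.c₃ = -1 := by
      rcases u2 with e | e <;> rcases a2 with e' | e' <;> rcases u3 with e'' | e'' <;>
        rcases a3 with e''' | e''' <;> rw [e, e', e'', e'''] at ha1 ⊢ <;> omega
    obtain ⟨hs2, hs3⟩ := hsum2
    have r1 : S.a Q.c₁ = D.ev Q.c₁ := by rcases u1 with e | e <;> rw [e] at h1 ⊢ <;> omega
    have r2 : S.a Q.c₂ = -D.ev Q.c₂ := by rcases u2 with e | e <;> rw [e] at hs2 ⊢ <;> omega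
    have r3 : S.a Q.c₃ = -D.ev Q.c₃ := by rcases u3 with e | e <;> rw [e] at hs3 ⊢ <;> omega
    have r4 : S.a Q.Y = -2 * D.dv Q.Y := by rcases uY with e | e <;> rw [e] at hY2 ⊢ <;> omega
    rw [r1, r2, r3, r4] at hperp
    have : D.dv Q.Y * f Q.Y = 0 := by linarith
    rcases uY with e | e <;> rw [e] at this <;> linarith
  have hA4 : S.a Q.Y = 0 := by
    rcases uY with e | e <;> rw [e] at ha4 <;> linarith
  -- the products of the two functions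
  rw [four, hwo, hW3] at hAW
  have hbound : 2 * ∑ χ ∈ T, S.a χ * S.w χ ≤ 4 ∧ -4 ≤ 2 * ∑ χ ∈ T, S.a χ * S.w χ := by
    rw [Finset.mul_sum, ← hT4, ← Finset.sum_neg_distrib]
    exact ⟨Finset.sum_le_sum fun χ hχ =>
        (abs_le_of_even (hTmem χ hχ).2 (hwsmall χ (hTmem χ hχ).1)).1,
      Finset.sum_le_sum fun χ hχ =>
        (abs_le_of_even (hTmem χ hχ).2 (hwsmall χ (hTmem χ hχ).1)).2⟩
  generalize ∑ χ ∈ T, S.a χ * S.w χ = R at hAW hbound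
  set s := XGroup.sgnP D.p with hs
  have hY := hwodd Q.Y mY (by rw [Q.evY]; rfl)
  have hc1 := hwsmall Q.c₁ m1
  have hc2 := hwsmall Q.c₂ m2
  have hcY := hwsmall Q.Y mY
  obtain ⟨hW1, hA2, hW2⟩ : D.ev Q.c₁ * S.w Q.c₁ = s ∧ D.ev Q.c₂ * S.a Q.c₂ = 1 ∧
      D.ev Q.c₂ * S.w Q.c₂ = -s := by
    have hv : ∀ {e w : ℤ}, (e = 1 ∨ e = -1) → (w = 0 ∨ w = 1 ∨ w = -1) →
        (e * w = 0 ∨ e * w = 1 ∨ e * w = -1) := by
      rintro e w (rfl | rfl) (rfl | rfl | rfl) <;> simp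
    have h11 : S.a Q.c₁ * S.w Q.c₁ = D.ev Q.c₁ * S.a Q.c₁ * (D.ev Q.c₁ * S.w Q.c₁) := by
      rcases u1 with e | e <;> rw [e] <;> ring
    have h22 : S.a Q.c₂ * S.w Q.c₂ = D.ev Q.c₂ * S.a Q.c₂ * (D.ev Q.c₂ * S.w Q.c₂) := by
      rcases u2 with e | e <;> rw [e] <;> ring
    rw [h11, h22, hA1] at hAW
    have a2' : D.ev Q.c₂ * S.a Q.c₂ = 1 ∨ D.ev Q.c₂ * S.a Q.c₂ = -1 := by
      rcases u2 with e | e <;> rcases a2 with e' | e' <;> simp [e, e']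
    have b4 : D.dv Q.Y * S.w Q.Y = 1 ∨ D.dv Q.Y * S.w Q.Y = -1 :=
      (hv uY hcY).resolve_left (mul_ne_zero (by omega) hY)
    exact solve_signs (XGroup.sgnP_eq D.p) a2' (by linarith) (by linarith) b4 hbound (by linarith)
  have hA3 : D.ev Q.c₃ * S.a Q.c₃ = -1 := by linarith
  have hW4 : D.dv Q.Y * S.w Q.Y = -s := by linarith
  have hss : s * s = 1 := by rcases XGroup.sgnP_eq D.p with e | e <;> rw [← hs] at e <;> simp [e]
  -- the values at the involution, signed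
  have Z1 : (D.ev Q.c₁ : ℂ) * (Q.c₁ : G → ℂ) D.z = ((s * D.p : ℤ) : ℂ) := by
    rw [S.at_z _ m1]
    have e1 : (D.ev Q.c₁ : ℂ) * (S.a Q.c₁ : ℂ) = -1 := by exact_mod_cast hA1
    have e2 : (D.ev Q.c₁ : ℂ) * (S.w Q.c₁ : ℂ) = s := by exact_mod_cast hW1
    have e3 : (s : ℂ) * s = 1 := by exact_mod_cast hss
    push_cast
    linear_combination e1 + ((s : ℂ) + D.p) * e2 + e3
  have Z2 : (D.ev Q.c₂ : ℂ) * (Q.c₂ : G → ℂ) D.z = -((s * D.p : ℤ) : ℂ) := by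
    rw [S.at_z _ m2]
    have e1 : (D.ev Q.c₂ : ℂ) * (S.a Q.c₂ : ℂ) = 1 := by exact_mod_cast hA2
    have e2 : (D.ev Q.c₂ : ℂ) * (S.w Q.c₂ : ℂ) = -s := by exact_mod_cast hW2
    have e3 : (s : ℂ) * s = 1 := by exact_mod_cast hss
    push_cast
    linear_combination e1 + ((s : ℂ) + D.p) * e2 - e3
  have Z3 : (D.ev Q.c₃ : ℂ) * (Q.c₃ : G → ℂ) D.z = -1 := by
    rw [S.at_z _ m3, hW3]
    have e1 : (D.ev Q.c₃ : ℂ) * (S.a Q.c₃ : ℂ) = -1 := by exact_mod_cast hA3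
    push_cast
    linear_combination e1
  have Z4 : (D.dv Q.Y : ℂ) * (Q.Y : G → ℂ) D.z = -(1 + ((s * D.p : ℤ) : ℂ)) := by
    rw [S.at_z _ mY, hA4]
    have e2 : (D.dv Q.Y : ℂ) * (S.w Q.Y : ℂ) = -s := by exact_mod_cast hW4
    have e3 : (s : ℂ) * s = 1 := by exact_mod_cast hss
    push_cast
    linear_combination ((s : ℂ) + D.p) * e2 - e3
  exact ⟨Q, Z1, Z2, Z3, Z4, hf1, hf4⟩

/-- The degrees and the sum against the class of the involution. -/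
theorem exists_degrees [IsSimpleGroup G] (hM : Cfsg.IsPModular 2 M) :
    ∃ F1 F2 : ℤ, F1 % 2 = 1 ∧ F1.natAbs ∣ Nat.card G ∧ F2.natAbs ∣ Nat.card G ∧ F1 + 1 ≠ 0 ∧
      (-F1 - (D.p : ℤ) ^ 2) * (F2 - (D.p : ℤ) ^ 2) = (D.p : ℤ) ^ 2 * ((D.p : ℤ) ^ 2 - 1) ∧
      ∑ χ ∈ bb M G, (D.dv χ : ℂ) * (χ : G → ℂ) D.z ^ 2 / (χ : G → ℂ) 1 =
        ((F1 : ℂ) - XGroup.sgnP D.p * D.p) ^ 2 / ((F1 : ℂ) * ((F1 : ℂ) + 1)) := by
  haveI := D.hp
  obtain ⟨Q, Z1, Z2, Z3, Z4, hf1, hf4⟩ := exists_signed (D := D) hM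
  obtain ⟨m1, m2, m3, mY⟩ := Q.mem
  obtain ⟨u1, u2, u3, uY⟩ := Q.unit
  set o := trivIrr G with hodef
  have ho : o ∈ bb M G := mem_principal_triv hM
  have hsub : ({o, Q.c₁, Q.c₂, Q.c₃} : Finset _) ⊆ bb M G := by
    simp [Finset.insert_subset_iff, ho, m1, m2, m3]
  set s := XGroup.sgnP D.p with hs
  have hss : s * s = 1 := by rcases XGroup.sgnP_eq D.p with e | e <;> rw [← hs] at e <;> simp [e]
  set f : Cfsg.IrrCharacter G → ℤ := fun χ => (Cfsg.charDegree (χ : G → ℂ) : ℤ) with hfdef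
  have hfC : ∀ χ, (f χ : ℂ) = (χ : G → ℂ) 1 := fun χ => by
    rw [← charDegree_cast]; simp [hfdef]
  have hfpos : ∀ χ, 0 < f χ := fun χ => Int.natCast_pos.2 (charDegree_pos _)
  change 1 + D.ev Q.c₁ * f Q.c₁ + D.ev Q.c₂ * f Q.c₂ + D.ev Q.c₃ * f Q.c₃ = 0 at hf1
  change 1 + D.ev Q.c₁ * f Q.c₁ + D.dv Q.Y * f Q.Y = 0 at hf4
  set F1 : ℤ := D.ev Q.c₁ * f Q.c₁ with hF1
  set F2 : ℤ := -(D.ev Q.c₂ * f Q.c₂) with hF2
  -- the degrees
  have hne1 : F1 ≠ 0 := mul_ne_zero (by omega) (hfpos _).ne'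
  have hne2 : F2 ≠ 0 := neg_ne_zero.2 (mul_ne_zero (by omega) (hfpos _).ne')
  have hF3 : D.ev Q.c₃ * f Q.c₃ = -(1 + F1 - F2) := by rw [hF1, hF2]; linarith
  have hne3 : 1 + F1 - F2 ≠ 0 := fun h => by
    rw [h, neg_zero] at hF3
    exact mul_ne_zero (by omega) (hfpos _).ne' hF3
  have hF4 : D.dv Q.Y * f Q.Y = -(1 + F1) := by rw [hF1]; linarith
  have hne4 : F1 + 1 ≠ 0 := fun h => by
    rw [show (1 + F1) = 0 by linarith, neg_zero] at hF4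
    exact mul_ne_zero (by omega) (hfpos _).ne' hF4
  have hne : F1 ≠ F2 := fun h => by
    refine Q.ne₃.1 (one_of_simple D.not_comm ?_)
    have : f Q.c₃ = 1 := by
      rw [h, add_sub_cancel_right] at hF3
      have := hfpos Q.c₃
      rcases u3 with e | e <;> rw [e] at hF3 <;> omega
    rw [← hfC, this, Int.cast_one]
  have c1 : (D.ev Q.c₁ : ℂ) * (Q.c₁ : G → ℂ) 1 = (F1 : ℂ) := by rw [← hfC, hF1]; push_cast; rfl
  have c2 : (D.ev Q.c₂ : ℂ) * (Q.c₂ : G → ℂ) 1 = -(F2 : ℂ) := by rw [← hfC, hF2]; push_cast; ring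
  have c3 : (D.ev Q.c₃ : ℂ) * (Q.c₃ : G → ℂ) 1 = -((1 + F1 - F2 : ℤ) : ℂ) := by
    rw [← hfC, ← Int.cast_mul, hF3, Int.cast_neg]
  have c4 : (D.dv Q.Y : ℂ) * (Q.Y : G → ℂ) 1 = -((1 + F1 : ℤ) : ℂ) := by
    rw [← hfC, ← Int.cast_mul, hF4, Int.cast_neg]
  have hsq := D.sum_ev_sq hM
  have hoC : (o : G → ℂ) D.z = 1 ∧ (o : G → ℂ) 1 = 1 := by simp [hodef]
  rw [← Finset.sum_subset hsub (fun χ hχ hn => by
      simp only [Finset.mem_insert, Finset.mem_singleton, not_or] at hn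
      rw [(Q.supp χ hχ hn.1 hn.2.1).2 hn.2.2.1 hn.2.2.2, Int.cast_zero, zero_mul, zero_div]),
    Finset.sum_insert (by simp [Q.ne₁.symm, Q.ne₂.1.symm, Q.ne₃.1.symm, hodef]),
    Finset.sum_insert (by simp [Q.ne₂.2.symm, Q.ne₃.2.1.symm]), Finset.sum_pair Q.ne₃.2.2.symm,
    D.ev_triv, hoC.1, hoC.2, sq_div_signed u1, sq_div_signed u2, sq_div_signed u3,
    Z1, Z2, Z3, c1, c2, c3] at hsq
  refine ⟨F1, F2, ?_, ?_, ?_, hne4, ?_, ?_⟩
  · have := (Q.ev_odd (D := D) m1).2 (Or.inr (Or.inl rfl))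
    have h2 := D.ev_cong Q.c₁
    have h3 : f Q.c₁ % 2 = 1 := by rw [sign_mod_two]; rw [sign_mod_two] at this; exact h2.trans this
    rw [hF1]; rcases u1 with e | e <;> rw [e] <;> omega
  · have : F1.natAbs = (f Q.c₁).natAbs := by
      rw [hF1, Int.natAbs_mul]; rcases u1 with e | e <;> rw [e] <;> simp
    rw [this, hfdef, Int.natAbs_natCast]
    exact char_degree_dvd_card _
  · have : F2.natAbs = (f Q.c₂).natAbs := by
      rw [hF2, Int.natAbs_neg, Int.natAbs_mul]; rcases u2 with e | e <;> rw [e] <;> simp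
    rw [this, hfdef, Int.natAbs_natCast]
    exact char_degree_dvd_card _
  · refine degree_relation hne1 hne2 hne3 hne ?_
    apply Rat.cast_injective (α := ℂ)
    have hs2 : (s : ℂ) * s = 1 := by exact_mod_cast hss
    push_cast at hsq ⊢
    simp only [div_neg, neg_sq, one_pow] at hsq
    linear_combination hsq - ((D.p : ℂ) ^ 2 / (F1 : ℂ) - (D.p : ℂ) ^ 2 / (F2 : ℂ)) * hs2
  · obtain ⟨m1, m2, m3, mY⟩ := Q.mem
    rw [← Finset.sum_subset (s₁ := {o, Q.c₁, Q.Y})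
      (by simp [Finset.insert_subset_iff, ho, m1, mY])
      (fun χ hχ hn => by
        simp only [Finset.mem_insert, Finset.mem_singleton, not_or] at hn
        rw [(Q.supp χ hχ hn.1 hn.2.1).1 hn.2.2, Int.cast_zero, zero_mul, zero_div]),
      Finset.sum_insert (by simp [Q.ne₁.symm, Q.neY.1.symm, hodef]), Finset.sum_pair Q.neY.2.1.symm,
      D.dv_triv, hoC.1, hoC.2, Q.dv₁, sq_div_signed u1, sq_div_signed uY, Z1, Z4, c1, c4]
    push_cast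
    have e1 : (F1 : ℂ) ≠ 0 := Int.cast_ne_zero.2 hne1
    have e4 : (F1 : ℂ) + 1 ≠ 0 := by exact_mod_cast hne4
    have e4' : (1 : ℂ) + F1 ≠ 0 := by rwa [add_comm]
    field_simp
    ring

end Data

end Cfsg.Agent.CycSD
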