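import Mathlib
import Cfsg.Agent.Lib.CycSD.Table
import Cfsg.Agent.Lib.CycSD.Inverters
import Cfsg.Agent.Lib.Blocks.DefectCenter

/-!
# Pairs of involutions against the second combination
-/

set_option autoImplicit false
set_option linter.unusedSectionVars false
set_option linter.style.haveILetI false

open scoped Classical

namespace Cfsg.Agent.CycSD

open Cfsg.Agent.Blocks Cfsg.Agent.Characters
open scoped ComplexConjugate

universe u

variable {G : Type u} [Group G] [Finite G]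

/-- The conjugators from `x` to a given conjugate form a coset of the centraliser. -/
theorem card_conjugators {x y : G} (h : IsConj x y) :
    Nat.card {a : G // a * x * a⁻¹ = y} = Nat.card (Subgroup.centralizer ({x} : Set G)) := by
  obtain ⟨a, rfl⟩ := isConj_iff.1 h
  refine Nat.card_congr (Equiv.subtypeEquiv (Equiv.mulLeft a⁻¹) fun b => ?_)
  show _ ↔ a⁻¹ * b ∈ Subgroup.centralizer ({x} : Set G)
  rw [Subgroup.mem_centralizer_singleton_iff]
  constructor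
  · intro e
    calc a⁻¹ * b * x = a⁻¹ * (b * x * b⁻¹) * b := by group
      _ = a⁻¹ * (a * x * a⁻¹) * b := by rw [e]
      _ = x * (a⁻¹ * b) := by group
  · intro e
    calc b * x * b⁻¹ = a * (a⁻¹ * b * x) * b⁻¹ := by group
      _ = a * (x * (a⁻¹ * b)) * b⁻¹ := by rw [e]
      _ = a * x * a⁻¹ := by group

theorem isPPart_inv' {p : ℕ} {g x : G} (h : Cfsg.IsPPart p g x) : Cfsg.IsPPart p g⁻¹ x⁻¹ := by
  obtain ⟨y, rfl, hc, ⟨k, hk⟩, hy⟩ := h
  exact ⟨y⁻¹, by rw [hc.eq, mul_inv_rev], hc.inv_inv, ⟨k, by rw [orderOf_inv, hk]⟩,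
    by rwa [orderOf_inv]⟩

theorem inverted_ppart {g x i : G} (h : Cfsg.IsPPart 2 g x) (hi : i * g * i⁻¹ = g⁻¹) :
    i * x * i⁻¹ = x⁻¹ :=
  ppart_unique Nat.prime_two (isPPart_conj h i) (hi ▸ isPPart_inv' h)

variable (D : Data G) [Fintype (Cfsg.IrrCharacter G)]

namespace Data

/-- An involution and an element in a given section, inverted by it. -/
def Inv (l : ZMod D.N) (q : G × G) : Prop :=
  orderOf q.1 = 2 ∧ InSec 2 (D.σ ^ l.val) q.2 ∧ q.1 * q.2 * q.1⁻¹ = q.2⁻¹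

theorem card_inv_eq_zero {l : ZMod D.N} (hodd : D.hh * l ≠ 0) :
    Nat.card {q : G × G // D.Inv l q} = 0 := by
  have : IsEmpty {q : G × G // D.Inv l q} := by
    constructor
    rintro ⟨⟨i, g⟩, -, ⟨y, hy, hp⟩, hinv⟩
    obtain ⟨a, rfl⟩ := isConj_iff.1 hy
    have h := inverted_ppart hp hinv
    refine D.not_inverted l.val (fun hd => hodd ?_) (a⁻¹ * i * a) ?_
    · obtain ⟨k, hk⟩ := hd
      rw [← ZMod.natCast_zmod_val l, hk, Nat.cast_mul, Nat.cast_two, ← mul_assoc,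
        mul_comm D.hh 2, D.two_mul_hh, zero_mul]
    · calc a⁻¹ * i * a * D.σ ^ l.val * (a⁻¹ * i * a)⁻¹
          = a⁻¹ * (i * (a * D.σ ^ l.val * a⁻¹) * i⁻¹) * a := by group
        _ = (D.σ ^ l.val)⁻¹ := by rw [show i * (a * D.σ ^ l.val * a⁻¹) * i⁻¹ = _ from h]; group
  exact Nat.card_of_isEmpty

theorem card_inv {l : ZMod D.N} (hl : 2 * l ≠ 0) (heven : D.hh * l = 0) :
    Nat.card {q : G × G // D.Inv l q} * (2 * D.ot ^ 2) = Nat.card G * D.o := by
  set x := D.σ ^ l.val with hx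
  have hN := D.two_mul_ne.1 hl
  have hval : Even l.val := by
    by_contra hv
    obtain ⟨k, hk⟩ := Nat.not_even_iff_odd.1 hv
    apply D.hh_ne
    rw [← ZMod.natCast_zmod_val l, hk] at heven
    push_cast at heven
    linear_combination heven - (k : ZMod D.N) * D.two_mul_hh
  have hC : Subgroup.centralizer ({x} : Set G) = D.H2 := D.cent_even _ hval hN
  have hcomm : ∀ {s : G}, s ∈ D.H2 → Commute x s := fun {s} hs =>
    (Subgroup.mem_centralizer_singleton_iff.1 (hC.symm ▸ hs : s ∈ Subgroup.centralizer {x})).symm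
  have htx : D.t * x * D.t⁻¹ = x⁻¹ := by
    rw [hx, D.conj_t]
    refine eq_inv_of_mul_eq_one_left ?_
    rw [← pow_add, ← pow_zero D.σ, D.pow_eq_pow, Nat.cast_add, ZMod.natCast_zmod_val,
      ZMod.natCast_zmod_val, Nat.cast_zero, μ]
    linear_combination heven
  have hinv : D.t⁻¹ = D.t := inv_eq_of_mul_eq_one_right D.t_sq
  -- elements inverting `x`
  have hiff : ∀ i : G, i * x * i⁻¹ = x⁻¹ ↔ D.t * i ∈ D.H2 := fun i => by
    rw [← hC, Subgroup.mem_centralizer_singleton_iff]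
    constructor
    · intro e
      calc D.t * i * x = D.t * (i * x * i⁻¹) * i := by group
        _ = D.t * (D.t * x * D.t⁻¹) * i := by rw [e, htx]
        _ = (D.t * D.t) * x * (D.t⁻¹ * i) := by group
        _ = x * (D.t * i) := by rw [D.t_sq, one_mul, hinv]
    · intro e
      calc i * x * i⁻¹ = D.t⁻¹ * (D.t * i * x) * i⁻¹ := by group
        _ = D.t⁻¹ * (x * (D.t * i)) * i⁻¹ := by rw [e]
        _ = D.t * x * D.t⁻¹ := by rw [hinv]; group
        _ = x⁻¹ := htx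
  -- the fibre over `x`
  let Fib := {q : G × G // (orderOf q.1 = 2 ∧ D.t * q.1 ∈ D.H2) ∧
    q.2 ∈ D.H2 ∧ ¬ 2 ∣ orderOf q.2 ∧ q.1 * q.2 * q.1⁻¹ = q.2⁻¹}
  have hFib : Nat.card Fib * (2 * D.ot ^ 2) = D.N * D.o * D.o := by
    haveI := Fintype.ofFinite {i : G // orderOf i = 2 ∧ D.t * i ∈ D.H2}
    have h2ot : 2 * D.ot = Nat.card (D.H2 ⊓ Subgroup.centralizer ({D.t} : Set G) : Subgroup G) := by
      refine Nat.mul_div_cancel' ?_
      have hz : D.z ∈ D.H2 ⊓ Subgroup.centralizer ({D.t} : Set G) :=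
        Subgroup.mem_inf.2 ⟨D.z_mem_H2, Subgroup.mem_centralizer_singleton_iff.2
          (Subgroup.mem_centralizer_singleton_iff.1 (D.S_le_cent D.t_mem)).symm⟩
      have := Subgroup.orderOf_dvd_natCard _ hz
      rwa [D.orderOf_z] at this
    let e : Fib ≃ Σ i : {i : G // orderOf i = 2 ∧ D.t * i ∈ D.H2},
        {s : G // s ∈ D.H2 ∧ ¬ 2 ∣ orderOf s ∧ (i : G) * s * (i : G)⁻¹ = s⁻¹} :=
      { toFun := fun q => ⟨⟨q.1.1, q.2.1⟩, ⟨q.1.2, q.2.2⟩⟩
        invFun := fun w => ⟨(w.1.1, w.2.1), w.1.2, w.2.2⟩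
        left_inv := fun _ => rfl
        right_inv := fun _ => rfl }
    rw [Nat.card_congr e, Nat.card_sigma, Finset.sum_mul,
      Finset.sum_congr rfl (g := fun _ => D.o * (2 * D.ot)) fun i _ => by
        rw [← D.card_J i.2.1 i.2.2]; ring,
      Finset.sum_const, Finset.card_univ, ← Nat.card_eq_fintype_card, smul_eq_mul,
      mul_left_comm, h2ot, D.card_I, D.card_H2, mul_comm]
  -- all the fibres
  let A := {w : G × (G × G) // D.Inv l w.2 ∧ Cfsg.IsPPart 2 w.2.2 (w.1 * x * w.1⁻¹)}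
  have hA1 : Nat.card A = Nat.card {q : G × G // D.Inv l q} * Nat.card D.H2 := by
    let e : A ≃ Σ q : {q : G × G // D.Inv l q},
        {a : G // Cfsg.IsPPart 2 (q : G × G).2 (a * x * a⁻¹)} :=
      { toFun := fun w => ⟨⟨w.1.2, w.2.1⟩, ⟨w.1.1, w.2.2⟩⟩
        invFun := fun w => ⟨(w.2.1, w.1.1), w.1.2, w.2.2⟩
        left_inv := fun _ => rfl
        right_inv := fun _ => rfl }
    haveI := Fintype.ofFinite {q : G × G // D.Inv l q}
    rw [Nat.card_congr e, Nat.card_sigma,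
      Finset.sum_congr rfl (g := fun _ => Nat.card D.H2) fun q _ => ?_,
      Finset.sum_const, Finset.card_univ, ← Nat.card_eq_fintype_card, smul_eq_mul]
    obtain ⟨⟨i, g⟩, -, ⟨y, hy, hp⟩, -⟩ := q
    rw [← hC, ← card_conjugators hy]
    exact Nat.card_congr (Equiv.subtypeEquivRight fun a =>
      ⟨fun h => ppart_unique Nat.prime_two h hp, fun h => h.symm ▸ hp⟩)
  have hA2 : Nat.card A = Nat.card G * Nat.card Fib := by
    rw [← Nat.card_prod]
    refine Nat.card_congr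
      { toFun := fun w => (w.1.1, ⟨(w.1.1⁻¹ * w.1.2.1 * w.1.1, x⁻¹ * (w.1.1⁻¹ * w.1.2.2 * w.1.1)), ?_⟩)
        invFun := fun w => ⟨(w.1, (w.1 * w.2.1.1 * w.1⁻¹, w.1 * (x * w.2.1.2) * w.1⁻¹)), ?_⟩
        left_inv := fun w => ?_
        right_inv := fun w => ?_ }
    · obtain ⟨⟨a, i, g⟩, ⟨hi, -, hig⟩, hp⟩ := w
      have hp' : Cfsg.IsPPart 2 (a⁻¹ * g * a) x := by
        have := isPPart_conj hp a⁻¹
        simpa [mul_assoc] using this
      have hg : (a⁻¹ * i * a) * (a⁻¹ * g * a) * (a⁻¹ * i * a)⁻¹ = (a⁻¹ * g * a)⁻¹ := by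
        rw [show (a⁻¹ * g * a)⁻¹ = a⁻¹ * g⁻¹ * a by group, ← hig]; group
      have hx' := inverted_ppart hp' hg
      obtain ⟨y, hy, hc, -, hyo⟩ := hp'
      show (orderOf (a⁻¹ * i * a) = 2 ∧ D.t * (a⁻¹ * i * a) ∈ D.H2) ∧
        x⁻¹ * (a⁻¹ * g * a) ∈ D.H2 ∧ ¬ 2 ∣ orderOf (x⁻¹ * (a⁻¹ * g * a)) ∧
          (a⁻¹ * i * a) * (x⁻¹ * (a⁻¹ * g * a)) * (a⁻¹ * i * a)⁻¹ = (x⁻¹ * (a⁻¹ * g * a))⁻¹
      rw [← hy, inv_mul_cancel_left]
      rw [← hy] at hg
      refine ⟨⟨?_, (hiff _).1 hx'⟩, ?_, hyo, ?_⟩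
      · rw [show orderOf (a⁻¹ * i * a) = orderOf i by
          simpa using MulEquiv.orderOf_eq (MulAut.conj a⁻¹) i]
        exact hi
      · rw [← hC, Subgroup.mem_centralizer_singleton_iff]
        exact hc.eq.symm
      · generalize a⁻¹ * i * a = j at hg hx' ⊢
        calc j * y * j⁻¹ = (j * x * j⁻¹)⁻¹ * (j * (x * y) * j⁻¹) := by group
          _ = x * (x * y)⁻¹ := by rw [hx', hg, inv_inv]
          _ = y⁻¹ := by rw [hc.eq]; group
    · obtain ⟨a, ⟨i, s⟩, ⟨hi, hti⟩, hs, hso, his⟩ := w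
      have hp : Cfsg.IsPPart 2 (x * s) x := ⟨s, rfl, hcomm hs, D.isPElement _, hso⟩
      refine ⟨⟨?_, ⟨a * x * a⁻¹, isConj_iff.2 ⟨a, rfl⟩, isPPart_conj hp a⟩, ?_⟩, isPPart_conj hp a⟩
      · exact (MulEquiv.orderOf_eq (MulAut.conj a) i).trans hi
      · have hix := (hiff i).2 hti
        calc a * i * a⁻¹ * (a * (x * s) * a⁻¹) * (a * i * a⁻¹)⁻¹
            = a * ((i * x * i⁻¹) * (i * s * i⁻¹)) * a⁻¹ := by group
          _ = a * (x⁻¹ * s⁻¹) * a⁻¹ := by rw [hix, his]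
          _ = a * (s * x)⁻¹ * a⁻¹ := by rw [mul_inv_rev]
          _ = (a * (x * s) * a⁻¹)⁻¹ := by rw [(hcomm hs).eq]; group
    · refine Subtype.ext (Prod.ext rfl (Prod.ext ?_ ?_))
      · show w.1.1 * (w.1.1⁻¹ * w.1.2.1 * w.1.1) * w.1.1⁻¹ = _
        group
      · show w.1.1 * (x * (x⁻¹ * (w.1.1⁻¹ * w.1.2.2 * w.1.1))) * w.1.1⁻¹ = _
        group
    · refine Prod.ext rfl (Subtype.ext (Prod.ext ?_ ?_))
      · show w.1⁻¹ * (w.1 * w.2.1.1 * w.1⁻¹) * w.1 = _
        group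
      · show x⁻¹ * (w.1⁻¹ * (w.1 * (x * w.2.1.2) * w.1⁻¹) * w.1) = _
        group
  have h := hA1.symm.trans hA2
  rw [D.card_H2] at h
  have hpos : 0 < D.N * D.o := D.card_H2 ▸ Nat.card_pos
  refine Nat.eq_of_mul_eq_mul_right hpos ?_
  calc Nat.card {q : G × G // D.Inv l q} * (2 * D.ot ^ 2) * (D.N * D.o)
      = Nat.card {q : G × G // D.Inv l q} * (D.N * D.o) * (2 * D.ot ^ 2) := by ring
    _ = Nat.card G * (Nat.card Fib * (2 * D.ot ^ 2)) := by rw [h]; ring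
    _ = _ := by rw [hFib]; ring

theorem card_pairs [IsSimpleGroup G] {l : ZMod D.N} (hl : 2 * l ≠ 0) :
    Nat.card {w : G × G // InSec 2 (D.σ ^ l.val) ((w.1 * D.z * w.1⁻¹) * (w.2 * D.z * w.2⁻¹))} =
      Nat.card (Subgroup.centralizer ({D.z} : Set G)) ^ 2 * Nat.card {q : G × G // D.Inv l q} := by
  set C := Subgroup.centralizer ({D.z} : Set G)
  have hsq : ∀ {i : G}, orderOf i = 2 → i * i = 1 := fun hi => by
    rw [← pow_two, ← hi, pow_orderOf_eq_one]
  have hinvo : ∀ a : G, orderOf (a * D.z * a⁻¹) = 2 := fun a =>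
    (MulEquiv.orderOf_eq (MulAut.conj a) D.z).trans D.orderOf_z
  let e : {w : G × G // InSec 2 (D.σ ^ l.val) ((w.1 * D.z * w.1⁻¹) * (w.2 * D.z * w.2⁻¹))} ≃
      Σ q : {q : G × G // D.Inv l q},
        {a : G // a * D.z * a⁻¹ = (q : G × G).1} ×
          {b : G // b * D.z * b⁻¹ = (q : G × G).1 * (q : G × G).2} :=
    { toFun := fun w => ⟨⟨(w.1.1 * D.z * w.1.1⁻¹,
        (w.1.1 * D.z * w.1.1⁻¹) * (w.1.2 * D.z * w.1.2⁻¹)), hinvo _, w.2, by
          have h1 := hsq (hinvo w.1.1)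
          have h2 := hsq (hinvo w.1.2)
          generalize w.1.1 * D.z * w.1.1⁻¹ = i at h1 ⊢
          generalize w.1.2 * D.z * w.1.2⁻¹ = k at h2 ⊢
          rw [mul_inv_rev, inv_eq_of_mul_eq_one_right h1, inv_eq_of_mul_eq_one_right h2,
            ← mul_assoc, h1, one_mul]⟩,
        ⟨w.1.1, rfl⟩, ⟨w.1.2, by rw [← mul_assoc, hsq (hinvo _), one_mul]⟩⟩
      invFun := fun w => ⟨(w.2.1.1, w.2.2.1), by
        rw [w.2.1.2, w.2.2.2, ← mul_assoc, hsq w.1.2.1, one_mul]; exact w.1.2.2.1⟩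
      left_inv := fun w => rfl
      right_inv := by
        rintro ⟨⟨⟨i, g⟩, hq⟩, ⟨a, ha⟩, ⟨b, hb⟩⟩
        dsimp only at ha hb ⊢
        subst ha
        have hg : g = a * D.z * a⁻¹ * (b * D.z * b⁻¹) := by
          rw [hb, ← mul_assoc, hsq hq.1, one_mul]
        subst hg
        rfl }
  haveI := Fintype.ofFinite {q : G × G // D.Inv l q}
  rw [Nat.card_congr e, Nat.card_sigma,
    Finset.sum_congr rfl (g := fun _ => Nat.card C ^ 2) fun q _ => ?_,
    Finset.sum_const, Finset.card_univ, ← Nat.card_eq_fintype_card, smul_eq_mul, mul_comm]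
  obtain ⟨⟨i, g⟩, hi, hsec, hinv⟩ := q
  have hk : orderOf (i * g) = 2 := by
    refine orderOf_eq_prime ?_ fun e => ?_
    · have hi' := inv_eq_of_mul_eq_one_right (hsq hi)
      rw [hi'] at hinv
      rw [pow_two, ← mul_assoc, hinv, inv_mul_cancel]
    · have hgi : g = i := (eq_inv_of_mul_eq_one_right e).trans (inv_eq_of_mul_eq_one_right (hsq hi))
      change InSec 2 _ g at hsec
      rw [hgi, inSec_iff_of_pElement Nat.prime_two ⟨1, by rw [hi, pow_one]⟩] at hsec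
      obtain ⟨a, ha⟩ := isConj_iff.1 hsec
      refine D.two_mul_ne.1 hl ?_
      rw [D.dvd_iff, mul_comm, pow_mul]
      refine (MulAut.conj a).injective ?_
      rw [map_pow, map_one]
      show (a * D.σ ^ l.val * a⁻¹) ^ 2 = 1
      rw [ha, pow_two, hsq hi]
  rw [Nat.card_prod, card_conjugators (D.one_class hi).symm,
    card_conjugators (D.one_class hk).symm, pow_two]

variable {M : Ideal Cfsg.AlgInt}

/-- The second combination against a column. -/
theorem sum_dv_value (hM : Cfsg.IsPModular 2 M) (g : G) :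
    ∑ χ ∈ bb M G, (D.dv χ : ℂ) * (χ : G → ℂ) g =
      ∑ l : ZMod D.N, (1 - ee (2 * l)) * if InSec 2 (D.σ ^ l.val) g then 1 else 0 := by
  refine mul_left_cancel₀ (Nat.cast_ne_zero.2 (NeZero.ne D.N) : (D.N : ℂ) ≠ 0) ?_
  rw [Finset.mul_sum, Finset.sum_congr rfl fun χ _ => show (D.N : ℂ) * ((D.dv χ : ℂ) * (χ : G → ℂ) g) =
      ∑ l : ZMod D.N, (1 - ee (2 * l)) * ((χ : G → ℂ) g * conj ((χ : G → ℂ) (D.σ ^ l.val))) by
    have e := congrArg conj (dd_eq D.pow_N 0 2 χ)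
    rw [map_mul, map_natCast, map_intCast, map_sum] at e
    rw [← mul_assoc, dv, e, Finset.sum_mul]
    refine Finset.sum_congr rfl fun l _ => ?_
    rw [map_mul, map_sub, conj_ee, conj_ee, neg_neg, neg_neg, zero_mul]
    show ((ZMod.stdAddChar (0 : ZMod D.N) : ℂ) - _) * _ * _ = _
    rw [AddChar.map_zero_eq_one]
    ring, Finset.sum_comm, Finset.mul_sum]
  refine Finset.sum_congr rfl fun l _ => ?_
  rw [← Finset.mul_sum]
  by_cases hl : 2 * l = 0
  · have h0 : (1 : ℂ) - ee (2 * l) = 0 := by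
      rw [hl]
      show (1 : ℂ) - ZMod.stdAddChar (0 : ZMod D.N) = 0
      rw [AddChar.map_zero_eq_one, sub_self]
    rw [h0, zero_mul, zero_mul, mul_zero]
  · rw [D.col_sum hM hl]
    split_ifs <;> ring

theorem sum_weights :
    ∑ l : ZMod D.N, (1 - ee (2 * l)) * (if D.hh * l = 0 then 1 else 0) = (D.N : ℂ) / 2 := by
  have hind : ∀ l : ZMod D.N, (if D.hh * l = 0 then (1 : ℂ) else 0) = (1 + ee (D.hh * l)) / 2 := by
    intro l
    have h2 : (ee (D.hh * l) : ℂ) * ee (D.hh * l) = 1 := by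
      show ZMod.stdAddChar _ * ZMod.stdAddChar _ = (1 : ℂ)
      rw [← AddChar.map_add_eq_mul, ← add_mul, D.hh_add, zero_mul, AddChar.map_zero_eq_one]
    split_ifs with h
    · rw [h]
      show (1 : ℂ) = (1 + ZMod.stdAddChar (0 : ZMod D.N)) / 2
      rw [AddChar.map_zero_eq_one]; norm_num
    · rcases mul_self_eq_one_iff.1 h2 with e | e
      · exact absurd (ZMod.injective_stdAddChar (e.trans (AddChar.map_zero_eq_one _).symm)) h
      · rw [e]; norm_num
  have hterm : ∀ l : ZMod D.N, (1 - ee (2 * l)) * ((1 + ee (D.hh * l)) / 2) =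
      (ee (l * (0 : ZMod D.N)) - ee (l * 2) + ee (l * D.hh) - ee (l * (2 + D.hh))) / 2 := by
    intro l
    have h1 : (ee (l * (2 + D.hh)) : ℂ) = ee (2 * l) * ee (D.hh * l) := by
      show ZMod.stdAddChar _ = ZMod.stdAddChar _ * ZMod.stdAddChar _
      rw [← AddChar.map_add_eq_mul]
      congr 1
      ring
    rw [h1, mul_comm l 2, mul_comm l D.hh, mul_zero]
    show (_ : ℂ) = ((ZMod.stdAddChar (0 : ZMod D.N) : ℂ) - _ + _ - _) / 2
    rw [AddChar.map_zero_eq_one]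
    ring
  have h2h : (2 : ZMod D.N) + D.hh ≠ 0 := fun h => D.four_ne (by
    linear_combination 2 * h - D.two_mul_hh)
  simp only [hind, hterm, ← Finset.sum_div, Finset.sum_sub_distrib, Finset.sum_add_distrib, sum_ee,
    if_neg D.two_ne, if_neg D.hh_ne, if_neg h2h, if_true, sub_zero, add_zero]

/-- The order identity. -/
theorem count [IsSimpleGroup G] (hM : Cfsg.IsPModular 2 M) :
    4 * (D.ot : ℂ) ^ 2 * Nat.card G *
        ∑ χ ∈ bb M G, (D.dv χ : ℂ) * (χ : G → ℂ) D.z ^ 2 / (χ : G → ℂ) 1 =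
      (Nat.card (Subgroup.centralizer ({D.z} : Set G)) : ℂ) ^ 2 * D.o * D.N := by
  letI := Fintype.ofFinite G
  set C := Subgroup.centralizer ({D.z} : Set G)
  set X := ∑ χ ∈ bb M G, (D.dv χ : ℂ) * (χ : G → ℂ) D.z ^ 2 / (χ : G → ℂ) 1 with hX
  set T := ∑ w : G × G, ∑ χ ∈ bb M G,
    (D.dv χ : ℂ) * (χ : G → ℂ) ((w.1 * D.z * w.1⁻¹) * (w.2 * D.z * w.2⁻¹)) with hT
  have h1 : T = (Nat.card G : ℂ) ^ 2 * X := by
    rw [hT, Finset.sum_comm, hX, Finset.mul_sum]
    refine Finset.sum_congr rfl fun χ _ => ?_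
    rw [← Finset.mul_sum, Fintype.sum_prod_type,
      Finset.sum_congr rfl (g := fun _ => (Nat.card G : ℂ) *
        ((χ : G → ℂ) D.z * (χ : G → ℂ) D.z) / (χ : G → ℂ) 1) fun a _ => by
        dsimp only; rw [sum_char_mul_conj, irr_isClassFunction χ],
      Finset.sum_const, Finset.card_univ, ← Nat.card_eq_fintype_card, nsmul_eq_mul]
    ring
  have h2 : (2 * (D.ot : ℂ) ^ 2) * T =
      (Nat.card C : ℂ) ^ 2 * Nat.card G * D.o *
        ∑ l : ZMod D.N, (1 - ee (2 * l)) * (if D.hh * l = 0 then 1 else 0) := by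
    simp only [hT, D.sum_dv_value hM]
    rw [Finset.sum_comm, Finset.mul_sum, Finset.mul_sum]
    refine Finset.sum_congr rfl fun l _ => ?_
    rw [← Finset.mul_sum]
    by_cases hl : 2 * l = 0
    · have h0 : (1 : ℂ) - ee (2 * l) = 0 := by
        rw [hl]
        show (1 : ℂ) - ZMod.stdAddChar (0 : ZMod D.N) = 0
        rw [AddChar.map_zero_eq_one, sub_self]
      rw [h0, zero_mul, zero_mul, mul_zero, mul_zero]
    rw [Finset.sum_boole, ← Fintype.card_subtype, ← Nat.card_eq_fintype_card, D.card_pairs hl]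
    by_cases he : D.hh * l = 0
    · have := D.card_inv hl he
      have h' : ((Nat.card {q : G × G // D.Inv l q} : ℕ) : ℂ) * (2 * (D.ot : ℂ) ^ 2) =
          (Nat.card G : ℂ) * D.o := by exact_mod_cast this
      rw [if_pos he]
      push_cast
      linear_combination (1 - ee (2 * l)) * (Nat.card C : ℂ) ^ 2 * h'
    · rw [D.card_inv_eq_zero he, if_neg he]
      simp
  rw [D.sum_weights, h1] at h2
  refine mul_left_cancel₀ (Nat.cast_ne_zero.2 Nat.card_pos.ne' : (Nat.card G : ℂ) ≠ 0) ?_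
  linear_combination (2 : ℂ) * h2

end Data

end Cfsg.Agent.CycSD
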