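import Mathlib
import Cfsg.Agent.Lib.Involutions.Basic

/-!
# Centralisers of odd elements with cyclic Sylow 2-subgroups

If an `r`-element `τ` commutes with the involution `z` and the Sylow 2-subgroups of the centraliser
of `τ` are cyclic, then a cyclic Sylow `r`-subgroup is centralised by a conjugate of `z`.
-/

set_option autoImplicit false
set_option linter.style.haveILetI false

namespace Cfsg.Agent.CycSD

open Subgroup
open Cfsg.Agent.Involutions

universe u

variable {G : Type u} [Group G] [Finite G]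

/-- An element inducing an automorphism of order two of a cyclic `r`-group with a nontrivial fixed
point centralises it. -/
theorem commute_of_fix {r : ℕ} (hr2 : r ≠ 2) [Fact r.Prime] {P : Subgroup G} (hP : IsPGroup r P)
    (hc : IsCyclic P) {z τ : G} (hz : orderOf z = 2) (hn : ∀ g ∈ P, z * g * z⁻¹ ∈ P) (hτ : τ ∈ P)
    (hτ1 : τ ≠ 1) (hfix : z * τ = τ * z) {g : G} (hg : g ∈ P) : z * g = g * z := by
  have hcomm : ∀ a ∈ P, ∀ b ∈ P, a * b = b * a := by
    intro a ha b hb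
    have := (hc.isMulCommutative).is_comm.comm (⟨a, ha⟩ : P) ⟨b, hb⟩
    exact congrArg Subtype.val this
  set h := g * (z * g * z⁻¹)⁻¹ with hh
  have hhP : h ∈ P := mul_mem hg (inv_mem (hn g hg))
  have hzz : z * z = 1 := Basic.inv_sq_one hz
  have hzi : z⁻¹ = z := Basic.inv_eq hz
  have hinv : z * h * z⁻¹ = h⁻¹ := by
    have e : z * h * z⁻¹ = (z * g * z⁻¹) * g⁻¹ := by
      rw [hh, hzi]
      calc z * (g * (z * g * z)⁻¹) * z = z * g * (z⁻¹ * g⁻¹ * (z⁻¹ * z)) := by group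
        _ = z * g * (z * g⁻¹) := by rw [inv_mul_cancel, mul_one, hzi]
        _ = z * g * z * g⁻¹ := by group
    rw [e, hh, mul_inv_rev, inv_inv]
  by_contra hne
  have hh1 : h ≠ 1 := by
    intro h1
    apply hne
    rw [hh, mul_inv_eq_one] at h1
    conv_rhs => rw [h1]
    group
  obtain ⟨c, hc'⟩ := hc.exists_generator
  -- a common nontrivial power
  obtain ⟨e, he1, he_h, he_τ⟩ : ∃ e : G, e ≠ 1 ∧ (∃ i : ℤ, h ^ i = e) ∧ ∃ j : ℤ, τ ^ j = e := by
    obtain ⟨k, hk⟩ := hP ⟨h, hhP⟩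
    obtain ⟨l, hl⟩ := hP ⟨τ, hτ⟩
    obtain ⟨a, -, hah⟩ := (Nat.dvd_prime_pow Fact.out).1 (orderOf_dvd_of_pow_eq_one (congrArg Subtype.val hk : h ^ r ^ k = 1))
    obtain ⟨b, -, hbτ⟩ := (Nat.dvd_prime_pow Fact.out).1 (orderOf_dvd_of_pow_eq_one (congrArg Subtype.val hl : τ ^ r ^ l = 1))
    have key : ∀ x ∈ P, x ≠ 1 → r ∣ orderOf x → ∃ i : ℤ, orderOf (x ^ i) = r := by
      intro x _ _ hd
      refine ⟨((orderOf x / r : ℕ) : ℤ), ?_⟩
      rw [zpow_natCast, orderOf_pow' _ (by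
        have := orderOf_pos x
        have h2 := (Fact.out : r.Prime).pos
        exact (Nat.div_pos (Nat.le_of_dvd this hd) h2).ne'),
        Nat.gcd_eq_right (Nat.div_dvd_of_dvd hd), Nat.div_div_self hd (orderOf_pos x).ne']
    have hrh : r ∣ orderOf h := by
      rw [hah]
      refine dvd_pow_self r ?_
      rintro rfl
      exact hh1 (orderOf_eq_one_iff.1 (by rw [hah, pow_zero]))
    have hrτ : r ∣ orderOf τ := by
      rw [hbτ]
      refine dvd_pow_self r ?_
      rintro rfl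
      exact hτ1 (orderOf_eq_one_iff.1 (by rw [hbτ, pow_zero]))
    obtain ⟨i, hi⟩ := key h hhP hh1 hrh
    obtain ⟨j, hj⟩ := key τ hτ hτ1 hrτ
    haveI := hc
    set x : P := ⟨h ^ i, zpow_mem hhP i⟩
    set y : P := ⟨τ ^ j, zpow_mem hτ j⟩
    have hy : orderOf y = r := by rw [← orderOf_coe]; exact hj
    have hx : x ^ r = 1 := by
      rw [show r = orderOf x by rw [← orderOf_coe]; exact hi.symm]
      exact pow_orderOf_eq_one x
    have hmem : x ∈ zpowers y := by
      classical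
      letI := Fintype.ofFinite P
      have hle := IsCyclic.card_pow_eq_one_le (α := P) (n := r) (Fact.out : r.Prime).pos
      have hsub : Finset.univ.filter (fun a : P => a ∈ zpowers y) ⊆ Finset.univ.filter (fun a : P => a ^ r = 1) := by
        intro a ha
        obtain ⟨m, rfl⟩ := mem_zpowers_iff.1 (Finset.mem_filter.1 ha).2
        simp only [Finset.mem_filter, Finset.mem_univ, true_and]
        rw [← zpow_natCast, ← zpow_mul, mul_comm, zpow_mul, zpow_natCast, ← hy, pow_orderOf_eq_one, one_zpow]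
      have hc' : (Finset.univ.filter (fun a : P => a ∈ zpowers y)).card = r := by
        rw [← Fintype.card_subtype, ← Nat.card_eq_fintype_card]
        exact (Nat.card_zpowers y).trans hy
      have heq := Finset.eq_of_subset_of_card_le hsub (hle.trans hc'.ge)
      have hxm : x ∈ Finset.univ.filter (fun a : P => a ^ r = 1) :=
        Finset.mem_filter.2 ⟨Finset.mem_univ _, hx⟩
      rw [← heq] at hxm
      exact (Finset.mem_filter.1 hxm).2
    obtain ⟨m, hm⟩ := mem_zpowers_iff.1 hmem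
    refine ⟨h ^ i, fun e1 => ?_, ⟨i, rfl⟩, ⟨j * m, ?_⟩⟩
    · rw [e1, orderOf_one] at hi; exact (Fact.out : r.Prime).ne_one hi.symm
    · rw [zpow_mul]; exact congrArg Subtype.val hm
  obtain ⟨i, rfl⟩ := he_h
  obtain ⟨j, hj⟩ := he_τ
  have h1 : z * h ^ i * z⁻¹ = h ^ i := by
    rw [← hj, ← conj_zpow, show z * τ * z⁻¹ = τ by rw [hfix, mul_inv_cancel_right]]
  have h2 : z * h ^ i * z⁻¹ = (h ^ i)⁻¹ := by rw [← conj_zpow, hinv, inv_zpow]
  rw [h1] at h2
  have hsq : (h ^ i) ^ 2 = 1 := by rw [pow_two]; nth_rw 2 [h2]; exact mul_inv_cancel _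
  have hd2 : orderOf (h ^ i) ∣ 2 := orderOf_dvd_of_pow_eq_one hsq
  obtain ⟨k, hk⟩ := hP ⟨h ^ i, zpow_mem hhP i⟩
  have hdr : orderOf (h ^ i) ∣ r ^ k := orderOf_dvd_of_pow_eq_one (congrArg Subtype.val hk)
  have hcop : Nat.Coprime 2 (r ^ k) :=
    Nat.Coprime.pow_right k ((Nat.coprime_primes Nat.prime_two Fact.out).2 (Ne.symm hr2))
  exact he1 (orderOf_eq_one_iff.1 (Nat.eq_one_of_dvd_coprimes hcop hd2 hdr))

/-- With a cyclic Sylow 2-subgroup in the centraliser of `τ`, the centraliser of `z` contains a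
Sylow `r`-subgroup. -/
theorem factorization_eq_of_cyclic_two {r : ℕ} (hr2 : r ≠ 2) [hr : Fact r.Prime]
    (hodd : ∀ P : Sylow r G, IsCyclic P) {z τ : G} (hz : orderOf z = 2) (hτ : ∃ k : ℕ, τ ^ r ^ k = 1)
    (hτ1 : τ ≠ 1) (hzt : z * τ = τ * z)
    (hS : ∀ T : Sylow 2 (centralizer ({τ} : Set G)), IsCyclic T) :
    (Nat.card (centralizer ({z} : Set G))).factorization r = (Nat.card G).factorization r := by
  haveI : Fact (Nat.Prime 2) := ⟨Nat.prime_two⟩
  set L := centralizer ({τ} : Set G) with hL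
  obtain ⟨T⟩ : Nonempty (Sylow 2 L) := inferInstance
  have hzL : z ∈ L := mem_centralizer_singleton_iff.2 hzt
  have h2 : 2 ∣ Nat.card L := by
    have := orderOf_dvd_natCard (⟨z, hzL⟩ : L)
    rwa [← orderOf_coe, hz] at this
  have hmin : (Nat.card L).minFac = 2 := (Nat.minFac_eq_two_iff _).2 h2
  set M := (MonoidHom.transferSylow T ((hS T).normalizer_le_centralizer hmin)).ker with hM
  have hM2 : ¬ 2 ∣ Nat.card M := MonoidHom.not_dvd_card_ker_transferSylow T _
  have hMidx : M.index = Nat.card (T : Subgroup L) :=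
    ((hS T).isComplement' hmin).symm.index_eq_card
  -- elements of odd order lie in `M`
  have hmemM : ∀ g : L, Odd (orderOf g) → g ∈ M := by
    intro g hg
    rw [hM, MonoidHom.mem_ker]
    obtain ⟨k, hk⟩ := T.2.exists_card_eq
    refine orderOf_eq_one_iff.1 (Nat.eq_one_of_dvd_coprimes (b := 2 ^ k) ?_ (orderOf_map_dvd _ g) ?_)
    · exact Nat.Coprime.pow_right _ (Nat.coprime_two_right.2 hg)
    · exact hk ▸ orderOf_dvd_natCard _
  obtain ⟨l, hl⟩ := hτ
  have hτL : τ ∈ L := mem_centralizer_singleton_iff.2 rfl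
  have hoddr : Odd r := hr.out.odd_of_ne_two hr2
  have hτM : (⟨τ, hτL⟩ : L) ∈ M := by
    refine hmemM _ ?_
    rw [← orderOf_coe]
    exact Odd.of_dvd_nat hoddr.pow (orderOf_dvd_of_pow_eq_one hl)
  -- a Sylow subgroup of `M` normalised by an involution
  obtain ⟨Q⟩ : Nonempty (Sylow r M) := inferInstance
  have hfr := Sylow.normalizer_sup_eq_top Q
  set N := normalizer (((Q : Subgroup M).map M.subtype : Subgroup L) : Set L) with hN
  obtain ⟨n, hn, m, hm, hnm⟩ : ∃ n ∈ N, ∃ m ∈ M, n * m = (⟨z, hzL⟩ : L) := by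
    have : (⟨z, hzL⟩ : L) ∈ ((N ⊔ M : Subgroup L) : Set L) := by
      rw [hN]; rw [show N ⊔ M = ⊤ from hfr]; exact mem_top _
    rw [mul_normal] at this
    exact this
  obtain ⟨a, o, ho, hao⟩ := Nat.exists_eq_pow_mul_and_not_dvd (orderOf_pos n).ne' 2 (by norm_num)
  set w := n ^ o with hw
  have hzz : (⟨z, hzL⟩ : L) * ⟨z, hzL⟩ = 1 := Subtype.ext (Basic.inv_sq_one hz)
  have hq : ((⟨z, hzL⟩ : L) : L ⧸ M) = (n : L ⧸ M) := by
    rw [← hnm, QuotientGroup.mk_mul, (QuotientGroup.eq_one_iff m).2 hm, mul_one]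
  have hwq : ((w : L) : L ⧸ M) = ((⟨z, hzL⟩ : L) : L ⧸ M) := by
    rw [hw, QuotientGroup.mk_pow, ← hq]
    obtain ⟨b, rfl⟩ : Odd o := Nat.odd_iff.2 (by omega)
    rw [pow_succ, pow_mul, ← QuotientGroup.mk_pow, pow_two, hzz, QuotientGroup.mk_one, one_pow, one_mul]
  have hwp : w ^ 2 ^ a = 1 := by
    rw [hw, ← pow_mul, mul_comm, ← hao, pow_orderOf_eq_one]
  have hw2 : w * w = 1 := by
    have hwM : w * w ∈ M := by
      rw [← QuotientGroup.eq_one_iff, QuotientGroup.mk_mul, hwq, ← QuotientGroup.mk_mul, hzz, QuotientGroup.mk_one]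
    refine orderOf_eq_one_iff.1 (Nat.eq_one_of_dvd_coprimes (a := 2 ^ a) (b := Nat.card M)
      (Nat.Coprime.pow_left _ ((Nat.prime_two.coprime_iff_not_dvd).2 hM2)) ?_ (M.orderOf_dvd_natCard hwM))
    exact orderOf_dvd_of_pow_eq_one (by rw [← pow_two, ← pow_mul, mul_comm, pow_mul, hwp, one_pow])
  have hzM : (⟨z, hzL⟩ : L) ∉ M := fun h => hM2 (by
    have := M.orderOf_dvd_natCard h
    rwa [← orderOf_coe, hz] at this)
  have hwne : w ≠ 1 := fun h => hzM (by
    rw [← QuotientGroup.eq_one_iff, ← hwq, h, QuotientGroup.mk_one])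
  have how : orderOf w = 2 := Basic.orderOf_two_iff.2 ⟨hw2, hwne⟩
  have hoz : orderOf (⟨z, hzL⟩ : L) = 2 := by rw [← orderOf_coe]; exact hz
  have hwz : Odd (orderOf (w * (⟨z, hzL⟩ : L))) := by
    refine Nat.odd_iff.2 (Nat.two_dvd_ne_zero.1 fun h => hM2 (h.trans ?_))
    refine M.orderOf_dvd_natCard ?_
    rw [← QuotientGroup.eq_one_iff, QuotientGroup.mk_mul, hwq, ← QuotientGroup.mk_mul, hzz, QuotientGroup.mk_one]
  obtain ⟨d, -, hd⟩ := Basic.exists_conj_of_odd how hoz hwz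
  -- the conjugate Sylow subgroup, as a subgroup of `G`
  have hwN : w ∈ N := pow_mem hn o
  set P : Subgroup G := ((Q : Subgroup M).map M.subtype).map ((L.subtype).comp (MulAut.conj d).toMonoidHom) with hP
  have hPp : IsPGroup r P := (Q.2.map _).map _
  have hPL : ∀ g ∈ P, g ∈ L := by
    rintro g ⟨x, -, rfl⟩
    exact SetLike.coe_mem _
  have hPn : ∀ g ∈ P, z * g * z⁻¹ ∈ P := by
    rintro g ⟨x, hx, rfl⟩
    refine ⟨w * x * w⁻¹, (mem_normalizer_iff.1 hwN x).1 hx, ?_⟩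
    have e : (MulAut.conj d) (w * x * w⁻¹) = (⟨z, hzL⟩ : L) * MulAut.conj d x * (⟨z, hzL⟩ : L)⁻¹ := by
      rw [← hd]; simp only [MulAut.conj_apply]; group
    show ((MulAut.conj d (w * x * w⁻¹) : L) : G) = _
    rw [e]
    rfl
  have hτQ : (⟨⟨τ, hτL⟩, hτM⟩ : M) ∈ (Q : Subgroup M) := by
    have hc : ∀ x : M, x * (⟨⟨τ, hτL⟩, hτM⟩ : M) = ⟨⟨τ, hτL⟩, hτM⟩ * x := fun x =>
      Subtype.ext (Subtype.ext (mem_centralizer_singleton_iff.1 x.1.2))
    obtain ⟨R, hR⟩ := (show IsPGroup r (zpowers (⟨⟨τ, hτL⟩, hτM⟩ : M)) by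
      obtain ⟨e, -, he⟩ := (Nat.dvd_prime_pow hr.out).1 (orderOf_dvd_of_pow_eq_one
        (Subtype.ext (Subtype.ext hl) : (⟨⟨τ, hτL⟩, hτM⟩ : M) ^ r ^ l = 1))
      exact IsPGroup.iff_card.2 ⟨e, (Nat.card_zpowers _).trans he⟩).exists_le_sylow
    obtain ⟨g, hg⟩ := MulAction.exists_smul_eq M R Q
    have hmem : MulAut.conj g (⟨⟨τ, hτL⟩, hτM⟩ : M) ∈ (Q : Subgroup M) := by
      rw [← hg, Sylow.coe_subgroup_smul, Subgroup.pointwise_smul_def]
      exact mem_map_of_mem _ (hR (mem_zpowers _))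
    rwa [MulAut.conj_apply, hc g, mul_inv_cancel_right] at hmem
  have hτP : τ ∈ P := by
    refine ⟨⟨τ, hτL⟩, ⟨⟨⟨τ, hτL⟩, hτM⟩, hτQ, rfl⟩, ?_⟩
    show ((d * (⟨τ, hτL⟩ : L) * d⁻¹ : L) : G) = τ
    push_cast
    rw [mem_centralizer_singleton_iff.1 d.2, mul_inv_cancel_right]
  -- `P` is a Sylow subgroup of `G`
  have hpc : Nat.card P = r ^ (Nat.card G).factorization r := by
    obtain ⟨R, hR⟩ := hPp.exists_le_sylow
    haveI := hodd R
    have hτR : τ ∈ (R : Subgroup G) := hR hτP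
    have hRL : (R : Subgroup G) ≤ L := fun g hg =>
      mem_centralizer_singleton_iff.2 (congrArg Subtype.val
        ((IsCyclic.isMulCommutative (α := ↥(R : Subgroup G))).is_comm.comm ⟨g, hg⟩ ⟨τ, hτR⟩))
    have hRM : ((R : Subgroup G).subgroupOf L) ≤ M := fun g hg => hmemM g (by
      obtain ⟨k, hk⟩ := R.2 ⟨g, hg⟩
      rw [← orderOf_coe]
      exact Odd.of_dvd_nat hoddr.pow (orderOf_dvd_of_pow_eq_one (congrArg Subtype.val hk)))
    have hd1 : Nat.card (R : Subgroup G) ∣ Nat.card M :=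
      (Nat.card_congr (subgroupOfEquivOfLe hRL).toEquiv).symm.dvd.trans (card_dvd_of_le hRM)
    have hQ : Nat.card P = r ^ (Nat.card M).factorization r := by
      rw [hP, card_map_of_injective (show Function.Injective ((L.subtype).comp (MulAut.conj d).toMonoidHom) from fun a b e => (MulAut.conj d).injective (Subtype.ext e)),
        card_subtype, Q.card_eq_multiplicity]
    have hle : Nat.card P ∣ Nat.card (R : Subgroup G) := card_dvd_of_le hR
    rw [← R.card_eq_multiplicity]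
    refine Nat.dvd_antisymm hle ?_
    rw [hQ]
    have := (hr.out.pow_dvd_iff_le_factorization Nat.card_pos.ne').1 (R.card_eq_multiplicity ▸ hd1)
    rw [R.card_eq_multiplicity]
    exact pow_dvd_pow r this
  have hPC : P ≤ centralizer ({z} : Set G) := fun g hg => by
    haveI : IsCyclic P := by
      obtain ⟨R, hR⟩ := hPp.exists_le_sylow
      haveI := hodd R
      exact isCyclic_of_injective _ (inclusion_injective hR)
    refine mem_centralizer_singleton_iff.2 (commute_of_fix hr2 hPp ‹_› hz hPn hτP hτ1 hzt hg).symm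
  refine le_antisymm ?_ ((hr.out.pow_dvd_iff_le_factorization Nat.card_pos.ne').1
    (hpc ▸ card_dvd_of_le hPC))
  exact Finsupp.le_def.1 ((Nat.factorization_le_iff_dvd Nat.card_pos.ne' Nat.card_pos.ne').2
    (card_subgroup_dvd_card _)) r

end Cfsg.Agent.CycSD
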