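import Mathlib.GroupTheory.Sylow
import Mathlib.GroupTheory.SpecificGroups.Cyclic
import Cfsg.Prelude.Def_CaseTheorems

/-!
# The interface of the semidihedral part of the classification with cyclic odd Sylow subgroups
-/

set_option autoImplicit false

universe u

namespace Cfsg.Agent.CycSD

/-- No finite simple group has semidihedral Sylow 2-subgroups and all odd Sylow subgroups cyclic. -/
def NoSimpleCycSD : Prop :=
  ∀ (G : Type u) [Group G] [Finite G], IsSimpleGroup G → ∀ S : Sylow 2 G,
    Cfsg.IsQuasiDihedral (S : Subgroup G) →
      (∀ p : ℕ, p.Prime → p ≠ 2 → ∀ P : Sylow p G, IsCyclic P) → False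

end Cfsg.Agent.CycSD
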