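import Mathlib
import Cfsg.Agent.Lib.CycSD.CyclicCent

/-!
# Two general lemmas

* An element of 2-power order of the derived subgroup centralises a normal subgroup of odd order all of
  whose Sylow subgroups are cyclic.
* The Sylow 2-subgroups of a subgroup `L` are cyclic when those of `L ∩ C(z)` are, `z` an involution of `L`.
-/

set_option autoImplicit false
set_option linter.style.haveILetI false
set_option linter.unusedSectionVars false

namespace Cfsg.Agent.CycSD

open Subgroup
open scoped commutatorElement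

universe u

variable {G : Type u} [Group G] [Finite G]

/-- The derived subgroup centralises every cyclic normal subgroup. -/
theorem commutator_le_centralizer {C : Type u} [Group C] (N : Subgroup C) [N.Normal] [IsCyclic N] :
    commutator C ≤ centralizer (N : Set C) := by
  obtain ⟨c, hc⟩ := IsCyclic.exists_generator (α := N)
  rw [commutator_def, Subgroup.commutator_le]
  intro a _ b _
  rw [mem_centralizer_iff]
  intro n hn
  obtain ⟨i, hi⟩ := mem_zpowers_iff.1 (hc ⟨(a : C) * c * a⁻¹, ‹N.Normal›.conj_mem _ c.2 a⟩)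
  obtain ⟨j, hj⟩ := mem_zpowers_iff.1 (hc ⟨(b : C) * c * b⁻¹, ‹N.Normal›.conj_mem _ c.2 b⟩)
  have ha : a * (c : C) * a⁻¹ = (c : C) ^ i := (congrArg Subtype.val hi).symm
  have hb : b * (c : C) * b⁻¹ = (c : C) ^ j := (congrArg Subtype.val hj).symm
  obtain ⟨m, hm⟩ := mem_zpowers_iff.1 (hc ⟨n, hn⟩)
  have hn' : n = (c : C) ^ m := (congrArg Subtype.val hm).symm
  have hab : (a * b) * (c : C) * (a * b)⁻¹ = (b * a) * (c : C) * (b * a)⁻¹ := by
    calc (a * b) * (c : C) * (a * b)⁻¹ = a * (b * c * b⁻¹) * a⁻¹ := by group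
      _ = ((c : C) ^ i) ^ j := by rw [hb, ← conj_zpow, ha]
      _ = ((c : C) ^ j) ^ i := by rw [← zpow_mul, ← zpow_mul, mul_comm]
      _ = b * (a * c * a⁻¹) * b⁻¹ := by rw [ha, ← conj_zpow, hb]
      _ = (b * a) * (c : C) * (b * a)⁻¹ := by group
  have hfix : ⁅a, b⁆ * (c : C) * ⁅a, b⁆⁻¹ = c := by
    calc ⁅a, b⁆ * (c : C) * ⁅a, b⁆⁻¹
        = (a * b) * ((b * a)⁻¹ * c * (b * a)) * (a * b)⁻¹ := by rw [commutatorElement_def]; group
      _ = c := by
        have e2 : (a * b) * (b * a)⁻¹ * (c : C) * ((a * b) * (b * a)⁻¹)⁻¹ = c := by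
          obtain ⟨y, hy⟩ : ∃ y : C, y = (b * a)⁻¹ * c * (b * a) := ⟨_, rfl⟩
          have hyN : y ∈ N := by
            have := ‹N.Normal›.conj_mem _ c.2 (b * a)⁻¹
            rw [inv_inv] at this; rw [hy]; exact this
          obtain ⟨k, hk⟩ := mem_zpowers_iff.1 (hc ⟨y, hyN⟩)
          have hk' : (c : C) ^ k = y := congrArg Subtype.val hk
          have h1 : (b * a) * y * (b * a)⁻¹ = c := by rw [hy]; group
          calc (a * b) * (b * a)⁻¹ * (c : C) * ((a * b) * (b * a)⁻¹)⁻¹
              = (a * b) * y * (a * b)⁻¹ := by rw [hy]; group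
            _ = (b * a) * y * (b * a)⁻¹ := by rw [← hk', ← conj_zpow, ← conj_zpow, hab]
            _ = c := h1
        calc (a * b) * ((b * a)⁻¹ * c * (b * a)) * (a * b)⁻¹
            = (a * b) * (b * a)⁻¹ * (c : C) * ((a * b) * (b * a)⁻¹)⁻¹ := by group
          _ = c := e2
  rw [hn']
  have := congrArg (fun x => x ^ m) hfix
  simp only [conj_zpow] at this
  exact (mul_inv_eq_iff_eq_mul.1 this).symm

/-- An element of the derived subgroup of order prime to that of a normal subgroup with cyclic Sylow
subgroups centralises it. -/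
theorem commutator_centralizes {C : Type u} [Group C] [Finite C] (K : Subgroup C) [K.Normal]
    [IsZGroup K] {d : C} (hd : d ∈ commutator C) {m : ℕ} (hdm : d ^ m = 1) (hm : Nat.Coprime m (Nat.card K))
    {k : C} (hk : k ∈ K) : d * k = k * d := by
  set N : Subgroup C := (commutator K).map K.subtype with hN
  haveI : N.Normal := by
    rw [hN, commutator_def, map_commutator]
    rw [← MonoidHom.range_eq_map, range_subtype]
    infer_instance
  haveI : IsCyclic (commutator K) := IsZGroup.isCyclic_commutator K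
  haveI : IsCyclic N := isCyclic_of_surjective _ ((commutator K).equivMapOfInjective _ K.subtype_injective).surjective
  have hNK : N ≤ K := map_subtype_le _
  have hNfix : ∀ n ∈ N, d * n = n * d := fun n hn =>
    ((mem_centralizer_iff.1 (commutator_le_centralizer N hd)) n hn).symm
  -- the quotient
  set q := QuotientGroup.mk' N with hq
  haveI : (K.map q).Normal := ‹K.Normal›.map q (QuotientGroup.mk'_surjective N)
  haveI : IsCyclic (K.map q) := by
    haveI : IsCyclic (K ⧸ commutator K) := IsZGroup.isCyclic_abelianization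
    have hle : commutator K ≤ (q.subgroupMap K).ker := fun x hx => by
      refine MonoidHom.mem_ker.2 (Subtype.ext ?_)
      exact (QuotientGroup.eq_one_iff _).2 (mem_map_of_mem _ hx)
    refine isCyclic_of_surjective (QuotientGroup.lift (commutator K) (q.subgroupMap K) hle) ?_
    intro y
    obtain ⟨x, rfl⟩ := q.subgroupMap_surjective K y
    exact ⟨QuotientGroup.mk x, rfl⟩
  have hdq : q d ∈ commutator (C ⧸ N) := by
    have := mem_map_of_mem q hd
    rw [_root_.commutator_def, map_commutator] at this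
    exact commutator_mono le_top le_top this
  have hq1 := mem_centralizer_iff.1 (commutator_le_centralizer (K.map q) hdq) (q k) (mem_map_of_mem q hk)
  set n := k⁻¹ * (d * k * d⁻¹) with hn
  have hnN : n ∈ N := by
    rw [← QuotientGroup.eq_one_iff, hn]
    show q (k⁻¹ * (d * k * d⁻¹)) = 1
    rw [map_mul, map_mul, map_mul, map_inv, map_inv, ← hq1]
    group
  have key : ∀ i : ℕ, d ^ i * k * (d ^ i)⁻¹ = k * n ^ i := by
    intro i
    induction i with
    | zero => simp
    | succ i ih =>
      have hdn : d * n ^ i * d⁻¹ = n ^ i := by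
        rw [hNfix _ (pow_mem hnN i), mul_inv_cancel_right]
      calc d ^ (i + 1) * k * (d ^ (i + 1))⁻¹ = d * (d ^ i * k * (d ^ i)⁻¹) * d⁻¹ := by
            rw [pow_succ']; group
        _ = (d * k * d⁻¹) * (d * n ^ i * d⁻¹) := by rw [ih]; group
        _ = k * n * n ^ i := by rw [hdn, hn]; group
        _ = k * n ^ (i + 1) := by rw [mul_assoc, ← pow_succ']
  have h1 : n ^ m = 1 := by
    have := key m
    rw [hdm, one_mul, inv_one, mul_one] at this
    exact (mul_left_cancel (a := k) (by rw [mul_one]; exact this)).symm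
  have hn1 : n = 1 := by
    refine orderOf_eq_one_iff.1 (Nat.eq_one_of_dvd_coprimes (a := m) (b := Nat.card K)
      hm (orderOf_dvd_of_pow_eq_one h1)
      (K.orderOf_dvd_natCard (hNK hnN)))
  rw [hn, inv_mul_eq_one] at hn1
  exact mul_inv_eq_iff_eq_mul.1 hn1.symm

/-- An element of 2-power order of the derived subgroup centralises a normal subgroup of odd order
with cyclic Sylow subgroups. -/
theorem two_commutator_centralizes {C : Type u} [Group C] [Finite C] (K : Subgroup C) [K.Normal]
    (hK : Odd (Nat.card K)) [IsZGroup K] {d : C} (hd : d ∈ commutator C) (hd2 : ∃ a : ℕ, d ^ 2 ^ a = 1)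
    {k : C} (hk : k ∈ K) : d * k = k * d := by
  obtain ⟨a, ha⟩ := hd2
  exact commutator_centralizes K hd ha (Nat.Coprime.pow_left a (Nat.coprime_two_left.2 hK)) hk

/-- The Sylow 2-subgroups of `L` are cyclic if the 2-subgroups of `L` centralising `z` are. -/
theorem cyclic_two_of_inf_centralizer (L : Subgroup G) {z : G} (hz : orderOf z = 2) (hzL : z ∈ L)
    (hcyc : ∀ T : Subgroup G, IsPGroup 2 T → T ≤ L → (∀ g ∈ T, g * z = z * g) → IsCyclic T)
    (T : Sylow 2 L) : IsCyclic T := by
  haveI : Fact (Nat.Prime 2) := ⟨Nat.prime_two⟩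
  obtain ⟨T', hT'⟩ := (IsPGroup.iff_card.2 ⟨1, by
    rw [Nat.card_zpowers, pow_one, ← orderOf_coe]; exact hz⟩ :
      IsPGroup 2 (zpowers (⟨z, hzL⟩ : L))).exists_le_sylow
  suffices h : IsCyclic T' by
    exact isCyclic_of_surjective _ (T'.equiv T).surjective
  set U : Subgroup G := (T' : Subgroup L).map L.subtype with hU
  have hU2 : IsPGroup 2 U := T'.2.map _
  have hUL : U ≤ L := map_subtype_le _
  have hzU : z ∈ U := ⟨⟨z, hzL⟩, hT' (mem_zpowers _), rfl⟩
  suffices hUc : IsCyclic U by
    exact isCyclic_of_surjective _ ((T' : Subgroup L).equivMapOfInjective _ L.subtype_injective).symm.surjective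
  by_cases hall : ∀ g ∈ U, g * z = z * g
  · exact hcyc U hU2 hUL hall
  exfalso
  haveI : Group.IsNilpotent U := hU2.isNilpotent
  set W : Subgroup U := (centralizer ({z} : Set G)).subgroupOf U with hW
  have hWlt : W < ⊤ := by
    refine lt_top_iff_ne_top.2 fun h => hall fun g hg => ?_
    have : (⟨g, hg⟩ : U) ∈ W := h ▸ mem_top _
    exact mem_centralizer_singleton_iff.1 (mem_subgroupOf.1 this)
  obtain ⟨n, hn, hnW⟩ := SetLike.exists_of_lt (Group.normalizerCondition_of_isNilpotent (G := U) W hWlt)
  haveI : IsCyclic (W.map U.subtype) := by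
    refine hcyc _ ((hU2.to_subgroup W).map _) (fun g hg => hUL (map_subtype_le W hg)) ?_
    rintro g ⟨w, hw, rfl⟩
    exact mem_centralizer_singleton_iff.1 (mem_subgroupOf.1 hw)
  have hzW : (⟨z, hzU⟩ : U) ∈ W := mem_subgroupOf.2 (mem_centralizer_singleton_iff.2 rfl)
  have hc := (mem_normalizer_iff.1 hn ⟨z, hzU⟩).1 hzW
  classical
  letI := Fintype.ofFinite (W.map U.subtype)
  have hle := IsCyclic.card_pow_eq_one_le (α := W.map U.subtype) (n := 2) two_pos
  set x : W.map U.subtype := ⟨z, ⟨⟨z, hzU⟩, hzW, rfl⟩⟩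
  set y : W.map U.subtype := ⟨(n : G) * z * (n : G)⁻¹, ⟨_, hc, rfl⟩⟩
  have hx1 : x ≠ 1 := fun h => by
    have h' : z = 1 := congrArg Subtype.val h
    rw [h', orderOf_one] at hz; norm_num at hz
  have hy1 : y ≠ 1 := fun h => by
    have h' : (n : G) * z * (n : G)⁻¹ = 1 := congrArg Subtype.val h
    rw [mul_inv_eq_one, mul_eq_left] at h'
    rw [h', orderOf_one] at hz; norm_num at hz
  have hzz : z ^ 2 = 1 := hz ▸ pow_orderOf_eq_one z
  have hxy : x = y := by
    by_contra hne
    have hs : ({1, x, y} : Finset (W.map U.subtype)) ⊆ Finset.univ.filter fun a => a ^ 2 = 1 := by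
      intro a ha
      simp only [Finset.mem_insert, Finset.mem_singleton] at ha
      simp only [Finset.mem_filter, Finset.mem_univ, true_and]
      rcases ha with rfl | rfl | rfl
      · exact one_pow 2
      · exact Subtype.ext hzz
      · refine Subtype.ext ?_
        show ((n : G) * z * (n : G)⁻¹) ^ 2 = 1
        rw [conj_pow, hzz, mul_one, mul_inv_cancel]
    have h3 := (Finset.card_le_card hs).trans hle
    rw [Finset.card_insert_of_notMem (by simp [Ne.symm hx1, Ne.symm hy1]),
      Finset.card_insert_of_notMem (by simpa using hne), Finset.card_singleton] at h3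
    omega
  refine hnW (mem_subgroupOf.2 (mem_centralizer_singleton_iff.2 ?_))
  have h' : z = (n : G) * z * (n : G)⁻¹ := congrArg Subtype.val hxy
  exact (mul_inv_eq_iff_eq_mul.1 h'.symm)

end Cfsg.Agent.CycSD
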