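import Mathlib
import Cfsg.Agent.Lib.CycSD.XGroup
import Cfsg.Agent.Lib.GW.ConsCentMod
import Cfsg.Agent.Lib.Forms.DicksonPGL.Torus
import Cfsg.Agent.Lib.Classical.SL2Rep

/-!
# `PGL₂(p)`: automorphisms of `SL₂(p)`, centralisers of torus elements
-/

set_option autoImplicit false
set_option linter.style.haveILetI false
set_option linter.unusedSectionVars false

namespace Cfsg.Agent.CycSD.LocalPGL

open Subgroup Matrix
open scoped MatrixGroups
open Cfsg.Agent.AutPSL.Basic
open Cfsg.Agent.Forms Cfsg.Agent.Forms.DicksonPGL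

variable {p : ℕ} [hp : Fact p.Prime]

local notation "PP" => Matrix.ProjGenLinGroup (Fin 2) (ZMod p)
local notation "PG" => Matrix.ProjectiveSpecialLinearGroup (Fin 2) (ZMod p)

theorem odd_card (hp2 : p ≠ 2) : Odd (Fintype.card (ZMod p)) := by
  rw [ZMod.card]; exact hp.out.odd_of_ne_two hp2

theorem descend_injective (hp2 : p ≠ 2) :
    Function.Injective (descend : MulAut SL(2, ZMod p) →* MulAut PG) := by
  rw [← MonoidHom.ker_eq_bot_iff, eq_bot_iff]
  intro δ hδ
  have hz : ∀ s : SL(2, ZMod p), s⁻¹ * δ s ∈ center SL(2, ZMod p) := fun s => by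
    rw [← QuotientGroup.eq]
    have := DFunLike.congr_fun (MonoidHom.mem_ker.1 hδ) (QuotientGroup.mk s)
    rw [descend_mk] at this
    exact this.symm
  let f : SL(2, ZMod p) →* center SL(2, ZMod p) := MonoidHom.mk' (fun s => ⟨s⁻¹ * δ s, hz s⟩) fun a b => by
    refine Subtype.ext ?_
    show (a * b)⁻¹ * δ (a * b) = a⁻¹ * δ a * (b⁻¹ * δ b)
    calc (a * b)⁻¹ * δ (a * b) = b⁻¹ * ((a⁻¹ * δ a) * δ b) := by rw [map_mul]; group
      _ = b⁻¹ * (δ b * (a⁻¹ * δ a)) := by rw [mem_center_iff.1 (hz a) (δ b)]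
      _ = (b⁻¹ * δ b) * (a⁻¹ * δ a) := by group
      _ = a⁻¹ * δ a * (b⁻¹ * δ b) := (mem_center_iff.1 (hz b) _).symm
  have hsq : ∀ s, f s * f s = 1 := fun s => by
    obtain ⟨c, hc, hcs⟩ := Matrix.SpecialLinearGroup.mem_center_iff.1 (f s).2
    rw [Fintype.card_fin] at hc
    refine Subtype.ext (Subtype.ext ?_)
    show ((f s : SL(2, ZMod p)) : Matrix (Fin 2) (Fin 2) (ZMod p)) *
      ((f s : SL(2, ZMod p)) : Matrix (Fin 2) (Fin 2) (ZMod p)) = 1
    rw [← hcs, ← map_mul, ← pow_two, hc, map_one]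
  refine mem_bot.2 (MulEquiv.ext fun s => ?_)
  have := congrArg Subtype.val (GW.Cons.CentMod.hom_trivial (odd_card hp2) f hsq s)
  exact (inv_mul_eq_one.1 (show s⁻¹ * δ s = 1 from this)).symm

/-- `PGL₂(p)` is the automorphism group of `PSL₂(p)`. -/
theorem exists_equiv_aut : Nonempty (MulAut PG ≃* PP) := by
  have hsurj : Function.Surjective (gAut : GL (Fin 2) (ZMod p) →* MulAut PG) := fun β => by
    obtain ⟨g, σ, rfl⟩ := AutPSL.Out.exists_decomp_two β
    have hσ : σ = 1 := RingEquiv.ext fun a => by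
      rw [← ZMod.natCast_zmod_val a, map_natCast]
      exact (map_natCast (1 : ZMod p ≃+* ZMod p) _).symm
    exact ⟨g, by rw [hσ, map_one, mul_one]⟩
  have hker : (gAut : GL (Fin 2) (ZMod p) →* MulAut PG).ker = center (GL (Fin 2) (ZMod p)) := by
    ext g; rw [MonoidHom.mem_ker, AutPSL.Out.gAut_eq_one_iff le_rfl]
  exact ⟨((QuotientGroup.quotientMulEquivOfEq hker.symm).trans
    (QuotientGroup.quotientKerEquivOfSurjective _ hsurj)).symm⟩

/-- An injective homomorphism of the automorphism group of `SL₂(p)`. -/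
theorem exists_aut_hom (hp2 : p ≠ 2) :
    ∃ f : MulAut SL(2, ZMod p) →* PP, Function.Injective f := by
  obtain ⟨e⟩ := exists_equiv_aut (p := p)
  exact ⟨e.toMonoidHom.comp descend, e.injective.comp (descend_injective hp2)⟩

theorem index_L (hp2 : p ≠ 2) : (L (ZMod p)).index = 2 := by
  have h := (L (ZMod p)).index_mul_card
  rw [natCard_L, natCard_PP, ← DicksonCor.gcd_mul_natCard] at h
  have hg : Nat.gcd 2 (Fintype.card (ZMod p) - 1) = 2 := by
    refine Nat.gcd_eq_left ?_
    obtain ⟨k, hk⟩ := odd_card hp2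
    omega
  rw [hg] at h
  exact Nat.eq_of_mul_eq_mul_right Nat.card_pos h

theorem card_L (hp2 : p ≠ 2) : 2 * Nat.card (L (ZMod p)) = p * ((p - 1) * (p + 1)) := by
  have h := (L (ZMod p)).index_mul_card
  rw [index_L hp2, XGroup.card_PP] at h
  exact h

theorem sq_mem_L (hp2 : p ≠ 2) (g : PP) : g * g ∈ L (ZMod p) :=
  mul_self_mem_of_index_two (index_L hp2) g

theorem mem_L_of_odd (hp2 : p ≠ 2) {g : PP} (hg : Odd (orderOf g)) : g ∈ L (ZMod p) := by
  obtain ⟨m, hm⟩ := hg
  have e : (g ^ (m + 1)) * (g ^ (m + 1)) = g := by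
    rw [← pow_add, show m + 1 + (m + 1) = orderOf g + 1 by omega, pow_succ, pow_orderOf_eq_one, one_mul]
  exact e ▸ sq_mem_L hp2 _

theorem L_le_commutator (h5 : 4 ≤ p) : L (ZMod p) ≤ commutator PP := by
  rintro _ ⟨x, rfl⟩
  obtain ⟨X, rfl⟩ := KleinPSL.pi_surjective x
  have hX : X ∈ commutator SL(2, ZMod p) := by
    rw [Classical.SL2Rep.commutator_two_eq_top (F := ZMod p) (by rw [ZMod.card]; exact h5)]
    exact mem_top X
  let f : SL(2, ZMod p) →* PP := (Matrix.ProjectiveSpecialLinearGroup.toPGL).comp (KleinPSL.pi (ZMod p))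
  have := mem_map_of_mem f hX
  rw [commutator_def, map_commutator] at this
  exact commutator_mono le_top le_top this

section torus

variable (hp2 : p ≠ 2) {w : SL(2, ZMod p)} (hw : w * w = -1)

include hp2 hw

/-- The centraliser of an element of the torus of order at least three is the torus. -/
theorem cent_torus {x : PP} (hx : x ∈ torus w) (hx2 : x * x ≠ 1) :
    Subgroup.centralizer ({x} : Set PP) = torus w := by
  by_cases heven : 2 ∣ orderOf x
  · exact XGroup.cent_of_mem hp2 hw hx hx2 heven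
  refine le_antisymm (fun g hg => ?_) fun g hg =>
    Subgroup.mem_centralizer_singleton_iff.2 (XGroup.torus_comm hp2 hw hg hx)
  rw [Subgroup.mem_centralizer_singleton_iff] at hg
  have hxL : x ∈ L (ZMod p) := mem_L_of_odd hp2 (Nat.odd_iff.2 (Nat.two_dvd_ne_zero.1 heven))
  obtain ⟨x', hx'⟩ := hxL
  obtain ⟨X, rfl⟩ := KleinPSL.pi_surjective x'
  have hx1 : KleinPSL.pi (ZMod p) X ≠ 1 := fun h => hx2 (by rw [← hx', h, map_one, one_mul])
  have hord : orderOf (KleinPSL.pi (ZMod p) X) ≠ p := by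
    intro h
    have e : orderOf x = p := by
      rw [← hx', orderOf_injective _ Matrix.ProjectiveSpecialLinearGroup.toPGL_injective, h]
    have hd : p ∣ Nat.card (torus w) := e.symm.dvd.trans (Subgroup.orderOf_dvd_natCard _ hx)
    have hc := XGroup.card_torus hp2 hw
    rcases XGroup.sgnP_eq p with hs | hs <;> rw [hs] at hc <;>
    · have : (p : ℤ) ∣ 1 := by
        have h1 : (p : ℤ) ∣ (Nat.card (torus w) : ℤ) := Int.natCast_dvd_natCast.2 hd
        rw [hc] at h1
        first
          | simpa using (dvd_sub_right (dvd_refl (p : ℤ))).1 h1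
          | simpa using h1
      exact hp.out.ne_one (Nat.dvd_one.1 (by exact_mod_cast this))
  have hX : Semisimple X := semisimple_of_pi p X hx1 hord
  have hxX : x ∈ torus X := by rw [← hx', toPGL_pi]; exact self_mem_torus
  have key : ∀ a : PP, a * x = x * a → a ∈ torus X := by
    intro a ha
    have haN : a ∈ torusN X := by
      refine mem_torusN_of_conj hX ?_
      rw [← toPGL_pi, hx', ha, mul_inv_cancel_right]
      exact hxX
    by_contra hn
    obtain ⟨h, hh, rfl⟩ := haN
    rcases nx_cases hh with h1 | h1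
    · exact hn ⟨h, h1, rfl⟩
    · obtain ⟨c, hc, hcx⟩ := hxX
      have := inverts hX h1 hc
      rw [hcx, ha, mul_inv_cancel_right] at this
      exact hx2 (mul_eq_one_iff_eq_inv.2 this)
  have hz := key _ (XGroup.torus_comm hp2 hw (XGroup.zb_mem hp2 hw) hx)
  have hgz : g * XGroup.zb w = XGroup.zb w * g := by
    haveI := (torus_facts hX).1
    exact congrArg Subtype.val ((IsCyclic.commGroup (α := torus X)).mul_comm ⟨g, key g hg⟩ ⟨_, hz⟩)
  have hgN : g ∈ torusN w := by
    rw [← XGroup.cent_zb hp2 hw, Subgroup.mem_centralizer_singleton_iff]; exact hgz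
  by_contra hn
  have := (XGroup.out_torus hp2 hw hgN hn).2 x hx
  rw [hg, mul_inv_cancel_right] at this
  exact hx2 (mul_eq_one_iff_eq_inv.2 this)

end torus

end Cfsg.Agent.CycSD.LocalPGL
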