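import Mathlib
import Cfsg.Agent.Lib.CycSD.Data
import Cfsg.Agent.Lib.CycSD.LocalPGL
import Cfsg.Agent.Lib.CycSD.LocalCore
import Cfsg.Agent.S0268

/-!
# The centraliser of the central involution through its map onto `PGL₂(p)`

`Pre` is `Data` without the equality of the centralisers of the even rotations, which is proved here.
-/

set_option autoImplicit false
set_option linter.style.haveILetI false
set_option linter.unusedSectionVars false

namespace Cfsg.Agent.CycSD

open Subgroup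
open scoped MatrixGroups commutatorElement

universe u

variable (G : Type u) [Group G] [Finite G]

/-- The data without the fusion of the rotations. -/
structure Pre where
  p : ℕ
  hp : Fact p.Prime
  p_odd : p ≠ 2
  S : Sylow 2 G
  σ : G
  t : G
  N : ℕ
  N_pow : ∃ j, 3 ≤ j ∧ N = 2 ^ j
  σ_mem : σ ∈ (S : Subgroup G)
  t_mem : t ∈ (S : Subgroup G)
  order_σ : orderOf σ = N
  t_sq : t * t = 1
  t_notMem : t ∉ Subgroup.zpowers σ
  rel : t * σ * t⁻¹ = σ ^ (N / 2 - 1)
  card_S : Nat.card (S : Subgroup G) = 2 * N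
  K : Subgroup (Subgroup.centralizer ({σ ^ (N / 2)} : Set G))
  K_normal : K.Normal
  K_odd : ¬ 2 ∣ Nat.card K
  π : Subgroup.centralizer ({σ ^ (N / 2)} : Set G) →* Matrix.ProjGenLinGroup (Fin 2) (ZMod p)
  π_surj : Function.Surjective π
  π_ker : ∀ c : Subgroup.centralizer ({σ ^ (N / 2)} : Set G),
    π c = 1 ↔ c ∈ K ∨ c * ⟨σ ^ (N / 2), Subgroup.mem_centralizer_singleton_iff.2 rfl⟩ ∈ K

variable {G}

namespace Pre

variable (D : Pre G)

instance fact : Fact D.p.Prime := D.hp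

instance normalK : D.K.Normal := D.K_normal

/-- The central involution. -/
def z : G := D.σ ^ (D.N / 2)

/-- Its centraliser. -/
abbrev C : Subgroup G := Subgroup.centralizer ({D.σ ^ (D.N / 2)} : Set G)

/-- The central involution in its centraliser. -/
def zC : D.C := ⟨D.σ ^ (D.N / 2), Subgroup.mem_centralizer_singleton_iff.2 rfl⟩

theorem eight_le : 8 ≤ D.N := by
  obtain ⟨j, hj, h⟩ := D.N_pow
  rw [h]
  exact le_trans (le_of_eq (by norm_num)) (Nat.pow_le_pow_right two_pos hj)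

theorem exists_eighth : ∃ m, 1 ≤ m ∧ D.N = 8 * m := by
  obtain ⟨j, hj, h⟩ := D.N_pow
  refine ⟨2 ^ (j - 3), Nat.one_le_two_pow, ?_⟩
  rw [h, show (8 : ℕ) = 2 ^ 3 by norm_num, ← pow_add, show 3 + (j - 3) = j by omega]

theorem even_quarter : Even (D.N / 4) := by
  obtain ⟨m, -, h⟩ := D.exists_eighth
  exact ⟨m, by omega⟩

theorem sigma_pow_eq_one {i : ℕ} : D.σ ^ i = 1 ↔ D.N ∣ i := by
  rw [← orderOf_dvd_iff_pow_eq_one, D.order_σ]

theorem order_z : orderOf D.z = 2 := by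
  obtain ⟨m, hm, h⟩ := D.exists_eighth
  refine orderOf_eq_prime ?_ ?_
  · rw [z, ← pow_mul, sigma_pow_eq_one]; exact ⟨1, by omega⟩
  · rw [z, Ne, sigma_pow_eq_one]
    intro hd
    have := Nat.le_of_dvd (by omega) hd
    omega

theorem zC_val : (D.zC : G) = D.z := rfl

theorem order_zC : orderOf D.zC = 2 := by rw [← orderOf_coe]; exact D.order_z

theorem zC_central (c : D.C) : c * D.zC = D.zC * c :=
  Subtype.ext (Subgroup.mem_centralizer_singleton_iff.1 c.2)

theorem zC_mul_self : D.zC * D.zC = 1 := Involutions.Basic.inv_sq_one D.order_zC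

theorem sigma_mem : D.σ ∈ D.C :=
  Subgroup.mem_centralizer_singleton_iff.2 ((Commute.self_pow D.σ _).eq)

theorem conj_sigma_pow (i : ℕ) : D.t * D.σ ^ i * D.t⁻¹ = D.σ ^ ((D.N / 2 - 1) * i) := by
  rw [← conj_pow, D.rel, ← pow_mul]

theorem t_mem_C : D.t ∈ D.C := by
  refine Subgroup.mem_centralizer_singleton_iff.2 ?_
  refine mul_inv_eq_iff_eq_mul.1 ?_
  rw [D.conj_sigma_pow, pow_eq_pow_iff_modEq, D.order_σ]
  obtain ⟨m, hm, h⟩ := D.exists_eighth
  refine (Nat.modEq_iff_dvd' (Nat.le_mul_of_pos_left _ (by omega))).2 ⟨2 * m - 1, ?_⟩ |>.symm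
  rw [h, show 8 * m / 2 = 4 * m by omega, ← Nat.sub_one_mul, show 4 * m - 1 - 1 = 2 * (2 * m - 1) by omega]
  ring

/-- The rotation in the centraliser. -/
def sC : D.C := ⟨D.σ, D.sigma_mem⟩

/-- The reflection in the centraliser. -/
def tC : D.C := ⟨D.t, D.t_mem_C⟩

theorem order_sC : orderOf D.sC = D.N := by rw [← orderOf_coe]; exact D.order_σ

theorem two_elt_of_K {c : D.C} (hc : c ∈ D.K) (h2 : ∃ a : ℕ, c ^ 2 ^ a = 1) : c = 1 := by
  obtain ⟨a, ha⟩ := h2
  exact orderOf_eq_one_iff.1 (Nat.eq_one_of_dvd_coprimes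
    (Nat.Coprime.pow_left a ((Nat.prime_two.coprime_iff_not_dvd).2 D.K_odd))
    (orderOf_dvd_of_pow_eq_one ha) (D.K.orderOf_dvd_natCard hc))

theorem zC_notMem : D.zC ∉ D.K := fun h => by
  have := D.two_elt_of_K h ⟨1, by rw [pow_one, pow_two, D.zC_mul_self]⟩
  have ho := D.order_zC
  rw [this, orderOf_one] at ho
  norm_num at ho

theorem pi_zC : D.π D.zC = 1 :=
  (D.π_ker _).2 (Or.inr (by show D.zC * D.zC ∈ D.K; rw [D.zC_mul_self]; exact one_mem _))

theorem mem_ker {c : D.C} : D.π c = 1 ↔ c ∈ D.K ∨ c * D.zC ∈ D.K := D.π_ker c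

theorem card_ker : Nat.card D.π.ker = 2 * Nat.card D.K := by
  have e : Nat.card (D.K × Bool) = Nat.card D.π.ker := by
    refine Nat.card_eq_of_bijective (fun x => ⟨(x.1 : D.C) * bif x.2 then D.zC else 1, ?_⟩) ⟨?_, ?_⟩
    · rw [MonoidHom.mem_ker, map_mul, (D.mem_ker).2 (Or.inl x.1.2), one_mul]
      cases x.2 <;> simp [D.pi_zC]
    · rintro ⟨a, u⟩ ⟨b, v⟩ e
      have e' := congrArg Subtype.val e
      cases u <;> cases v <;> simp only [cond_true, cond_false, mul_one] at e'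
      · rw [Subtype.ext e']
      · exact absurd (by rw [show D.zC = (b : D.C)⁻¹ * a by rw [e']; group]; exact mul_mem (inv_mem b.2) a.2)
          D.zC_notMem
      · exact absurd (by rw [show D.zC = (a : D.C)⁻¹ * b by rw [← e']; group]; exact mul_mem (inv_mem a.2) b.2)
          D.zC_notMem
      · rw [Subtype.ext (mul_right_cancel e')]
    · rintro ⟨c, hc⟩
      rcases D.mem_ker.1 hc with h | h
      · exact ⟨(⟨c, h⟩, false), Subtype.ext (mul_one c)⟩
      · refine ⟨(⟨_, h⟩, true), Subtype.ext ?_⟩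
        show c * D.zC * D.zC = c
        rw [mul_assoc, D.zC_mul_self, mul_one]
  rw [← e, Nat.card_prod, Nat.card_eq_fintype_card (α := Bool), Fintype.card_bool, mul_comm]

theorem card_comap (H : Subgroup (Matrix.ProjGenLinGroup (Fin 2) (ZMod D.p))) :
    Nat.card (H.comap D.π) = 2 * Nat.card D.K * Nat.card H := by
  have h := Subgroup.index_comap_of_surjective H D.π_surj
  have h1 := (H.comap D.π).card_mul_index
  have h2 := D.π.ker.card_mul_index
  rw [index_ker, MonoidHom.range_eq_top.2 D.π_surj, card_top, D.card_ker] at h2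
  rw [h, ← h2, ← H.card_mul_index] at h1
  exact Nat.eq_of_mul_eq_mul_right (Nat.pos_of_ne_zero H.index_ne_zero_of_finite)
    (h1.trans (by ring))

theorem card_C : Nat.card D.C = 2 * Nat.card D.K * (D.p * ((D.p - 1) * (D.p + 1))) := by
  rw [← card_top (G := D.C), ← Subgroup.comap_top D.π, D.card_comap, card_top, XGroup.card_PP]

theorem order_pi_sC : orderOf (D.π D.sC) = D.N / 2 := by
  obtain ⟨m, hm, h⟩ := D.exists_eighth
  refine Nat.dvd_antisymm (orderOf_dvd_of_pow_eq_one ?_) ?_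
  · rw [← map_pow]
    exact D.pi_zC
  have hw : D.π (D.sC ^ orderOf (D.π D.sC)) = 1 := by rw [map_pow, pow_orderOf_eq_one]
  set i := orderOf (D.π D.sC)
  have hp2 : ∀ a : ℕ, ∃ k : ℕ, (D.sC ^ a) ^ 2 ^ k = 1 := fun a => by
    obtain ⟨j, -, hj⟩ := D.N_pow
    exact ⟨j, by rw [← pow_mul, ← orderOf_dvd_iff_pow_eq_one, D.order_sC, hj]; exact Dvd.intro_left _ rfl⟩
  rcases D.mem_ker.1 hw with h' | h'
  · have := D.two_elt_of_K h' (hp2 i)
    rw [← orderOf_dvd_iff_pow_eq_one, D.order_sC] at this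
    exact (Nat.div_dvd_of_dvd ⟨4 * m, by omega⟩).trans this
  · have e : D.sC ^ i * D.zC = D.sC ^ (i + D.N / 2) := by rw [pow_add]; rfl
    rw [e] at h'
    have := D.two_elt_of_K h' (hp2 _)
    rw [← orderOf_dvd_iff_pow_eq_one, D.order_sC] at this
    exact (Nat.dvd_add_left dvd_rfl).1 ((Nat.div_dvd_of_dvd ⟨4 * m, by omega⟩).trans this)

theorem sC_pow_N : D.sC ^ D.N = 1 := orderOf_dvd_iff_pow_eq_one.1 (dvd_of_eq D.order_sC)

theorem pi_sC_pow : D.π D.sC ^ (D.N / 2) = 1 := orderOf_dvd_iff_pow_eq_one.1 (dvd_of_eq D.order_pi_sC)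

theorem conj_pi : D.π D.tC * D.π D.sC * (D.π D.tC)⁻¹ = (D.π D.sC)⁻¹ := by
  have e : D.tC * D.sC * D.tC⁻¹ = D.sC ^ (D.N / 2 - 1) := Subtype.ext (by
    simpa [sC, tC] using D.rel)
  rw [← map_inv, ← map_mul, ← map_mul, e, map_pow, eq_inv_iff_mul_eq_one, ← pow_succ]
  obtain ⟨m, hm, h⟩ := D.exists_eighth
  rw [show D.N / 2 - 1 + 1 = D.N / 2 by omega, D.pi_sC_pow]

/-- The quotient element of order two of the rotations lies in `PSL₂`. -/
theorem exists_w : ∃ w : SL(2, ZMod D.p), w * w = -1 ∧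
    D.π D.sC ^ (D.N / 4) = XGroup.zb w ∧ D.π D.sC ∈ Forms.DicksonPGL.torus w ∧
    D.π D.tC ∈ Forms.DicksonPGL.torusN w ∧ D.π D.tC ∉ Forms.DicksonPGL.torus w := by
  obtain ⟨m, hm, h⟩ := D.exists_eighth
  set s := D.π D.sC with hs
  set s0 := s ^ (D.N / 4) with hs0
  have hL : s0 ∈ Forms.DicksonPGL.L (ZMod D.p) := by
    rw [hs0, show D.N / 4 = m + m by omega, pow_add]
    exact LocalPGL.sq_mem_L D.p_odd _
  obtain ⟨x, hx⟩ := hL
  obtain ⟨X, rfl⟩ := Forms.KleinPSL.pi_surjective x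
  have hs2 : s0 * s0 = 1 := by
    rw [hs0, ← pow_add, show D.N / 4 + D.N / 4 = D.N / 2 by omega, hs, D.pi_sC_pow]
  have hs1 : s0 ≠ 1 := by
    rw [hs0]
    refine pow_ne_one_of_lt_orderOf (by omega) ?_
    rw [hs, D.order_pi_sC]; omega
  have hXne : Forms.KleinPSL.pi (ZMod D.p) X ≠ 1 := fun e => hs1 (by rw [← hx, e, map_one])
  have hXX : Forms.KleinPSL.pi (ZMod D.p) (X * X) = 1 := by
    refine Matrix.ProjectiveSpecialLinearGroup.toPGL_injective ?_
    rw [map_mul, map_mul, hx, hs2, map_one]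
  have hw : X * X = -1 := by
    rcases Forms.KleinPSL.pi_eq_one.1 hXX with h1 | h1
    · exfalso
      rcases eq_or_ne X 1 with rfl | hX1
      · exact hXne (map_one _)
      · have := S0268.result (LocalPGL.odd_card D.p_odd) X hX1 h1
        exact hXne (Forms.KleinPSL.pi_eq_one.2 (Or.inr (Subtype.ext (by
          rw [this, Matrix.SpecialLinearGroup.coe_neg, Matrix.SpecialLinearGroup.coe_one]))))
    · exact h1
  have hz : s ^ (D.N / 4) = XGroup.zb X := by rw [← hs0, ← hx]; rfl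
  have hne2 : s * s ≠ 1 := by
    rw [← pow_two]
    refine pow_ne_one_of_lt_orderOf two_ne_zero ?_
    rw [hs, D.order_pi_sC]; omega
  have hsN : s ∈ Forms.DicksonPGL.torusN X := by
    rw [← XGroup.cent_zb D.p_odd hw, Subgroup.mem_centralizer_singleton_iff, ← hz]
    exact (Commute.self_pow s _).eq
  have hsT : s ∈ Forms.DicksonPGL.torus X := by
    by_contra hn
    exact hne2 (XGroup.out_torus D.p_odd hw hsN hn).1
  refine ⟨X, hw, hz, hsT, ?_, fun ht => ?_⟩
  · rw [← XGroup.cent_zb D.p_odd hw, Subgroup.mem_centralizer_singleton_iff, ← hz]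
    refine mul_inv_eq_iff_eq_mul.1 ?_
    rw [← conj_pow, D.conj_pi, ← hs, inv_pow, inv_eq_iff_mul_eq_one, ← hs0, hs2]
  · have := D.conj_pi
    rw [XGroup.torus_comm D.p_odd hw ht hsT, mul_inv_cancel_right] at this
    exact hne2 (mul_eq_one_iff_eq_inv.2 this)

theorem exists_sigma_sq_commutator : D.sC * D.sC ∈ commutator D.C := by
  obtain ⟨m, hm, h⟩ := D.exists_eighth
  have e : ⁅D.tC, D.sC⁆ = (D.sC * D.sC) ^ (2 * m - 1) := by
    rw [commutatorElement_def]
    refine Subtype.ext ?_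
    show D.t * D.σ * D.t⁻¹ * D.σ⁻¹ = _
    rw [D.rel, SubgroupClass.coe_pow, Subgroup.coe_mul]
    show D.σ ^ (D.N / 2 - 1) * D.σ⁻¹ = (D.σ * D.σ) ^ (2 * m - 1)
    rw [← pow_two, ← pow_mul, mul_inv_eq_iff_eq_mul, ← pow_succ]
    congr 1
    omega
  have hmem : (D.sC * D.sC) ^ (2 * m - 1) ∈ commutator D.C :=
    e ▸ commutator_mem_commutator (mem_top _) (mem_top _)
  have ho : (orderOf (D.sC * D.sC)).Coprime (2 * m - 1) := by
    obtain ⟨j, -, hj⟩ := D.N_pow
    refine Nat.Coprime.coprime_dvd_left (k := 2 ^ j) ?_ (Nat.Coprime.pow_left j ?_)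
    · rw [← pow_two, orderOf_pow' _ two_ne_zero, D.order_sC, hj]; exact Nat.div_dvd_of_dvd (Nat.gcd_dvd_left _ _)
    · exact Nat.coprime_two_left.2 ⟨m - 1, by omega⟩
  obtain ⟨k, hk⟩ := exists_pow_eq_self_of_coprime (x := D.sC * D.sC) ho.symm
  rw [← hk]
  exact pow_mem hmem k

variable (hodd : ∀ r : ℕ, r.Prime → r ≠ 2 → ∀ P : Sylow r G, IsCyclic P)

include hodd

theorem zgroup (H : Subgroup D.C) (hH : ¬ 2 ∣ Nat.card H) : IsZGroup H := by
  refine ⟨fun r hr P => ?_⟩
  haveI := Fact.mk hr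
  by_cases h2 : r = 2
  · subst h2
    obtain ⟨k, hk⟩ := P.2.exists_card_eq
    rcases Nat.eq_zero_or_pos k with rfl | hk0
    · haveI : Subsingleton (P : Subgroup H) := (Nat.card_eq_one_iff_unique.1 (by rw [hk, pow_zero])).1
      infer_instance
    · exact absurd ((dvd_pow_self 2 hk0.ne').trans (hk ▸ (P : Subgroup H).card_subgroup_dvd_card)) hH
  obtain ⟨R, hR⟩ := ((P.2.map H.subtype).map D.C.subtype).exists_le_sylow
  haveI := hodd r hr h2 R
  set e1 := (P : Subgroup H).equivMapOfInjective _ H.subtype_injective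
  set e2 := ((P : Subgroup H).map H.subtype).equivMapOfInjective _ D.C.subtype_injective
  exact isCyclic_of_injective ((inclusion hR).comp (e2.toMonoidHom.comp e1.toMonoidHom))
    fun a b e => e1.injective (e2.injective (inclusion_injective hR e))

theorem sigma_sq_comm {k : D.C} (hk : k ∈ D.K) : D.sC * D.sC * k = k * (D.sC * D.sC) := by
  haveI := D.zgroup hodd D.K D.K_odd
  obtain ⟨j, -, hj⟩ := D.N_pow
  refine two_commutator_centralizes D.K (Nat.odd_iff.2 (Nat.two_dvd_ne_zero.1 D.K_odd))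
    D.exists_sigma_sq_commutator ⟨j, ?_⟩ hk
  rw [← pow_two, ← pow_mul, ← orderOf_dvd_iff_pow_eq_one, D.order_sC, hj]
  exact Dvd.intro_left _ rfl

/-- The preimage of the torus centralises the even rotations. -/
theorem comm_of_torus {w : SL(2, ZMod D.p)} (hw : w * w = -1) (hs : D.π D.sC ∈ Forms.DicksonPGL.torus w)
    {u : D.C} (hu : D.π u ∈ Forms.DicksonPGL.torus w) : u * (D.sC * D.sC) = D.sC * D.sC * u := by
  have hcom : D.π (u * D.sC * u⁻¹ * D.sC⁻¹) = 1 := by
    rw [map_mul, map_mul, map_mul, map_inv, map_inv, XGroup.torus_comm D.p_odd hw hu hs]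
    group
  set c := u * D.sC * u⁻¹ * D.sC⁻¹ with hc
  obtain ⟨k, hk, hkc⟩ : ∃ k ∈ D.K, u * (D.sC * D.sC) * u⁻¹ = k * (D.sC * D.sC) := by
    have e : u * (D.sC * D.sC) * u⁻¹ = c * (D.sC * c * D.sC⁻¹) * (D.sC * D.sC) := by rw [hc]; group
    rcases D.mem_ker.1 hcom with h | h
    · exact ⟨_, mul_mem h (D.K_normal.conj_mem _ h _), e⟩
    · refine ⟨_, mul_mem h (D.K_normal.conj_mem _ h D.sC), e.trans ?_⟩
      have hz := D.zC_central
      congr 1
      calc c * (D.sC * c * D.sC⁻¹)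
          = c * (D.sC * c * D.sC⁻¹) * (D.zC * D.zC) := by rw [D.zC_mul_self, mul_one]
        _ = c * D.zC * (D.sC * c * D.zC * D.sC⁻¹) := by
          rw [mul_assoc c, ← mul_assoc (D.sC * c * D.sC⁻¹), hz (D.sC * c * D.sC⁻¹), mul_assoc D.zC,
            ← mul_assoc c]
          congr 1
          rw [mul_assoc (D.sC * c) D.sC⁻¹, hz D.sC⁻¹]
          group
        _ = _ := by group
  have hord : (k * (D.sC * D.sC)) ^ (D.N / 2) = 1 := by
    rw [← hkc, conj_pow, ← pow_two, ← pow_mul, Nat.mul_div_cancel' (by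
      obtain ⟨m, -, h⟩ := D.exists_eighth; exact ⟨4 * m, by omega⟩), D.sC_pow_N]
    group
  have hk1 : k = 1 := by
    refine D.two_elt_of_K hk ?_
    obtain ⟨j, hj3, hj⟩ := D.N_pow
    refine ⟨j - 1, ?_⟩
    rw [show 2 ^ (j - 1) = D.N / 2 by
      rw [hj]; obtain ⟨i, rfl⟩ : ∃ i, j = i + 1 := ⟨j - 1, by omega⟩; rw [pow_succ]; simp]
    rw [(show Commute k (D.sC * D.sC) from (D.sigma_sq_comm hodd hk).symm).mul_pow, ← pow_two, ← pow_mul,
      Nat.mul_div_cancel' (by obtain ⟨m, -, h⟩ := D.exists_eighth; exact ⟨4 * m, by omega⟩), D.sC_pow_N,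
      mul_one] at hord
    exact hord
  rw [hk1, one_mul] at hkc
  exact mul_inv_eq_iff_eq_mul.1 hkc

/-- The centraliser of an even rotation of order at least four is the preimage of the torus. -/
theorem cent_rotation {w : SL(2, ZMod D.p)} (hw : w * w = -1)
    (hz : D.π D.sC ^ (D.N / 4) = XGroup.zb w) (hs : D.π D.sC ∈ Forms.DicksonPGL.torus w)
    {l : ℕ} (hl : Even l) (hl2 : ¬ D.N ∣ 2 * l) :
    Subgroup.centralizer ({D.σ ^ l} : Set G) = ((Forms.DicksonPGL.torus w).comap D.π).map D.C.subtype := by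
  obtain ⟨m, hm, hNm⟩ := D.exists_eighth
  obtain ⟨j, hj3, hj⟩ := D.N_pow
  obtain ⟨i, hil⟩ := hl
  have hlu : ∀ u : D.C, D.π u ∈ Forms.DicksonPGL.torus w → (u : G) * D.σ ^ l = D.σ ^ l * u := by
    intro u hu
    have := (show Commute u (D.sC * D.sC) from D.comm_of_torus hodd hw hs hu).pow_right i
    have e := congrArg Subtype.val this.eq
    simp only [Subgroup.coe_mul, SubgroupClass.coe_pow] at e
    rw [← pow_two, ← pow_mul, show 2 * i = l by omega] at e
    exact e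
  refine le_antisymm (fun g hg => ?_) ?_
  · rw [Subgroup.mem_centralizer_singleton_iff] at hg
    -- powers of `σ ^ l`
    obtain ⟨a, o, ho, hlo⟩ := Nat.exists_eq_pow_mul_and_not_dvd (show l ≠ 0 by rintro rfl; exact hl2 (by simp)) 2 (by norm_num)
    have haj : a + 1 < j := by
      by_contra hc
      refine hl2 ?_
      rw [hj, hlo, ← mul_assoc, ← pow_succ']
      exact (pow_dvd_pow 2 (show j ≤ a + 1 by omega)).mul_right o
    have hq : ∀ e : ℕ, e ≤ 2 → 1 ≤ e → D.σ ^ (2 ^ (j - e) * o) ∈ Subgroup.zpowers (D.σ ^ l) := by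
      intro e he he1
      refine Subgroup.mem_zpowers_iff.2 ⟨((2 ^ (j - e - a) : ℕ) : ℤ), ?_⟩
      rw [zpow_natCast, ← pow_mul, hlo, mul_right_comm, ← pow_add, show a + (j - e - a) = j - e by omega]
    have hodd' : o % 2 = 1 := Nat.two_dvd_ne_zero.1 ho
    have hzl : D.σ ^ (D.N / 2) ∈ Subgroup.zpowers (D.σ ^ l) := by
      convert hq 1 (by omega) le_rfl using 1
      rw [pow_eq_pow_iff_modEq, D.order_σ]
      have e : D.N / 2 = 2 ^ (j - 1) := by
        rw [hj]; obtain ⟨i, rfl⟩ : ∃ i, j = i + 1 := ⟨j - 1, by omega⟩; rw [pow_succ]; simp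
      have e2 : D.N = 2 ^ (j - 1) * 2 := by rw [hj, ← pow_succ, show j - 1 + 1 = j by omega]
      rw [e, e2]
      conv_lhs => rw [← mul_one (2 ^ (j - 1))]
      exact Nat.ModEq.mul_left' _ (show 1 ≡ o [MOD 2] from (by rw [Nat.ModEq, hodd']))
    obtain ⟨q, hq'⟩ := Subgroup.mem_zpowers_iff.1 hzl
    have hgC : g ∈ D.C := by
      refine Subgroup.mem_centralizer_singleton_iff.2 ?_
      rw [← hq']
      exact ((show Commute g (D.σ ^ l) from hg).zpow_right q).eq
    set gC : D.C := ⟨g, hgC⟩ with hgC'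
    refine ⟨gC, ?_, rfl⟩
    show D.π gC ∈ Forms.DicksonPGL.torus w
    have hgl : gC * D.sC ^ l = D.sC ^ l * gC := Subtype.ext (by simpa [sC, gC] using hg)
    have hquart : gC * D.sC ^ (2 ^ (j - 2) * o) = D.sC ^ (2 ^ (j - 2) * o) * gC := by
      obtain ⟨r, hr⟩ := Subgroup.mem_zpowers_iff.1 (hq 2 le_rfl (by omega))
      refine Subtype.ext ?_
      show g * D.σ ^ (2 ^ (j - 2) * o) = D.σ ^ (2 ^ (j - 2) * o) * g
      rw [← hr]
      exact ((show Commute g (D.σ ^ l) from hg).zpow_right r).eq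
    have hzb : D.π gC * XGroup.zb w = XGroup.zb w * D.π gC := by
      have e := congrArg D.π hquart
      have hN4 : D.N / 4 = 2 ^ (j - 2) := by
        rw [hj]; obtain ⟨i, rfl⟩ : ∃ i, j = i + 2 := ⟨j - 2, by omega⟩
        rw [pow_add]; simp
      have hpo : D.π (D.sC ^ (2 ^ (j - 2) * o)) = XGroup.zb w := by
        rw [map_pow, pow_mul, ← hN4, hz]
        obtain ⟨b, rfl⟩ : ∃ b, o = 2 * b + 1 := ⟨o / 2, by omega⟩
        rw [pow_succ, pow_mul, pow_two, XGroup.zb_sq D.p_odd hw, one_pow, one_mul]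
      rwa [map_mul, map_mul, hpo] at e
    by_contra hn
    have hgN : D.π gC ∈ Forms.DicksonPGL.torusN w := by
      rw [← XGroup.cent_zb D.p_odd hw, Subgroup.mem_centralizer_singleton_iff]; exact hzb
    have hinv := (XGroup.out_torus D.p_odd hw hgN hn).2 _ hs
    have hu : D.π (D.tC⁻¹ * gC) ∈ Forms.DicksonPGL.torus w := by
      have hsq : D.π D.sC * D.π D.sC ≠ 1 := by
        rw [← pow_two]
        refine pow_ne_one_of_lt_orderOf two_ne_zero ?_
        rw [D.order_pi_sC]; omega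
      rw [← LocalPGL.cent_torus D.p_odd hw hs hsq, Subgroup.mem_centralizer_singleton_iff]
      refine mul_inv_eq_iff_eq_mul.1 ?_
      rw [map_mul, map_inv, mul_inv_rev, inv_inv,
        show (D.π D.tC)⁻¹ * D.π gC * D.π D.sC * ((D.π gC)⁻¹ * D.π D.tC) =
          (D.π D.tC)⁻¹ * (D.π gC * D.π D.sC * (D.π gC)⁻¹) * D.π D.tC by group, hinv, ← D.conj_pi]
      group
    have hut := hlu _ hu
    have htl : D.t * D.σ ^ l = D.σ ^ l * D.t := by
      have e : ((D.tC⁻¹ * gC : D.C) : G) = D.t⁻¹ * g := rfl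
      rw [e] at hut
      calc D.t * D.σ ^ l = D.t * (D.σ ^ l * (D.t⁻¹ * g)) * g⁻¹ * D.t := by group
        _ = D.t * ((D.t⁻¹ * g) * D.σ ^ l) * g⁻¹ * D.t := by rw [hut]
        _ = g * D.σ ^ l * g⁻¹ * D.t := by group
        _ = D.σ ^ l * D.t := by rw [hg, mul_inv_cancel_right]
    refine hl2 ?_
    have e1 : D.σ ^ ((D.N / 2 - 1) * l) = D.σ ^ l := by
      rw [← D.conj_sigma_pow, htl, mul_inv_cancel_right]
    have e2 : D.σ ^ (l + l) = 1 := by
      rw [pow_add]
      nth_rw 1 [← e1]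
      rw [← pow_add, sigma_pow_eq_one]
      refine ⟨i, ?_⟩
      rw [hil, show (D.N / 2 - 1) * (i + i) + (i + i) = (D.N / 2 - 1 + 1) * (i + i) by ring,
        show D.N / 2 - 1 + 1 = D.N / 2 by omega, hNm, show 8 * m / 2 = 4 * m by omega]
      ring
    rw [two_mul]
    exact D.sigma_pow_eq_one.1 e2
  · rintro _ ⟨u, hu, rfl⟩
    exact Subgroup.mem_centralizer_singleton_iff.2 (hlu u hu)

include D in
/-- Completing to `Data`. -/
theorem exists_data : Nonempty (Data G) := by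
  obtain ⟨w, hw, hz, hs, -, -⟩ := D.exists_w
  have h2 : ¬ D.N ∣ 2 * 2 := fun h => by
    have := Nat.le_of_dvd (by norm_num) h
    have := D.eight_le
    omega
  exact ⟨{ p := D.p, hp := D.hp, p_odd := D.p_odd, S := D.S, σ := D.σ, t := D.t, N := D.N, N_pow := D.N_pow,
           σ_mem := D.σ_mem, t_mem := D.t_mem, order_σ := D.order_σ, t_sq := D.t_sq, t_notMem := D.t_notMem,
           rel := D.rel, card_S := D.card_S, K := D.K, K_normal := D.K_normal, K_odd := D.K_odd, π := D.π,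
           π_surj := D.π_surj, π_ker := D.π_ker,
           cent_even := fun l hl hl2 =>
             (D.cent_rotation hodd hw hz hs hl hl2).trans (D.cent_rotation hodd hw hz hs even_two h2).symm }⟩

end Pre

/-- Forgetting the fusion of the rotations. -/
def Data.toPre (D : Data G) : Pre G where
  p := D.p
  hp := D.hp
  p_odd := D.p_odd
  S := D.S
  σ := D.σ
  t := D.t
  N := D.N
  N_pow := D.N_pow
  σ_mem := D.σ_mem
  t_mem := D.t_mem
  order_σ := D.order_σ
  t_sq := D.t_sq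
  t_notMem := D.t_notMem
  rel := D.rel
  card_S := D.card_S
  K := D.K
  K_normal := D.K_normal
  K_odd := D.K_odd
  π := D.π
  π_surj := D.π_surj
  π_ker := D.π_ker

end Cfsg.Agent.CycSD
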