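import Mathlib
import Cfsg.Agent.Lib.CycSD.LocalPre

/-!
# The parts of the orders at the defining prime and at the primes of the torus

* `card_p`, `three_parts`, `torus_parts`.
-/

set_option autoImplicit false
set_option linter.style.haveILetI false
set_option linter.unusedSectionVars false

namespace Cfsg.Agent.CycSD

open Subgroup
open scoped MatrixGroups commutatorElement
open Cfsg.Agent.Forms Cfsg.Agent.Forms.DicksonPGL

universe u

/-- An element of the derived subgroup normalising a subgroup of prime order of a normal subgroup with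
cyclic Sylow subgroups centralises it. -/
theorem commutator_fix_prime {C : Type u} [Group C] [Finite C] (K : Subgroup C) [K.Normal] [IsZGroup K]
    {r : ℕ} [hr : Fact r.Prime] {d c : C} (hd : d ∈ commutator C) (hc : c ∈ K) (ho : orderOf c = r)
    (hn : d * c * d⁻¹ ∈ zpowers c) : d * c = c * d := by
  set N : Subgroup C := (commutator K).map K.subtype with hN
  haveI : N.Normal := by
    rw [hN, _root_.commutator_def, map_commutator]
    rw [← MonoidHom.range_eq_map, range_subtype]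
    infer_instance
  haveI : IsCyclic (commutator K) := IsZGroup.isCyclic_commutator K
  haveI : IsCyclic N :=
    isCyclic_of_surjective _ ((commutator K).equivMapOfInjective _ K.subtype_injective).surjective
  set q := QuotientGroup.mk' N with hq
  haveI : (K.map q).Normal := ‹K.Normal›.map q (QuotientGroup.mk'_surjective N)
  haveI : IsCyclic (K.map q) := by
    haveI : IsCyclic (K ⧸ commutator K) := IsZGroup.isCyclic_abelianization
    have hle : commutator K ≤ (q.subgroupMap K).ker := fun x hx =>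
      MonoidHom.mem_ker.2 (Subtype.ext ((QuotientGroup.eq_one_iff _).2 (mem_map_of_mem _ hx)))
    refine isCyclic_of_surjective (QuotientGroup.lift (commutator K) (q.subgroupMap K) hle) ?_
    intro y
    obtain ⟨x, rfl⟩ := q.subgroupMap_surjective K y
    exact ⟨QuotientGroup.mk x, rfl⟩
  have hdq : q d ∈ commutator (C ⧸ N) := by
    have := mem_map_of_mem q hd
    rw [_root_.commutator_def, map_commutator] at this
    exact commutator_mono le_top le_top this
  have hq1 := mem_centralizer_iff.1 (commutator_le_centralizer (K.map q) hdq) (q c) (mem_map_of_mem q hc)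
  set n := c⁻¹ * (d * c * d⁻¹) with hn'
  have hnN : n ∈ N := by
    rw [← QuotientGroup.eq_one_iff, hn']
    show q (c⁻¹ * (d * c * d⁻¹)) = 1
    rw [map_mul, map_mul, map_mul, map_inv, map_inv, ← hq1]
    group
  by_cases h1 : n = 1
  · rw [hn', inv_mul_eq_one] at h1
    exact mul_inv_eq_iff_eq_mul.1 h1.symm
  have hnc : n ∈ zpowers c := mul_mem (inv_mem (mem_zpowers c)) hn
  have hcN : c ∈ N := by
    have heq : zpowers n = zpowers c := by
      refine eq_of_le_of_card_ge (zpowers_le.2 hnc) ?_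
      rw [Nat.card_zpowers, Nat.card_zpowers, ho]
      obtain ⟨i, hi⟩ := hnc
      have hdvd : orderOf n ∣ r := by
        rw [← hi, ← ho]; exact orderOf_dvd_of_mem_zpowers (zpow_mem (mem_zpowers c) i)
      rcases (Nat.dvd_prime hr.out).1 hdvd with h | h
      · exact absurd (orderOf_eq_one_iff.1 h) h1
      · exact h.ge
    exact zpowers_le.2 hnN (heq ▸ mem_zpowers c)
  exact (mem_centralizer_iff.1 (commutator_le_centralizer N hd) c hcN).symm

namespace Pre

variable {G : Type u} [Group G] [Finite G] (D : Pre G)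
  (hodd : ∀ r : ℕ, r.Prime → r ≠ 2 → ∀ P : Sylow r G, IsCyclic P)

local notation "PP" => Matrix.ProjGenLinGroup (Fin 2) (ZMod D.p)

include hodd

theorem cyclic_sylow {r : ℕ} [hr : Fact r.Prime] (hr2 : r ≠ 2) {T : Subgroup D.C} (hT : IsPGroup r T) :
    IsCyclic T := by
  obtain ⟨R, hR⟩ := (hT.map D.C.subtype).exists_le_sylow
  haveI := hodd r hr.out hr2 R
  set e1 := T.equivMapOfInjective _ D.C.subtype_injective
  exact isCyclic_of_injective ((inclusion hR).comp e1.toMonoidHom)
    fun a b e => e1.injective (inclusion_injective hR e)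

/-- A prime at which the derived group of `PGL₂(p)` has a fusing element does not divide the core. -/
theorem not_dvd_K (h4 : 4 ≤ D.p) {r : ℕ} [hr : Fact r.Prime] (hr2 : r ≠ 2) {v g : PP}
    (hv : orderOf v = r) (hgL : g ∈ L (ZMod D.p)) {b : ℕ} (hconj : g * v * g⁻¹ = v ^ b)
    (hb : v ^ b ≠ v) : ¬ r ∣ Nat.card D.K := by
  intro hrK
  set M := commutator D.C with hM
  have hMmap : ∀ x ∈ L (ZMod D.p), ∃ m ∈ M, D.π m = x := by
    intro x hx
    have h2 : M.map D.π = commutator PP := by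
      rw [hM, _root_.commutator_def, map_commutator, ← MonoidHom.range_eq_map,
        MonoidHom.range_eq_top.2 D.π_surj]
      rfl
    have h3 := LocalPGL.L_le_commutator h4 hx
    rw [← h2] at h3
    exact mem_map.1 h3
  have hvL : v ∈ L (ZMod D.p) := LocalPGL.mem_L_of_odd D.p_odd (hv ▸ hr.out.odd_of_ne_two hr2)
  obtain ⟨g0, hg0, hg0'⟩ := hMmap g hgL
  obtain ⟨v0, hv0, hv0'⟩ := hMmap v hvL
  set X0 : Subgroup D.C := (zpowers v).comap D.π ⊓ M with hX0
  set π0 : X0 →* zpowers v := (D.π.comp X0.subtype).codRestrict (zpowers v) (fun x => x.2.1) with hπ0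
  have hπ0s : Function.Surjective π0 := by
    rintro ⟨x, hx⟩
    obtain ⟨i, rfl⟩ := mem_zpowers_iff.1 hx
    exact ⟨⟨v0 ^ i, show D.π (v0 ^ i) ∈ zpowers v by rw [map_zpow, hv0']; exact zpow_mem (mem_zpowers v) i, zpow_mem hv0 i⟩,
      Subtype.ext (by show D.π (v0 ^ i) = v ^ i; rw [map_zpow, hv0'])⟩
  obtain ⟨R⟩ : Nonempty (Sylow r X0) := inferInstance
  set Rv := R.mapSurjective hπ0s with hRv
  have hvR : (⟨v, mem_zpowers v⟩ : zpowers v) ∈ (Rv : Subgroup (zpowers v)) := by
    have hp : IsPGroup r (⊤ : Subgroup (zpowers v)) :=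
      IsPGroup.iff_card.2 ⟨1, by rw [card_top, Nat.card_zpowers, hv, pow_one]⟩
    rw [← Rv.is_maximal' hp le_top]
    exact mem_top _
  obtain ⟨a', ha', haπ⟩ := hvR
  have haπ' : D.π (a' : D.C) = v := congrArg Subtype.val haπ
  -- a Sylow subgroup of `C` meeting the core
  set RC : Subgroup D.C := (R : Subgroup X0).map X0.subtype with hRC
  obtain ⟨Q, hQ⟩ := (R.2.map X0.subtype).exists_le_sylow
  haveI hQc : IsCyclic (Q : Subgroup D.C) := D.cyclic_sylow hodd hr2 Q.2
  obtain ⟨⟨c, hcK⟩, hc⟩ := exists_prime_orderOf_dvd_card' r hrK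
  rw [orderOf_mk] at hc
  obtain ⟨Q', hQ'⟩ := (IsPGroup.iff_card.2 ⟨1, by rw [Nat.card_zpowers, hc, pow_one]⟩ :
    IsPGroup r (zpowers c)).exists_le_sylow
  obtain ⟨y, hy⟩ := MulAction.exists_smul_eq D.C Q' Q
  set c' := y * c * y⁻¹ with hc'
  have hc'K : c' ∈ D.K := D.K_normal.conj_mem _ hcK y
  have hc'Q : c' ∈ (Q : Subgroup D.C) := by
    rw [← hy]; exact ⟨c, hQ' (mem_zpowers c), rfl⟩
  have hc'o : orderOf c' = r := (MulEquiv.orderOf_eq (MulAut.conj y) c).trans hc
  have haQ : (a' : D.C) ∈ (Q : Subgroup D.C) := hQ ⟨a', ha', rfl⟩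
  have ha1 : (a' : D.C) ≠ 1 := fun e => by
    rw [e, map_one] at haπ'
    rw [← haπ', orderOf_one] at hv
    exact hr.out.ne_one hv.symm
  -- the element of order `r` of `Q` is a power of `a'`
  have hc'a : c' ∈ zpowers (a' : D.C) := by
    obtain ⟨k, hk⟩ := R.2 ⟨a', ha'⟩
    have hk' : (a' : D.C) ^ r ^ k = 1 := congrArg (fun e : (R : Subgroup X0) => ((e : X0) : D.C)) hk
    obtain ⟨e, -, he⟩ := (Nat.dvd_prime_pow hr.out).1 (orderOf_dvd_of_pow_eq_one hk')
    obtain ⟨e', rfl⟩ : ∃ e', e = e' + 1 := ⟨e - 1, by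
      rcases Nat.eq_zero_or_pos e with rfl | h
      · rw [pow_zero, orderOf_eq_one_iff] at he; exact absurd he ha1
      · omega⟩
    set x : (Q : Subgroup D.C) := ⟨(a' : D.C) ^ r ^ e', pow_mem haQ _⟩
    have hxo : orderOf x = r := by
      rw [← orderOf_coe]
      show orderOf ((a' : D.C) ^ r ^ e') = r
      rw [orderOf_pow_of_dvd (pow_ne_zero _ hr.out.ne_zero) (he ▸ pow_dvd_pow r (Nat.le_succ e')), he, pow_succ,
        Nat.mul_div_cancel_left _ (pow_pos hr.out.pos e')]
    set y' : (Q : Subgroup D.C) := ⟨c', hc'Q⟩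
    have hyo : y' ^ r = 1 := Subtype.ext (by
      show c' ^ r = 1
      exact orderOf_dvd_iff_pow_eq_one.1 (dvd_of_eq hc'o))
    classical
    letI := Fintype.ofFinite (Q : Subgroup D.C)
    have hle := IsCyclic.card_pow_eq_one_le (α := (Q : Subgroup D.C)) (n := r) hr.out.pos
    have hsub : Finset.univ.filter (fun a : (Q : Subgroup D.C) => a ∈ zpowers x) ⊆
        Finset.univ.filter (fun a : (Q : Subgroup D.C) => a ^ r = 1) := by
      intro a ha
      obtain ⟨i, rfl⟩ := mem_zpowers_iff.1 (Finset.mem_filter.1 ha).2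
      simp only [Finset.mem_filter, Finset.mem_univ, true_and]
      rw [← zpow_natCast, ← zpow_mul, mul_comm, zpow_mul, zpow_natCast,
        orderOf_dvd_iff_pow_eq_one.1 (dvd_of_eq hxo), one_zpow]
    have hcard : (Finset.univ.filter (fun a : (Q : Subgroup D.C) => a ∈ zpowers x)).card = r := by
      rw [← Fintype.card_subtype, ← Nat.card_eq_fintype_card]
      exact (Nat.card_zpowers x).trans hxo
    have heq := Finset.eq_of_subset_of_card_le hsub (hle.trans hcard.ge)
    have hm : y' ∈ Finset.univ.filter (fun a : (Q : Subgroup D.C) => a ^ r = 1) :=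
      Finset.mem_filter.2 ⟨Finset.mem_univ _, hyo⟩
    rw [← heq] at hm
    obtain ⟨i, hi⟩ := mem_zpowers_iff.1 (Finset.mem_filter.1 hm).2
    refine mem_zpowers_iff.2 ⟨(r ^ e' : ℕ) * i, ?_⟩
    rw [zpow_mul, zpow_natCast]
    exact congrArg Subtype.val hi
  -- an element of `M` normalising `R` over `g`
  have hg0n : ∀ x : D.C, x ∈ X0 → g0 * x * g0⁻¹ ∈ X0 := by
    rintro x ⟨hx, hxM⟩
    refine ⟨?_, M.mul_mem (M.mul_mem hg0 hxM) (M.inv_mem hg0)⟩
    show D.π (g0 * x * g0⁻¹) ∈ zpowers v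
    rw [map_mul, map_mul, map_inv, hg0']
    obtain ⟨i, hi⟩ := mem_zpowers_iff.1 hx
    rw [← hi, ← conj_zpow, hconj]
    exact zpow_mem (pow_mem (mem_zpowers v) b) i
  set R' : Subgroup D.C := RC.map (MulAut.conj g0).toMonoidHom with hR'
  have hR'X : R' ≤ X0 := by
    rintro _ ⟨x, ⟨x', -, rfl⟩, rfl⟩
    exact hg0n _ x'.2
  have hR'p : IsPGroup r (R'.subgroupOf X0) :=
    (((R.2.map X0.subtype).map _).comap_of_injective X0.subtype X0.subtype_injective)
  obtain ⟨P, hP⟩ := hR'p.exists_le_sylow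
  obtain ⟨x, hx⟩ := MulAction.exists_smul_eq X0 P R
  set gg : D.C := (x : D.C) * g0 with hgg
  have hggM : gg ∈ M := mul_mem x.2.2 hg0
  have hggR : ∀ e : D.C, e ∈ RC → gg * e * gg⁻¹ ∈ RC := by
    intro e he
    have hm : (⟨g0 * e * g0⁻¹, hR'X ⟨e, he, rfl⟩⟩ : X0) ∈ (P : Subgroup X0) :=
      hP (mem_subgroupOf.2 ⟨e, he, rfl⟩)
    refine ⟨x * ⟨g0 * e * g0⁻¹, hR'X ⟨e, he, rfl⟩⟩ * x⁻¹, ?_, ?_⟩
    · rw [← hx]; exact ⟨_, hm, rfl⟩
    · show (x : D.C) * (g0 * e * g0⁻¹) * (x : D.C)⁻¹ = _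
      rw [hgg]; group
  have hRC : IsCyclic RC := D.cyclic_sylow hodd hr2 (R.2.map X0.subtype)
  obtain ⟨⟨c0, hc0⟩, hgen⟩ := hRC.exists_generator
  obtain ⟨e, he⟩ := mem_zpowers_iff.1 (hgen ⟨_, hggR c0 hc0⟩)
  have he' : gg * c0 * gg⁻¹ = c0 ^ e := (congrArg Subtype.val he).symm
  have haRC : (a' : D.C) ∈ RC := ⟨a', ha', rfl⟩
  obtain ⟨i, hi⟩ := mem_zpowers_iff.1 (hgen ⟨_, haRC⟩)
  have hi' : (a' : D.C) = c0 ^ i := (congrArg Subtype.val hi).symm
  have hae : gg * (a' : D.C) * gg⁻¹ = (a' : D.C) ^ e := by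
    rw [hi', ← conj_zpow, he', ← zpow_mul, ← zpow_mul, mul_comm]
  obtain ⟨j, hj⟩ := mem_zpowers_iff.1 hc'a
  have hce : gg * c' * gg⁻¹ = c' ^ e := by
    rw [← hj, ← conj_zpow, hae, ← zpow_mul, ← zpow_mul, mul_comm]
  haveI : IsZGroup D.K := D.zgroup hodd D.K D.K_odd
  have hfix := commutator_fix_prime D.K hggM hc'K hc'o (hce ▸ zpow_mem (mem_zpowers c') e)
  rw [hfix, mul_inv_cancel_right] at hce
  have hdvd : (r : ℤ) ∣ e - 1 := by
    rw [← hc'o, orderOf_dvd_iff_zpow_eq_one, zpow_sub, ← hce, zpow_one, mul_inv_cancel]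
  have himg : D.π gg * v * (D.π gg)⁻¹ = v ^ e := by
    rw [← haπ', ← map_inv, ← map_mul, ← map_mul, hae, map_zpow]
  have hx' : D.π gg * v * (D.π gg)⁻¹ = v ^ b := by
    obtain ⟨k, hk⟩ := mem_zpowers_iff.1 x.2.1
    rw [hgg, map_mul, ← hk, hg0', mul_inv_rev,
      show v ^ k * g * v * (g⁻¹ * (v ^ k)⁻¹) = v ^ k * (g * v * g⁻¹) * (v ^ k)⁻¹ by group, hconj]
    group
  refine hb ?_
  obtain ⟨k, hk⟩ := hdvd
  rw [← hx', himg, show e = (r : ℤ) * k + 1 by omega, zpow_add, zpow_mul, zpow_natCast,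
    orderOf_dvd_iff_pow_eq_one.1 (dvd_of_eq hv), one_zpow, one_mul, zpow_one]

/-- The part at an odd prime with an element over `v` is that of the centraliser, given the shape of the
2-subgroups of the centraliser of `v`. -/
theorem factorization_eq {r : ℕ} [hr : Fact r.Prime] (hr2 : r ≠ 2) {v : PP} (hv : orderOf v = r)
    (hcyc : ∀ T : Subgroup D.C, IsPGroup 2 T → (∀ u ∈ T, D.π u * v = v * D.π u) → IsCyclic T) :
    (Nat.card D.C).factorization r = (Nat.card G).factorization r := by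
  obtain ⟨u, hu⟩ := D.π_surj v
  obtain ⟨a, s, hs, has⟩ := Nat.exists_eq_pow_mul_and_not_dvd (orderOf_pos u).ne' r hr.out.ne_one
  set τ := u ^ s with hτ
  have hτr : τ ^ r ^ a = 1 := by rw [hτ, ← pow_mul, mul_comm, ← has, pow_orderOf_eq_one]
  have hπτ : D.π τ = v ^ s := by rw [hτ, map_pow, hu]
  have hτ1 : (τ : G) ≠ 1 := fun e => by
    have e' : τ = 1 := Subtype.ext e
    rw [e', map_one, eq_comm, ← orderOf_dvd_iff_pow_eq_one, hv] at hπτ
    exact hs hπτ
  refine factorization_eq_of_cyclic_two hr2 (hodd r hr.out hr2) D.order_z ⟨a, ?_⟩ hτ1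
    (Subgroup.mem_centralizer_singleton_iff.1 τ.2).symm (fun T => ?_)
  · exact (SubgroupClass.coe_pow τ _).symm.trans (congrArg Subtype.val hτr)
  refine cyclic_two_of_inf_centralizer _ D.order_z (Subgroup.mem_centralizer_singleton_iff.2
    (Subgroup.mem_centralizer_singleton_iff.1 τ.2).symm) (fun T' hT' hT'L hT'z => ?_) T
  set TC : Subgroup D.C := T'.subgroupOf D.C with hTC
  have hle : T' ≤ D.C := fun g hg => Subgroup.mem_centralizer_singleton_iff.2 (hT'z g hg)
  haveI : IsCyclic TC := by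
    refine hcyc TC (hT'.comap_of_injective _ D.C.subtype_injective) fun u hu => ?_
    have h1 : Commute u τ := Subtype.ext (Subgroup.mem_centralizer_singleton_iff.1 (hT'L hu))
    have h2 : Commute (D.π u) (v ^ s) := hπτ ▸ h1.map D.π
    obtain ⟨k, hk⟩ := exists_pow_eq_self_of_coprime (x := v) (n := s) (by
      rw [hv]; exact ((hr.out.coprime_iff_not_dvd).2 hs).symm)
    rw [← hk]
    exact (h2.pow_right k).eq
  exact isCyclic_of_surjective _ (Subgroup.subgroupOfEquivOfLe hle).surjective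

theorem two_in_ker {T : Subgroup D.C} (hT : IsPGroup 2 T) {u : D.C} (hu : u ∈ T) (h : D.π u = 1) :
    u = 1 ∨ u = D.zC := by
  obtain ⟨a, ha⟩ := hT ⟨u, hu⟩
  have ha' : u ^ 2 ^ a = 1 := congrArg Subtype.val ha
  rcases D.mem_ker.1 h with hk | hk
  · exact Or.inl (D.two_elt_of_K hk ⟨a, ha'⟩)
  · refine Or.inr ?_
    have h2 : (u * D.zC) ^ 2 ^ (a + 1) = 1 := by
      rw [(show Commute u D.zC from D.zC_central u).mul_pow, pow_succ, pow_mul, ha', one_pow, one_mul,
        ← pow_succ, pow_succ', pow_mul, pow_two, D.zC_mul_self, one_pow]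
    have h3 := D.two_elt_of_K hk ⟨a + 1, h2⟩
    exact (eq_inv_of_mul_eq_one_left h3).trans (inv_eq_of_mul_eq_one_left D.zC_mul_self)

theorem cyclic_two_ker {T : Subgroup D.C} (hT : IsPGroup 2 T) (h : ∀ u ∈ T, D.π u = 1) : IsCyclic T := by
  have hle : T ≤ zpowers D.zC := fun u hu => by
    rcases D.two_in_ker hodd hT hu (h u hu) with rfl | rfl
    · exact one_mem _
    · exact mem_zpowers _
  exact isCyclic_of_injective _ (inclusion_injective hle)

theorem card_torus_two {w : SL(2, ZMod D.p)} {T : Subgroup D.C} (hT : IsPGroup 2 T) (hw : w * w = -1)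
    (hz : D.π D.sC ^ (D.N / 4) = XGroup.zb w) (hs : D.π D.sC ∈ torus w)
    (h : ∀ u ∈ T, D.π u ∈ torus w) : IsCyclic T := by
  haveI := XGroup.cyclic_torus D.p_odd hw
  set f : T →* torus w := (D.π.comp T.subtype).codRestrict (torus w) (fun u => h u u.2) with hf
  haveI : IsCyclic f.range := inferInstance
  obtain ⟨⟨_, u0, rfl⟩, hgen⟩ := IsCyclic.exists_generator (α := f.range)
  by_cases hu0 : u0 = 1
  · refine D.cyclic_two_ker hodd hT fun u hu => ?_
    obtain ⟨i, hi⟩ := mem_zpowers_iff.1 (hgen ⟨f ⟨u, hu⟩, ⟨u, hu⟩, rfl⟩)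
    have := congrArg (fun e : f.range => ((e : torus w) : PP)) hi
    simp only [hu0, map_one, SubgroupClass.coe_zpow, OneMemClass.coe_one, one_zpow] at this
    exact this.symm
  -- the only involution is the central one
  obtain ⟨a, ha⟩ := hT u0
  obtain ⟨e, -, he⟩ := (Nat.dvd_prime_pow Nat.prime_two).1 (orderOf_dvd_of_pow_eq_one ha)
  obtain ⟨e', rfl⟩ : ∃ e', e = e' + 1 := ⟨e - 1, by
    rcases Nat.eq_zero_or_pos e with rfl | h0
    · rw [pow_zero, orderOf_eq_one_iff] at he; exact absurd he hu0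
    · omega⟩
  set x : T := u0 ^ 2 ^ e' with hx
  have hxo : orderOf x = 2 := by
    rw [hx, orderOf_pow_of_dvd (by positivity) (he ▸ pow_dvd_pow 2 (Nat.le_succ e')), he, pow_succ,
      Nat.mul_div_cancel_left _ (pow_pos two_pos e')]
  have hzx : (x : D.C) = D.zC := by
    have hxx : (x : D.C) * x = 1 := congrArg Subtype.val (Involutions.Basic.inv_sq_one hxo)
    have hx1 : (x : D.C) ≠ 1 := fun e => Involutions.Basic.ne_one hxo (Subtype.ext e)
    rcases (XGroup.sq_eq_one_iff D.p_odd hw (h _ x.2)).1 (by rw [← map_mul, hxx, map_one]) with h1 | h1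
    · exact (D.two_in_ker hodd hT x.2 h1).resolve_left hx1
    · exfalso
      set s4 := D.sC ^ (D.N / 4) with hs4
      set c := (x : D.C) * s4⁻¹ with hc
      have hπc : D.π c = 1 := by rw [hc, map_mul, map_inv, hs4, map_pow, hz, h1, mul_inv_cancel]
      obtain ⟨m, hm, hNm⟩ := D.exists_eighth
      have hs44 : s4 * s4 = D.zC := by
        rw [hs4, ← pow_add, show D.N / 4 + D.N / 4 = D.N / 2 by omega]; rfl
      have hs4sq : s4 = (D.sC * D.sC) ^ m := by
        rw [hs4, ← pow_two, ← pow_mul]; congr 1; omega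
      have hcx : (x : D.C) * s4 = s4 * x := by
        rw [hs4sq]
        exact ((show Commute (x : D.C) (D.sC * D.sC) from D.comm_of_torus hodd hw hs (h _ x.2)).pow_right m).eq
      have hcs : Commute c s4 := by
        show c * s4 = s4 * c
        rw [hc, mul_assoc, inv_mul_cancel, mul_one, ← mul_assoc, ← hcx, mul_inv_cancel_right]
      have hc2 : c * c = D.zC := by
        have e1 : (x : D.C) = c * s4 := by rw [hc, mul_assoc, inv_mul_cancel, mul_one]
        have : c * c * (s4 * s4) = 1 := by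
          rw [← hxx, e1, Commute.mul_mul_mul_comm hcs.symm]
        rw [hs44] at this
        exact (eq_inv_of_mul_eq_one_left this).trans (inv_eq_of_mul_eq_one_left D.zC_mul_self)
      refine D.zC_notMem ?_
      rcases D.mem_ker.1 hπc with hk | hk
      · rw [← hc2]; exact mul_mem hk hk
      · have : c * D.zC * (c * D.zC) = D.zC := by
          rw [mul_assoc c, ← mul_assoc D.zC, ← D.zC_central c, mul_assoc c D.zC, D.zC_mul_self, mul_one, hc2]
        rw [← this]; exact mul_mem hk hk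
  have hall : ∀ u : T, u ∈ zpowers u0 := by
    intro u
    obtain ⟨i, hi⟩ := mem_zpowers_iff.1 (hgen ⟨f u, u, rfl⟩)
    have hi' : f (u0 ^ i) = f u := by rw [map_zpow]; exact congrArg Subtype.val hi
    have hk : D.π ((u * (u0 ^ i)⁻¹ : T) : D.C) = 1 := by
      have : f (u * (u0 ^ i)⁻¹) = 1 := by rw [map_mul, map_inv, hi', mul_inv_cancel]
      exact congrArg Subtype.val this
    rcases D.two_in_ker hodd hT (SetLike.coe_mem _) hk with h1 | h1
    · have : u = u0 ^ i := mul_inv_eq_one.1 (Subtype.ext h1)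
      rw [this]; exact zpow_mem (mem_zpowers u0) i
    · have : u * (u0 ^ i)⁻¹ = x := Subtype.ext (h1.trans hzx.symm)
      rw [mul_inv_eq_iff_eq_mul] at this
      rw [this]
      exact mul_mem (pow_mem (mem_zpowers u0) _) (zpow_mem (mem_zpowers u0) i)
  exact ⟨u0, fun u => mem_zpowers_iff.1 (hall u)⟩

omit hodd in
theorem card_C_factorization {r : ℕ} [hr : Fact r.Prime] (hr2 : r ≠ 2) :
    (Nat.card D.C).factorization r =
      (Nat.card D.K).factorization r + (D.p * ((D.p - 1) * (D.p + 1))).factorization r := by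
  have hp := D.hp.out.two_le
  have hne : D.p * ((D.p - 1) * (D.p + 1)) ≠ 0 :=
    Nat.mul_ne_zero (by omega) (Nat.mul_ne_zero (by omega) (by omega))
  rw [D.card_C, Nat.factorization_mul (Nat.mul_ne_zero two_ne_zero Nat.card_pos.ne') hne,
    Nat.factorization_mul two_ne_zero Nat.card_pos.ne', Finsupp.add_apply, Finsupp.add_apply,
    Nat.factorization_eq_zero_of_not_dvd (fun h => hr2 ((Nat.prime_dvd_prime_iff_eq hr.out Nat.prime_two).1 h)),
    zero_add]

omit hodd in
theorem card_PP_p : (D.p * ((D.p - 1) * (D.p + 1))).factorization D.p = 1 := by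
  have hp := D.hp.out
  have := hp.two_le
  have hpos : (D.p - 1) * (D.p + 1) ≠ 0 := Nat.mul_ne_zero (by omega) (by omega)
  have hnd : ¬ D.p ∣ (D.p - 1) * (D.p + 1) := fun h => by
    rcases (hp.dvd_mul).1 h with h | h
    · exact absurd (Nat.le_of_dvd (by omega) h) (by omega)
    · exact absurd (Nat.le_of_dvd one_pos ((Nat.dvd_add_right dvd_rfl).1 h)) (by omega)
  rw [Nat.factorization_mul hp.ne_zero hpos, Finsupp.add_apply, hp.factorization_self,
    Nat.factorization_eq_zero_of_not_dvd hnd, add_zero]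

theorem g_eq_c_at_p : (Nat.card D.C).factorization D.p = (Nat.card G).factorization D.p := by
  refine D.factorization_eq hodd D.p_odd XGroup.orderOf_uu fun T hT h => ?_
  refine D.cyclic_two_ker hodd hT fun u hu => ?_
  obtain ⟨a, ha⟩ := hT ⟨u, hu⟩
  have ha' : (D.π u) ^ 2 ^ a = 1 := by
    rw [← map_pow, show u ^ 2 ^ a = 1 from congrArg Subtype.val ha, map_one]
  refine orderOf_eq_one_iff.1 (Nat.eq_one_of_dvd_coprimes (a := 2 ^ a) (b := D.p) ?_
    (orderOf_dvd_of_pow_eq_one ha') ?_)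
  · exact Nat.Coprime.pow_left a ((Nat.coprime_primes Nat.prime_two D.hp.out).2 (Ne.symm D.p_odd))
  · exact (orderOf_dvd_of_mem_zpowers (XGroup.cent_uu D.p_odd (h u hu))).trans
      (dvd_of_eq (XGroup.orderOf_uu (p := D.p)))

theorem p_not_dvd_K (h5 : 5 ≤ D.p) : ¬ D.p ∣ Nat.card D.K := by
  have h2 : (2 : ZMod D.p) ≠ 0 := XGroup.two_ne_zero' D.p_odd
  set a : (ZMod D.p)ˣ := Units.mk0 2 h2 with ha
  set g : PP := Matrix.ProjGenLinGroup.mk (GL2.Borel.mkB a a⁻¹ 0) with hg
  refine D.not_dvd_K hodd (by omega) D.p_odd XGroup.orderOf_uu (g := g) ?_ (b := 4) ?_ ?_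
  · rw [hg, mk_mem_L]
    exact ⟨1, by rw [GL2.Borel.coe_mkB, Matrix.det_fin_two_of, mul_zero, sub_zero, ← Units.val_mul, mul_inv_cancel, Units.val_one, one_mul]⟩
  · rw [XGroup.uu_pow, hg, XGroup.uu, ← map_inv, ← map_mul, ← map_mul]
    congr 1
    rw [mul_inv_eq_iff_eq_mul]
    ext i j
    fin_cases i <;> fin_cases j <;> simp [Matrix.mul_apply, Fin.sum_univ_two, ha]
    field_simp; ring
  · intro h
    nth_rw 2 [← pow_one (XGroup.uu (p := D.p))] at h
    rw [pow_eq_pow_iff_modEq, XGroup.orderOf_uu] at h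
    have := Nat.le_of_dvd (by norm_num) ((Nat.modEq_iff_dvd' (by norm_num)).1 h.symm)
    omega

theorem g_eq_c_torus {w : SL(2, ZMod D.p)} (hw : w * w = -1)
    (hz : D.π D.sC ^ (D.N / 4) = XGroup.zb w) (hs : D.π D.sC ∈ torus w)
    {r : ℕ} [hr : Fact r.Prime] (hr2 : r ≠ 2) (hd : r ∣ Nat.card (torus w)) :
    (Nat.card D.C).factorization r = (Nat.card G).factorization r := by
  obtain ⟨⟨v, hv⟩, hvo⟩ := exists_prime_orderOf_dvd_card' r hd
  rw [orderOf_mk] at hvo
  refine D.factorization_eq hodd hr2 hvo fun T hT h => D.card_torus_two hodd hT hw hz hs fun u hu => ?_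
  have hv2 : v * v ≠ 1 := fun e => by
    have := orderOf_dvd_of_pow_eq_one (show v ^ 2 = 1 by rw [pow_two, e])
    rw [hvo] at this
    exact hr2 ((Nat.prime_dvd_prime_iff_eq hr.out Nat.prime_two).1 this)
  rw [← LocalPGL.cent_torus D.p_odd hw hv hv2, Subgroup.mem_centralizer_singleton_iff]
  exact h u hu

theorem torus_not_dvd_K (h4 : 4 ≤ D.p) {w : SL(2, ZMod D.p)} (hw : w * w = -1)
    (htN : D.π D.tC ∈ torusN w) (htT : D.π D.tC ∉ torus w)
    {r : ℕ} [hr : Fact r.Prime] (hr2 : r ≠ 2) (hd : r ∣ Nat.card (torus w)) :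
    ¬ r ∣ Nat.card D.K := by
  obtain ⟨⟨v, hv⟩, hvo⟩ := exists_prime_orderOf_dvd_card' r hd
  rw [orderOf_mk] at hvo
  obtain ⟨g, hgN, hgT, hgL⟩ : ∃ g : PP, g ∈ torusN w ∧ g ∉ torus w ∧ g ∈ L (ZMod D.p) := by
    by_cases hL : D.π D.tC ∈ L (ZMod D.p)
    · exact ⟨_, htN, htT, hL⟩
    have hex : ∃ x ∈ torus w, x ∉ L (ZMod D.p) := by
      by_contra hc
      push Not at hc
      have h := gcd_mul_torus_inf_L (XGroup.semisimple D.p_odd hw)
      rw [inf_eq_left.2 (show torus w ≤ L (ZMod D.p) from hc)] at h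
      have h1 : Nat.gcd 2 (Fintype.card (ZMod D.p) - 1) = 1 :=
        Nat.eq_of_mul_eq_mul_right Nat.card_pos (h.trans (one_mul _).symm)
      have h2 : Nat.gcd 2 (Fintype.card (ZMod D.p) - 1) = 2 := by
        refine Nat.gcd_eq_left ?_
        obtain ⟨k, hk⟩ := LocalPGL.odd_card D.p_odd
        omega
      omega
    obtain ⟨x, hx, hxL⟩ := hex
    refine ⟨D.π D.tC * x, mul_mem htN (torus_le hx), fun e => htT ?_, ?_⟩
    · have := mul_mem e (inv_mem hx)
      rwa [mul_inv_cancel_right] at this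
    · exact (mul_mem_iff_of_index_two (LocalPGL.index_L D.p_odd)).2 (by simp [hL, hxL])
  refine D.not_dvd_K hodd h4 hr2 hvo hgL (b := r - 1) ?_ ?_
  · rw [(XGroup.out_torus D.p_odd hw hgN hgT).2 v hv, inv_eq_iff_mul_eq_one, ← pow_succ',
      Nat.sub_add_cancel hr.out.one_le]
    exact orderOf_dvd_iff_pow_eq_one.1 (dvd_of_eq hvo)
  · intro h
    nth_rw 2 [← pow_one v] at h
    rw [pow_eq_pow_iff_modEq, hvo] at h
    have h3 : 3 ≤ r := by have := hr.out.two_le; omega
    have := Nat.le_of_dvd (by omega) ((Nat.modEq_iff_dvd' (by omega)).1 h.symm)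
    omega

/-- The centraliser of the square of the rotation. -/
theorem card_cent_sq {w : SL(2, ZMod D.p)} (hw : w * w = -1)
    (hz : D.π D.sC ^ (D.N / 4) = XGroup.zb w) (hs : D.π D.sC ∈ torus w) :
    Subgroup.centralizer ({D.σ ^ 2} : Set G) = ((torus w).comap D.π).map D.C.subtype ∧
      Nat.card (Subgroup.centralizer ({D.σ ^ 2} : Set G)) = 2 * Nat.card D.K * Nat.card (torus w) := by
  have h2 : ¬ D.N ∣ 2 * 2 := fun h => by
    have := Nat.le_of_dvd (by norm_num) h
    have := D.eight_le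
    omega
  have h := D.cent_rotation hodd hw hz hs even_two h2
  exact ⟨h, by rw [h, card_map_of_injective D.C.subtype_injective, D.card_comap]⟩

end Pre

namespace Data

variable {G : Type u} [Group G] [Finite G] (D : Data G)
  (hodd : ∀ r : ℕ, r.Prime → r ≠ 2 → ∀ P : Sylow r G, IsCyclic P)

theorem o_mul : D.o * D.N = Nat.card (Subgroup.centralizer ({D.σ ^ 2} : Set G)) := by
  refine Nat.div_mul_cancel ?_
  rw [← D.order_σ]
  refine Subgroup.orderOf_dvd_natCard _ (Subgroup.mem_centralizer_singleton_iff.2 ?_)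
  exact (Commute.self_pow D.σ 2).eq

theorem o_factorization {r : ℕ} [hr : Fact r.Prime] (hr2 : r ≠ 2) :
    (D.o).factorization r = (Nat.card (Subgroup.centralizer ({D.σ ^ 2} : Set G))).factorization r := by
  have h := D.o_mul
  have ho : D.o ≠ 0 := fun h0 => Nat.card_pos.ne' (by rw [← h, h0, zero_mul])
  obtain ⟨j, -, hj⟩ := D.N_pow
  have hN : ¬ r ∣ D.N := fun hd => hr2 ((Nat.prime_dvd_prime_iff_eq hr.out Nat.prime_two).1
    (hr.out.dvd_of_dvd_pow (hj ▸ hd)))
  have hN0 : D.N ≠ 0 := by rw [hj]; positivity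
  rw [← h, Nat.factorization_mul ho hN0, Finsupp.add_apply, Nat.factorization_eq_zero_of_not_dvd hN, add_zero]

include hodd

theorem card_p (h5 : 5 ≤ D.p) : (Nat.card G).factorization D.p = 1 := by
  haveI := D.hp
  have h := D.toPre.g_eq_c_at_p hodd
  rw [D.toPre.card_C_factorization D.toPre.p_odd, D.toPre.card_PP_p,
    Nat.factorization_eq_zero_of_not_dvd (D.toPre.p_not_dvd_K hodd h5)] at h
  exact h.symm

theorem three_parts (h3 : D.p = 3) :
    (Nat.card G).factorization 3 = (Nat.card (Subgroup.centralizer ({D.z} : Set G))).factorization 3 ∧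
      (D.o).factorization 3 < (Nat.card (Subgroup.centralizer ({D.z} : Set G))).factorization 3 := by
  haveI := D.hp
  haveI : Fact (Nat.Prime 3) := ⟨Nat.prime_three⟩
  have hg := D.toPre.g_eq_c_at_p hodd
  have hc := D.toPre.card_C_factorization (r := D.toPre.p) D.toPre.p_odd
  rw [D.toPre.card_PP_p] at hc
  rw [show D.toPre.p = 3 from h3] at hg hc
  refine ⟨hg.symm, ?_⟩
  obtain ⟨w, hw, hz, hs, -, -⟩ := D.toPre.exists_w
  have ho := (D.toPre.card_cent_sq hodd hw hz hs).2
  have ht : Nat.card (torus w) = 4 := by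
    have := XGroup.card_torus D.p_odd hw
    rw [show XGroup.sgnP D.p = -1 by rw [h3]; rfl, show (D.p : ℤ) = 3 by rw [h3]; rfl] at this
    have h' : ((Nat.card (torus w) : ℕ) : ℤ) = ((4 : ℕ) : ℤ) := this.trans (by norm_num)
    exact Int.ofNat_inj.1 h'
  rw [D.o_factorization (by norm_num), show Subgroup.centralizer ({D.σ ^ 2} : Set G) =
    Subgroup.centralizer ({D.toPre.σ ^ 2} : Set G) from rfl, ho, ht,
    Nat.factorization_mul (Nat.mul_ne_zero two_ne_zero Nat.card_pos.ne') (by norm_num),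
    Nat.factorization_mul two_ne_zero Nat.card_pos.ne', Finsupp.add_apply, Finsupp.add_apply,
    Nat.factorization_eq_zero_of_not_dvd (show ¬ 3 ∣ 2 by norm_num),
    Nat.factorization_eq_zero_of_not_dvd (show ¬ 3 ∣ 4 by norm_num), zero_add, add_zero]
  refine lt_of_lt_of_eq ?_ hc.symm
  exact Nat.lt_succ_self _

theorem torus_parts {r : ℕ} (hr : r.Prime) (hr2 : r ≠ 2) (hd : (r : ℤ) ∣ (D.p : ℤ) - XGroup.sgnP D.p) :
    0 < (Nat.card (Subgroup.centralizer ({D.z} : Set G))).factorization r ∧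
      (Nat.card G).factorization r = (Nat.card (Subgroup.centralizer ({D.z} : Set G))).factorization r ∧
      (D.o).factorization r = (Nat.card (Subgroup.centralizer ({D.z} : Set G))).factorization r ∧
      ¬ r ∣ D.ot := by
  haveI := D.hp
  haveI := Fact.mk hr
  have hp := D.hp.out.two_le
  have h4 : 4 ≤ D.p := by
    by_contra h
    have hp3 : D.p = 3 := by have := D.p_odd; omega
    rw [hp3, show XGroup.sgnP 3 = -1 from rfl] at hd
    norm_num at hd
    have h4 : r ∣ 2 ^ 2 := by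
      rw [← Int.natCast_dvd_natCast]; norm_num; exact hd
    exact hr2 ((Nat.prime_dvd_prime_iff_eq hr Nat.prime_two).1 (hr.dvd_of_dvd_pow h4))
  obtain ⟨w, hw, hz, hs, htN, htT⟩ := D.toPre.exists_w
  have hct := XGroup.card_torus D.p_odd hw
  have hdT : r ∣ Nat.card (torus w) := by
    rw [← Int.natCast_dvd_natCast]
    exact hct.symm ▸ hd
  have hrK := D.toPre.torus_not_dvd_K hodd h4 hw htN htT hr2 hdT
  have hC := D.toPre.card_C_factorization (r := r) hr2
  rw [Nat.factorization_eq_zero_of_not_dvd hrK, zero_add] at hC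
  have hPP : (D.p * ((D.p - 1) * (D.p + 1))).factorization r = (Nat.card (torus w)).factorization r := by
    have hrp : ¬ r ∣ D.p := fun h => by
      have hrp' := (Nat.prime_dvd_prime_iff_eq hr D.hp.out).1 h
      rcases XGroup.sgnP_eq D.p with hsg | hsg <;> rw [hsg, hrp'] at hd <;>
      · have h1 : (D.p : ℤ) ∣ 1 := by
          first
            | simpa using (dvd_sub_right (dvd_refl (D.p : ℤ))).1 hd
            | simpa using hd
        exact D.hp.out.ne_one (Nat.dvd_one.1 (by exact_mod_cast h1))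
    rw [Nat.factorization_mul (by omega) (Nat.mul_ne_zero (by omega) (by omega)),
      Nat.factorization_mul (by omega) (by omega), Finsupp.add_apply, Finsupp.add_apply,
      Nat.factorization_eq_zero_of_not_dvd hrp, zero_add]
    rcases XGroup.sgnP_eq D.p with hsg | hsg
    · have ht : Nat.card (torus w) = D.p - 1 := by
        have h := hct
        rw [hsg] at h
        have e : (Nat.card (torus w) : ℤ) = (D.p : ℤ) - 1 := h
        omega
      rw [ht, Nat.factorization_eq_zero_of_not_dvd (n := D.p + 1), add_zero]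
      intro h
      have h1 : r ∣ 2 := by
        have := Nat.dvd_sub h (ht ▸ hdT)
        rwa [show D.p + 1 - (D.p - 1) = 2 by omega] at this
      exact hr2 ((Nat.prime_dvd_prime_iff_eq hr Nat.prime_two).1 h1)
    · have ht : Nat.card (torus w) = D.p + 1 := by
        have h := hct
        rw [hsg] at h
        have e : (Nat.card (torus w) : ℤ) = (D.p : ℤ) - (-1) := h
        omega
      rw [ht, Nat.factorization_eq_zero_of_not_dvd (n := D.p - 1), zero_add]
      intro h
      have h1 : r ∣ 2 := by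
        have := Nat.dvd_sub (ht ▸ hdT) h
        rwa [show D.p + 1 - (D.p - 1) = 2 by omega] at this
      exact hr2 ((Nat.prime_dvd_prime_iff_eq hr Nat.prime_two).1 h1)
  obtain ⟨hcs, ho⟩ := D.toPre.card_cent_sq hodd hw hz hs
  refine ⟨?_, (D.toPre.g_eq_c_torus hodd hw hz hs hr2 hdT).symm, ?_, ?_⟩
  · show 0 < (Nat.card D.toPre.C).factorization r
    rw [hC, show D.toPre.p = D.p from rfl, hPP]
    exact hr.factorization_pos_of_dvd Nat.card_pos.ne' hdT
  · show _ = (Nat.card D.toPre.C).factorization r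
    rw [hC, show D.toPre.p = D.p from rfl, hPP, D.o_factorization hr2,
      show Subgroup.centralizer ({D.σ ^ 2} : Set G) = Subgroup.centralizer ({D.toPre.σ ^ 2} : Set G) from rfl,
      ho, Nat.factorization_mul (Nat.mul_ne_zero two_ne_zero Nat.card_pos.ne') Nat.card_pos.ne',
      Nat.factorization_mul two_ne_zero Nat.card_pos.ne', Finsupp.add_apply, Finsupp.add_apply,
      Nat.factorization_eq_zero_of_not_dvd (fun h => hr2 ((Nat.prime_dvd_prime_iff_eq hr Nat.prime_two).1 h)),
      Nat.factorization_eq_zero_of_not_dvd hrK, zero_add, zero_add]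
  · intro h
    have hd2 : r ∣ Nat.card (Subgroup.centralizer ({D.σ ^ 2} : Set G) ⊓
        Subgroup.centralizer ({D.t} : Set G) : Subgroup G) :=
      dvd_trans h (Nat.div_dvd_of_dvd (by
        refine dvd_trans (dvd_of_eq D.toPre.order_z.symm) (Subgroup.orderOf_dvd_natCard _ ?_)
        exact ⟨Subgroup.mem_centralizer_singleton_iff.2 ((Commute.pow_pow_self D.σ _ _).eq),
          Subgroup.mem_centralizer_singleton_iff.2
            (Subgroup.mem_centralizer_singleton_iff.1 D.toPre.t_mem_C).symm⟩))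
    obtain ⟨⟨g, hg2, hgt⟩, hgo0⟩ := exists_prime_orderOf_dvd_card' r hd2
    have hgo : orderOf g = r := by rw [← hgo0, ← orderOf_coe]
    rw [show Subgroup.centralizer ({D.σ ^ 2} : Set G) = _ from hcs] at hg2
    obtain ⟨u, hu, rfl⟩ := hg2
    have hut : u * D.toPre.tC = D.toPre.tC * u := Subtype.ext (Subgroup.mem_centralizer_singleton_iff.1 hgt)
    have hinv := (XGroup.out_torus D.p_odd hw htN htT).2 _ hu
    have e1 : D.toPre.π D.toPre.tC * D.toPre.π u * (D.toPre.π D.toPre.tC)⁻¹ = D.toPre.π u :=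
      mul_inv_eq_iff_eq_mul.2 (((map_mul D.toPre.π _ _).symm.trans (congrArg D.toPre.π hut.symm)).trans
        (map_mul D.toPre.π _ _))
    have hinv' : D.toPre.π u * D.toPre.π u = 1 := mul_eq_one_iff_eq_inv.2 (e1.symm.trans hinv)
    rw [← map_mul] at hinv'
    rw [Subgroup.coe_subtype, orderOf_coe] at hgo
    have hru : u ^ r = 1 := orderOf_dvd_iff_pow_eq_one.1 (dvd_of_eq hgo)
    obtain ⟨k, hk⟩ := hr.odd_of_ne_two hr2
    have hπu : D.toPre.π u = 1 := by
      have e : D.toPre.π (u ^ r) = 1 := by rw [hru, map_one]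
      rw [hk, map_pow, pow_succ, pow_mul, pow_two, ← map_mul, hinv', one_pow, one_mul] at e
      exact e
    rcases D.toPre.mem_ker.1 hπu with hK | hK
    · exact hrK (hgo ▸ Subgroup.orderOf_dvd_natCard _ hK)
    · have hpow : (u * D.toPre.zC) ^ r ∈ D.toPre.K := pow_mem hK r
      rw [(show Commute u D.toPre.zC from D.toPre.zC_central u).mul_pow, hru, one_mul, hk, pow_succ, pow_mul,
        pow_two, D.toPre.zC_mul_self, one_pow, one_mul] at hpow
      exact D.toPre.zC_notMem hpow

end Data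

end Cfsg.Agent.CycSD
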