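import Mathlib
import Cfsg.Agent.Lib.CycSD.LocalParts

/-!
# Tools for the case `p = 5`

* `exists_fixed_sylow`: a 2-element normalises a Sylow subgroup of a normal subgroup of odd order.
* `central_of_commutator`: a commutator of prime order `r` in a normal subgroup of odd order with cyclic
  Sylow subgroups is central there when `r - 1` is prime to its order.
* `inv_fixed_part`: the fixed points of a 2-element carry the full part of each of their primes.
-/

set_option autoImplicit false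
set_option linter.style.haveILetI false
set_option linter.unusedSectionVars false

namespace Cfsg.Agent.CycSD.Five

open Subgroup
open scoped commutatorElement

universe u

variable {H : Type u} [Group H] [Finite H]

theorem exists_fixed_sylow (A : Subgroup H) [A.Normal] (hA : ¬ 2 ∣ Nat.card A) (r : ℕ) [Fact r.Prime]
    {g : H} (hg : ∃ a : ℕ, g ^ 2 ^ a = 1) :
    ∃ R : Sylow r A, ∀ x ∈ (R : Subgroup A).map A.subtype, g * x * g⁻¹ ∈ (R : Subgroup A).map A.subtype := by
  haveI : Fact (Nat.Prime 2) := ⟨Nat.prime_two⟩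
  letI : MulAction (zpowers g) (Sylow r A) :=
    MulAction.compHom (Sylow r A) ((MulAut.conjNormal (H := A)).comp (zpowers g).subtype)
  have hp : IsPGroup 2 (zpowers g) := by
    obtain ⟨a, ha⟩ := hg
    obtain ⟨b, -, hb⟩ := (Nat.dvd_prime_pow Nat.prime_two).1 (orderOf_dvd_of_pow_eq_one ha)
    exact IsPGroup.iff_card.2 ⟨b, (Nat.card_zpowers g).trans hb⟩
  have hcard : ¬ 2 ∣ Nat.card (Sylow r A) := fun h => by
    obtain ⟨R⟩ : Nonempty (Sylow r A) := inferInstance
    exact hA ((h.trans R.card_dvd_index).trans (index_dvd_card _))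
  obtain ⟨R, hR⟩ := hp.nonempty_fixed_point_of_prime_not_dvd_card (Sylow r A) hcard
  have hfix : MulAut.conjNormal (H := A) g • R = R := hR ⟨g, mem_zpowers g⟩
  refine ⟨R, ?_⟩
  rintro _ ⟨x, hx, rfl⟩
  refine ⟨MulAut.conjNormal g x, ?_, rfl⟩
  rw [← hfix]
  exact Subgroup.smul_mem_pointwise_smul x _ _ hx

/-- An automorphism fixing modulo the prime. -/
theorem pow_fix {r : ℕ} [hr : Fact r.Prime] {d y : H} (hd : orderOf d = r) {i : ℕ}
    (hy : y * d * y⁻¹ = d ^ i) (hcop : Nat.Coprime (r - 1) (orderOf y)) : y * d * y⁻¹ = d := by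
  have key : ∀ m : ℕ, y ^ m * d * (y ^ m)⁻¹ = d ^ i ^ m := by
    intro m
    induction m with
    | zero => simp
    | succ m ih =>
      rw [pow_succ', show y * y ^ m * d * (y * y ^ m)⁻¹ = y * (y ^ m * d * (y ^ m)⁻¹) * y⁻¹ by group, ih,
        ← conj_pow, hy, ← pow_mul, pow_succ']
  have h1 : (i : ZMod r) ^ orderOf y = 1 := by
    have h := key (orderOf y)
    rw [pow_orderOf_eq_one, one_mul, inv_one, mul_one] at h
    nth_rw 1 [← pow_one d] at h
    rw [pow_eq_pow_iff_modEq, hd] at h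
    have := (ZMod.natCast_eq_natCast_iff _ _ _).2 h.symm
    push_cast at this
    exact this
  have h0 : (i : ZMod r) ≠ 0 := fun h => by
    rw [h, zero_pow (orderOf_pos y).ne'] at h1
    exact zero_ne_one h1
  have h2 : orderOf (i : ZMod r) = 1 :=
    Nat.eq_one_of_dvd_coprimes hcop (ZMod.orderOf_dvd_card_sub_one h0) (orderOf_dvd_of_pow_eq_one h1)
  rw [orderOf_eq_one_iff] at h2
  rw [hy]
  nth_rw 2 [← pow_one d]
  rw [pow_eq_pow_iff_modEq, hd, ← ZMod.natCast_eq_natCast_iff, h2, Nat.cast_one]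

theorem central_of_commutator (O : Subgroup H) [O.Normal] [IsZGroup O] (hO : ¬ 2 ∣ Nat.card O)
    {r : ℕ} [hr : Fact r.Prime] {d : H} (hd : d ∈ O) (hdc : d ∈ commutator H) (hdo : orderOf d = r)
    (hcop : Nat.Coprime (r - 1) (Nat.card O)) {y : H} (hy : y ∈ O) : d * y = y * d := by
  set N : Subgroup H := (commutator O).map O.subtype with hN
  haveI : N.Normal := by
    rw [hN, _root_.commutator_def, map_commutator]
    rw [← MonoidHom.range_eq_map, range_subtype]
    infer_instance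
  haveI : IsCyclic (commutator O) := IsZGroup.isCyclic_commutator O
  haveI : IsCyclic N :=
    isCyclic_of_surjective _ ((commutator O).equivMapOfInjective _ O.subtype_injective).surjective
  set n := y⁻¹ * (d * y * d⁻¹) with hn
  have hnN : n ∈ N := by
    refine ⟨⁅(⟨y⁻¹, inv_mem hy⟩ : O), ⟨d, hd⟩⁆, commutator_mem_commutator (mem_top _) (mem_top _), ?_⟩
    show ((⁅(⟨y⁻¹, inv_mem hy⟩ : O), ⟨d, hd⟩⁆ : O) : H) = n
    rw [hn, commutatorElement_def]
    push_cast
    group
  have hfix : ∀ m ∈ N, d * m = m * d := fun m hm =>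
    ((mem_centralizer_iff.1 (commutator_le_centralizer N hdc)) m hm).symm
  have hdr : d ^ r = 1 := orderOf_dvd_iff_pow_eq_one.1 (dvd_of_eq hdo)
  have key : ∀ i : ℕ, d ^ i * y * (d ^ i)⁻¹ = y * n ^ i := by
    intro i
    induction i with
    | zero => simp
    | succ i ih =>
      have hdn : d * n ^ i * d⁻¹ = n ^ i := by rw [hfix _ (pow_mem hnN i), mul_inv_cancel_right]
      calc d ^ (i + 1) * y * (d ^ (i + 1))⁻¹ = d * (d ^ i * y * (d ^ i)⁻¹) * d⁻¹ := by rw [pow_succ']; group
        _ = (d * y * d⁻¹) * (d * n ^ i * d⁻¹) := by rw [ih]; group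
        _ = y * n * n ^ i := by rw [hdn, hn]; group
        _ = y * n ^ (i + 1) := by rw [mul_assoc, ← pow_succ']
  have hnr : n ^ r = 1 := by
    have := key r
    rw [hdr, one_mul, inv_one, mul_one] at this
    exact (mul_left_cancel (a := y) (by rw [mul_one]; exact this)).symm
  by_cases h1 : n = 1
  · rw [hn, inv_mul_eq_one] at h1
    exact mul_inv_eq_iff_eq_mul.1 h1.symm
  -- then `d` lies in the cyclic normal subgroup
  have hno : orderOf n = r := orderOf_eq_prime hnr h1
  have hdN : d ∈ N := by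
    set d' : O := ⟨d, hd⟩
    set n' : O := ⟨n, map_subtype_le _ hnN⟩
    have hc : Commute d' n' := Subtype.ext (hfix n hnN)
    have hd' : orderOf d' = r := by rw [← orderOf_coe]; exact hdo
    have hn' : orderOf n' = r := by rw [← orderOf_coe]; exact hno
    haveI : Fact r.Prime := hr
    have hP : IsPGroup r (zpowers d' ⊔ zpowers n' : Subgroup O) := by
      refine IsPGroup.to_sup_of_normal_left' (IsPGroup.iff_card.2 ⟨1, by rw [Nat.card_zpowers, hd', pow_one]⟩)
        (IsPGroup.iff_card.2 ⟨1, by rw [Nat.card_zpowers, hn', pow_one]⟩) ?_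
      rw [zpowers_le]
      refine Subgroup.centralizer_le_normalizer _ ?_
      rw [mem_centralizer_iff]
      rintro _ ⟨i, rfl⟩
      exact (hc.zpow_left i).eq
    haveI : IsCyclic (zpowers d' ⊔ zpowers n' : Subgroup O) := hP.isCyclic_of_isZGroup
    classical
    letI := Fintype.ofFinite (zpowers d' ⊔ zpowers n' : Subgroup O)
    set x : (zpowers d' ⊔ zpowers n' : Subgroup O) := ⟨n', mem_sup_right (mem_zpowers n')⟩
    set w : (zpowers d' ⊔ zpowers n' : Subgroup O) := ⟨d', mem_sup_left (mem_zpowers d')⟩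
    have hx : orderOf x = r := by rw [← orderOf_coe]; exact hn'
    have hw : w ^ r = 1 := Subtype.ext (Subtype.ext hdr)
    have hle := IsCyclic.card_pow_eq_one_le (α := (zpowers d' ⊔ zpowers n' : Subgroup O)) (n := r) hr.out.pos
    have hsub : Finset.univ.filter (fun a : (zpowers d' ⊔ zpowers n' : Subgroup O) => a ∈ zpowers x) ⊆
        Finset.univ.filter (fun a : (zpowers d' ⊔ zpowers n' : Subgroup O) => a ^ r = 1) := by
      intro a ha
      obtain ⟨i, rfl⟩ := mem_zpowers_iff.1 (Finset.mem_filter.1 ha).2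
      simp only [Finset.mem_filter, Finset.mem_univ, true_and]
      rw [← zpow_natCast, ← zpow_mul, mul_comm, zpow_mul, zpow_natCast,
        orderOf_dvd_iff_pow_eq_one.1 (dvd_of_eq hx), one_zpow]
    have hcard : (Finset.univ.filter (fun a : (zpowers d' ⊔ zpowers n' : Subgroup O) => a ∈ zpowers x)).card = r := by
      rw [← Fintype.card_subtype, ← Nat.card_eq_fintype_card]
      exact (Nat.card_zpowers x).trans hx
    have heq := Finset.eq_of_subset_of_card_le hsub (hle.trans hcard.ge)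
    have hm : w ∈ Finset.univ.filter (fun a : (zpowers d' ⊔ zpowers n' : Subgroup O) => a ^ r = 1) :=
      Finset.mem_filter.2 ⟨Finset.mem_univ _, hw⟩
    rw [← heq] at hm
    obtain ⟨i, hi⟩ := mem_zpowers_iff.1 (Finset.mem_filter.1 hm).2
    have e : n ^ i = d := congrArg (fun a : (zpowers d' ⊔ zpowers n' : Subgroup O) => ((a : O) : H)) hi
    exact e ▸ zpow_mem hnN i
  have hconj : y * d * y⁻¹ ∈ zpowers d := by
    obtain ⟨c, hc⟩ := IsCyclic.exists_generator (α := N)
    obtain ⟨a, ha⟩ := mem_zpowers_iff.1 (hc ⟨d, hdN⟩)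
    obtain ⟨b, hb⟩ := mem_zpowers_iff.1 (hc ⟨y * c * y⁻¹, ‹N.Normal›.conj_mem _ c.2 y⟩)
    refine mem_zpowers_iff.2 ⟨b, ?_⟩
    have ha' : (c : H) ^ a = d := congrArg Subtype.val ha
    have hb' : (c : H) ^ b = y * c * y⁻¹ := congrArg Subtype.val hb
    rw [← ha', ← conj_zpow, ← hb', ← zpow_mul, ← zpow_mul, mul_comm]
  obtain ⟨i, hi⟩ := (mem_powers_iff_mem_zpowers.2 hconj)
  have hfin := pow_fix hdo hi.symm (hcop.coprime_dvd_right (orderOf_dvd_natCard (⟨y, hy⟩ : O) |> fun h => by
    rwa [← orderOf_coe] at h))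
  exact (mul_inv_eq_iff_eq_mul.1 hfin).symm

/-- The fixed points of an involution carry the whole part of each of their primes. -/
theorem inv_fixed_part (O : Subgroup H) [O.Normal] [IsZGroup O] (hO : ¬ 2 ∣ Nat.card O) {z : H}
    (hz : orderOf z = 2) {r : ℕ} [hr : Fact r.Prime]
    (hd : r ∣ Nat.card (O ⊓ centralizer ({z} : Set H) : Subgroup H)) :
    (Nat.card O).factorization r =
      (Nat.card (O ⊓ centralizer ({z} : Set H) : Subgroup H)).factorization r := by
  have hr2 : r ≠ 2 := fun h => hO (h ▸ hd.trans (card_dvd_of_le inf_le_left))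
  obtain ⟨⟨τ, hτO, hτz0⟩, hτ0⟩ := exists_prime_orderOf_dvd_card' r hd
  have hτ : orderOf τ = r := by rw [← hτ0, ← orderOf_coe]
  have hτz : τ * z = z * τ := mem_centralizer_singleton_iff.1 hτz0
  set NH := normalizer ((zpowers τ : Subgroup H) : Set H) with hNH
  set A : Subgroup NH := O.subgroupOf NH with hA
  haveI : A.Normal := normal_subgroupOf
  have hzN : z ∈ NH := by
    refine centralizer_le_normalizer _ (mem_centralizer_iff.2 ?_)
    rintro _ ⟨i, rfl⟩
    exact ((show Commute τ z from hτz).zpow_left i).eq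
  have hA2 : ¬ 2 ∣ Nat.card A := fun h => hO (h.trans (card_dvd_of_injective
    ((NH.subtype.comp A.subtype).codRestrict O fun x => x.2)
    fun a b e => Subtype.ext (Subtype.ext (congrArg (fun c : O => (c : H)) e))))
  obtain ⟨R, hR⟩ := exists_fixed_sylow A hA2 r (g := (⟨z, hzN⟩ : NH)) ⟨1, Subtype.ext (by
    show z ^ 2 ^ 1 = 1
    rw [pow_one]
    exact orderOf_dvd_iff_pow_eq_one.1 (dvd_of_eq hz))⟩
  set P : Subgroup H := ((R : Subgroup A).map A.subtype).map NH.subtype with hP
  have hPO : P ≤ O := by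
    rintro _ ⟨_, ⟨a, -, rfl⟩, rfl⟩
    exact a.2
  have hPp : IsPGroup r P := (R.2.map _).map _
  -- `τ` lies in `P`
  have hτN : τ ∈ NH := le_normalizer (mem_zpowers τ)
  set τA : A := ⟨⟨τ, hτN⟩, hτO⟩
  have hτn : (zpowers τA).Normal := by
    refine ⟨fun x hx a => ?_⟩
    obtain ⟨i, rfl⟩ := mem_zpowers_iff.1 hx
    have h1 : ((a : NH) : H) * τ ^ i * ((a : NH) : H)⁻¹ ∈ zpowers τ :=
      (mem_normalizer_iff.1 (a : NH).2 _).1 (zpow_mem (mem_zpowers τ) i)
    obtain ⟨j, hj⟩ := mem_zpowers_iff.1 h1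
    exact mem_zpowers_iff.2 ⟨j, Subtype.ext (Subtype.ext (by simpa [τA] using hj))⟩
  have hτP : τ ∈ P := by
    haveI := hτn
    have hg : IsPGroup r (zpowers τA) := IsPGroup.iff_card.2 ⟨1, by
      rw [Nat.card_zpowers, pow_one, ← orderOf_coe, ← orderOf_coe]; exact hτ⟩
    have hle : zpowers τA ≤ (R : Subgroup A) := IsPGroup.le_sylow_of_normal hg R
    exact ⟨⟨τ, hτN⟩, ⟨τA, hle (mem_zpowers τA), rfl⟩, rfl⟩
  haveI hPc : IsCyclic P :=
    haveI : IsCyclic (P.subgroupOf O) := (hPp.comap_of_injective O.subtype O.subtype_injective).isCyclic_of_isZGroup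
    isCyclic_of_surjective _ (subgroupOfEquivOfLe hPO).surjective
  have hτ1 : τ ≠ 1 := fun e => hr.out.ne_one (by rw [← hτ, e, orderOf_one])
  have hPC : P ≤ O ⊓ centralizer ({z} : Set H) := fun g hg => ⟨hPO hg, mem_centralizer_singleton_iff.2 <| by
    refine (commute_of_fix hr2 hPp hPc hz ?_ hτP hτ1 hτz.symm hg).symm
    rintro _ ⟨x, hx, rfl⟩
    exact ⟨_, hR x hx, rfl⟩⟩
  -- `P` is a Sylow subgroup of `O`
  refine le_antisymm ?_ (Finsupp.le_def.1 ((Nat.factorization_le_iff_dvd Nat.card_pos.ne' Nat.card_pos.ne').2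
    (card_dvd_of_le inf_le_left)) r)
  obtain ⟨T, hT⟩ := (IsPGroup.iff_card.2 ⟨1, by rw [Nat.card_zpowers, pow_one, ← orderOf_coe]; exact hτ⟩ :
    IsPGroup r (zpowers (⟨τ, hτO⟩ : O))).exists_le_sylow
  haveI : IsCyclic (T : Subgroup O) := T.2.isCyclic_of_isZGroup
  have hTN : (T : Subgroup O).map O.subtype ≤ NH := by
    rintro _ ⟨x, hx, rfl⟩
    refine centralizer_le_normalizer _ (mem_centralizer_iff.2 ?_)
    rintro _ ⟨i, rfl⟩
    have hτT : (⟨τ, hτO⟩ : O) ∈ (T : Subgroup O) := hT (mem_zpowers _)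
    have h := ((IsCyclic.isMulCommutative (α := ↥(T : Subgroup O))).is_comm.comm ⟨x, hx⟩ ⟨_, hτT⟩)
    have h' : Commute (x : H) τ := congrArg (fun a : (T : Subgroup O) => ((a : O) : H)) h
    exact ((h'.zpow_right i).symm).eq
  have hd1 : r ^ (Nat.card O).factorization r ∣ Nat.card A := by
    rw [← T.card_eq_multiplicity, ← card_map_of_injective (K := (T : Subgroup O)) O.subtype_injective,
      ← Nat.card_congr (subgroupOfEquivOfLe hTN).toEquiv]
    exact card_dvd_of_le fun x hx => by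
      obtain ⟨a, -, e⟩ := mem_map.1 (mem_subgroupOf.1 hx)
      exact mem_subgroupOf.2 (e ▸ a.2)
  have hle := (hr.out.pow_dvd_iff_le_factorization Nat.card_pos.ne').1 hd1
  refine hle.trans ((hr.out.pow_dvd_iff_le_factorization Nat.card_pos.ne').1 ?_)
  rw [← R.card_eq_multiplicity, ← card_map_of_injective (K := (R : Subgroup A)) A.subtype_injective,
    ← card_map_of_injective NH.subtype_injective]
  exact card_dvd_of_le hPC

end Cfsg.Agent.CycSD.Five
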