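import Mathlib
import Cfsg.Agent.Lib.CycSD.FiveTools
import Cfsg.Agent.Lib.Perm.CubicInsoluble.SDFacts

/-!
# The case `p = 5`

The order identity at `p = 5` contradicts the two Sylow counts at 5 and at 17.
-/

set_option autoImplicit false
set_option linter.style.haveILetI false
set_option linter.unusedSectionVars false

namespace Cfsg.Agent.CycSD

open Subgroup
open scoped MatrixGroups commutatorElement
open Cfsg.Agent.Forms Cfsg.Agent.Forms.DicksonPGL

universe u

namespace Five

variable {G : Type u} [Group G] [Finite G]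

/-- The centraliser and the normaliser of a cyclic subgroup of prime order. -/
theorem card_normalizer {r : ℕ} [hr : Fact r.Prime] {x : G} (hx : orderOf x = r) :
    ∃ R : ℕ, Nat.card (normalizer ((zpowers x : Subgroup G) : Set G)) = R * Nat.card (centralizer ({x} : Set G)) ∧
      R ∣ r - 1 ∧ ∀ g ∈ normalizer ((zpowers x : Subgroup G) : Set G), g ^ R ∈ centralizer ({x} : Set G) := by
  set χ := (zpowers x).normalizerMonoidHom with hχ
  have hker : χ.ker = (centralizer ({x} : Set G)).subgroupOf (normalizer ((zpowers x : Subgroup G) : Set G)) := by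
    rw [hχ, normalizerMonoidHom_ker]
    congr 1
    rw [zpowers_eq_closure, centralizer_closure]
  have hle : centralizer ({x} : Set G) ≤ normalizer ((zpowers x : Subgroup G) : Set G) := by
    intro g hg
    refine centralizer_le_normalizer _ ?_
    rw [zpowers_eq_closure, centralizer_closure]; exact hg
  refine ⟨Nat.card χ.range, ?_, ?_, fun g hg => ?_⟩
  · have h := χ.ker.index_mul_card
    rw [index_ker, hker, Nat.card_congr (subgroupOfEquivOfLe hle).toEquiv] at h
    exact h.symm
  · have h := χ.range.card_subgroup_dvd_card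
    rwa [(inferInstance : IsCyclic (zpowers x)).card_mulAut, Nat.card_zpowers, hx, Nat.totient_prime hr.out] at h
  · have h1 : χ (⟨g, hg⟩ ^ Nat.card χ.range) = 1 := by
      rw [map_pow]
      exact congrArg Subtype.val (pow_card_eq_one' (x := (⟨χ ⟨g, hg⟩, ⟨_, rfl⟩⟩ : χ.range)))
    have h2 : (⟨g, hg⟩ : normalizer ((zpowers x : Subgroup G) : Set G)) ^ Nat.card χ.range ∈ χ.ker :=
      MonoidHom.mem_ker.2 h1
    rw [hker, mem_subgroupOf] at h2
    exact h2

theorem two_not_square : ∀ a b : ZMod 5, b ≠ 0 → a * a ≠ 2 * (b * b) := by decide +kernel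

theorem seven_not_square : ∀ a b : ZMod 17, b ≠ 0 → a * a ≠ 7 * (b * b) := by decide +kernel

theorem e2142 : (2142 : ZMod 5) = 2 := by decide +kernel

theorem e126 : (126 : ZMod 17) = 7 := by decide +kernel

end Five

namespace Data

variable {G : Type u} [Group G] [Finite G] (D : Data G)

theorem isQuasiDihedral : Cfsg.IsQuasiDihedral (D.S : Subgroup G) := by
  obtain ⟨j, hj3, hj⟩ := D.N_pow
  refine ⟨j, hj3, by rw [D.card_S, hj, pow_succ'], ⟨D.σ, D.σ_mem⟩, ⟨D.t, D.t_mem⟩,
    by rw [orderOf_mk, D.order_σ, hj], ?_, Subtype.ext ?_⟩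
  · rw [orderOf_mk]
    refine orderOf_eq_prime (by rw [pow_two, D.t_sq]) fun h => D.t_notMem (h ▸ one_mem _)
  · show D.t * D.σ * D.t⁻¹ = D.σ ^ (2 ^ (j - 1) - 1)
    rw [D.rel, hj]
    congr 2
    obtain ⟨i, rfl⟩ : ∃ i, j = i + 1 := ⟨j - 1, by omega⟩
    rw [pow_succ, Nat.mul_div_cancel _ two_pos, Nat.add_sub_cancel]

variable [IsSimpleGroup G] (hodd : ∀ r : ℕ, r.Prime → r ≠ 2 → ∀ P : Sylow r G, IsCyclic P)

include hodd

/-- The case `p = 5` is impossible. -/
theorem five (h5 : D.p = 5) (hI : D.FiveIdentity) : False := by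
  classical
  haveI := D.hp
  haveI : Fact (Nat.Prime 5) := ⟨Nat.prime_five⟩
  haveI : Fact (Nat.Prime 17) := ⟨by norm_num⟩
  haveI : Fact (Nat.Prime 2) := ⟨Nat.prime_two⟩
  set P := D.toPre with hP
  have hPp : P.p = 5 := h5
  obtain ⟨w, hw, hz, hs, htN, htT⟩ := P.exists_w
  have htor : Nat.card (torus w) = 4 := by
    have h := XGroup.card_torus P.p_odd hw
    have e1 : XGroup.sgnP P.p = 1 := by rw [hPp]; rfl
    have e2 : (P.p : ℤ) = 5 := by rw [hPp]; rfl
    rw [e1, e2] at h
    exact Int.ofNat_inj.1 (h.trans (by norm_num : (5 : ℤ) - 1 = ((4 : ℕ) : ℤ)))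
  obtain ⟨m, hm, hNm⟩ := P.exists_eighth
  have hN : P.N = 8 := by
    have h := Subgroup.orderOf_dvd_natCard _ hs
    rw [P.order_pi_sC, htor] at h
    have := Nat.le_of_dvd (by norm_num) h
    omega
  set k := Nat.card P.K with hk
  have hk0 : k ≠ 0 := Nat.card_pos.ne'
  have ho : D.o = k := by
    have h := D.o_mul
    rw [show D.N = 8 from hN, show Subgroup.centralizer ({D.σ ^ 2} : Set G) =
      Subgroup.centralizer ({P.σ ^ 2} : Set G) from rfl, (P.card_cent_sq hodd hw hz hs).2, htor] at h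
    omega
  have hc : Nat.card (Subgroup.centralizer ({D.z} : Set G)) = 240 * k := by
    show Nat.card P.C = _
    rw [P.card_C]
    have : P.p * ((P.p - 1) * (P.p + 1)) = 120 := by rw [hPp]
    rw [this]; ring
  have hG : Nat.card G * D.ot ^ 2 = 85680 * k ^ 3 := by
    have h := hI
    rw [Data.FiveIdentity, hc, show D.N = 8 from hN, ho] at h
    push_cast at h
    have h' : ((Nat.card G * D.ot ^ 2 : ℕ) : ℤ) * 6400 = ((85680 * k ^ 3 : ℕ) : ℤ) * 6400 := by
      push_cast
      linear_combination h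
    exact Int.ofNat_inj.1 (mul_right_cancel₀ (by norm_num) h')
  have hot0 : D.ot ≠ 0 := fun h => by
    rw [h, zero_pow two_ne_zero, mul_zero] at hG
    exact (pow_ne_zero 3 hk0) (by omega)
  have hk5 : ¬ 5 ∣ k := by
    have := P.p_not_dvd_K hodd (le_of_eq hPp.symm)
    rwa [hPp] at this
  have hG5 : (Nat.card G).factorization 5 = 1 := by
    have := D.card_p hodd (le_of_eq h5.symm)
    rwa [h5] at this
  -- the element of order five
  have h4 : 4 ≤ P.p := by omega
  have huL : (XGroup.uu : Matrix.ProjGenLinGroup (Fin 2) (ZMod P.p)) ∈ L (ZMod P.p) :=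
    LocalPGL.mem_L_of_odd P.p_odd (by rw [XGroup.orderOf_uu]; exact P.hp.out.odd_of_ne_two P.p_odd)
  obtain ⟨m0, hm0, hm0'⟩ : ∃ m0 ∈ commutator P.C, P.π m0 = XGroup.uu := by
    have h3 := LocalPGL.L_le_commutator h4 huL
    have h2 : (commutator P.C).map P.π = commutator (Matrix.ProjGenLinGroup (Fin 2) (ZMod P.p)) := by
      rw [_root_.commutator_def, map_commutator, ← MonoidHom.range_eq_map, MonoidHom.range_eq_top.2 P.π_surj]
      rfl
    rw [← h2] at h3
    exact mem_map.1 h3
  obtain ⟨a, s, hs5, has⟩ := Nat.exists_eq_pow_mul_and_not_dvd (orderOf_pos m0).ne' 5 (by norm_num)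
  set v := m0 ^ s with hv
  have hv5a : v ^ 5 ^ a = 1 := by rw [hv, ← pow_mul, mul_comm, ← has, pow_orderOf_eq_one]
  set vb := P.π v with hvb
  have hvb' : vb = XGroup.uu ^ s := by rw [hvb, hv, map_pow, hm0']
  have hvbo : orderOf vb = P.p := by
    rw [hvb']
    have hco : Nat.Coprime (orderOf (XGroup.uu : Matrix.ProjGenLinGroup (Fin 2) (ZMod P.p))) s := by
      rw [XGroup.orderOf_uu]
      exact (P.hp.out.coprime_iff_not_dvd).2 (by rw [hPp]; exact hs5)
    rw [hco.orderOf_pow, XGroup.orderOf_uu]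
  have hv_ord : orderOf v = 5 := by
    obtain ⟨b, -, hb⟩ := (Nat.dvd_prime_pow Nat.prime_five).1 (orderOf_dvd_of_pow_eq_one hv5a)
    have h1 : b ≤ 1 := by
      rw [← hG5]
      refine (Nat.prime_five.pow_dvd_iff_le_factorization Nat.card_pos.ne').1 ?_
      rw [← hb]
      exact (orderOf_dvd_natCard v).trans P.C.card_subgroup_dvd_card
    have h2 : (5 : ℕ) ∣ orderOf v := by
      have := orderOf_map_dvd P.π v
      rw [← hvb, hvbo, hPp] at this
      exact this
    rcases Nat.le_one_iff_eq_zero_or_eq_one.1 h1 with rfl | rfl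
    · rw [hb] at h2; norm_num at h2
    · rw [hb, pow_one]
  have hv5 : v ^ 5 = 1 := orderOf_dvd_iff_pow_eq_one.1 (dvd_of_eq hv_ord)
  haveI : IsZGroup P.K := P.zgroup hodd P.K P.K_odd
  have hvK : ∀ c ∈ P.K, v * c = c * v := fun c hc =>
    commutator_centralizes P.K (pow_mem hm0 s) hv5 ((Nat.prime_five.coprime_iff_not_dvd).2 hk5) hc
  have hker : ∀ c : P.C, P.π c = 1 → Commute v c := by
    intro c hc
    rcases P.mem_ker.1 hc with h | h
    · exact hvK c h
    · have e : c = c * P.zC * P.zC := by rw [mul_assoc, P.zC_mul_self, mul_one]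
      rw [e]
      exact (show Commute v (c * P.zC) from hvK _ h).mul_right (P.zC_central v)
  -- the centraliser of `v` in the centraliser of the involution
  have hcentv : ∀ u : P.C, u * v = v * u ↔ P.π u ∈ zpowers vb := by
    intro u
    constructor
    · intro h
      obtain ⟨c, hc⟩ := isConj_iff.1 (XGroup.isConj_uu P.p_odd hvbo)
      have h1 : Commute (c⁻¹ * P.π u * c) XGroup.uu := by
        have h0 : Commute (P.π u) vb := (show Commute u v from h).map P.π
        rw [← hc] at h0
        have := h0.map (MulAut.conj c⁻¹).toMonoidHom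
        simpa [mul_assoc] using this
      obtain ⟨i, hi⟩ := mem_zpowers_iff.1 (XGroup.cent_uu P.p_odd h1.eq)
      refine mem_zpowers_iff.2 ⟨i, ?_⟩
      rw [← hc, conj_zpow, hi]; group
    · intro h
      obtain ⟨i, hi⟩ := mem_zpowers_iff.1 h
      have hc : P.π ((v ^ i)⁻¹ * u) = 1 := by rw [map_mul, map_inv, map_zpow, ← hvb, hi, inv_mul_cancel]
      have hc1 : Commute v ((v ^ i)⁻¹ * u) := hker _ hc
      have hc2 : Commute v (v ^ i) := (Commute.refl v).zpow_right i
      have hc3 := hc2.mul_right hc1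
      rw [mul_inv_cancel_left] at hc3
      exact hc3.eq.symm
  -- the element of order eight
  set aB : Matrix.ProjGenLinGroup (Fin 2) (ZMod P.p) :=
    Matrix.ProjGenLinGroup.mk (GL2.Borel.mkB (Units.mk0 2 (XGroup.two_ne_zero' P.p_odd)) 1 0) with haB
  have haBu : aB * XGroup.uu * aB⁻¹ = XGroup.uu ^ 2 := by
    rw [XGroup.uu_pow, haB, XGroup.uu, ← map_inv, ← map_mul, ← map_mul]
    congr 1
    rw [mul_inv_eq_iff_eq_mul]
    ext i j
    fin_cases i <;> fin_cases j <;> simp [Matrix.mul_apply, Fin.sum_univ_two]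
  have hup : (XGroup.uu : Matrix.ProjGenLinGroup (Fin 2) (ZMod P.p)) ^ 5 = 1 := by
    refine orderOf_dvd_iff_pow_eq_one.1 ?_
    rw [XGroup.orderOf_uu, hPp]
  have haB4 : aB ^ 4 = 1 := by
    rw [haB, ← map_pow, mk_eq_one_smul]
    have h16 : (16 : ZMod P.p) = 1 := by
      have h : ((16 : ℕ) : ZMod P.p) = ((1 : ℕ) : ZMod P.p) :=
        (ZMod.natCast_eq_natCast_iff _ _ _).2 (by rw [Nat.ModEq, hPp])
      exact_mod_cast h
    refine ⟨1, ?_⟩
    rw [one_smul, Units.val_pow_eq_pow_val, GL2.Borel.coe_mkB, show (4 : ℕ) = 2 * 2 from rfl, pow_mul, pow_two, pow_two]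
    ext i j
    fin_cases i <;> fin_cases j <;> simp [Matrix.mul_apply, Fin.sum_univ_two]
    linear_combination h16
  obtain ⟨c, hc'⟩ := isConj_iff.1 (XGroup.isConj_uu P.p_odd hvbo)
  set aa := c * aB * c⁻¹ with haa
  have haav : aa * vb * aa⁻¹ = vb ^ 2 := by
    rw [haa, ← hc', conj_pow, ← haBu]; group
  have hvb1 : vb ≠ 1 := fun h => by
    rw [h, orderOf_one] at hvbo; omega
  have haa4 : aa ^ 4 = 1 := by rw [haa, conj_pow, haB4]; group
  have haa2 : aa * aa ≠ 1 := fun h => by
    have h1 : aa * (aa * vb * aa⁻¹) * aa⁻¹ = vb := by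
      rw [show aa * (aa * vb * aa⁻¹) * aa⁻¹ = (aa * aa) * vb * (aa * aa)⁻¹ by group, h]; group
    rw [haav, ← conj_pow, haav, ← pow_mul] at h1
    nth_rw 2 [← pow_one vb] at h1
    rw [pow_eq_pow_iff_modEq, hvbo, Nat.ModEq, hPp] at h1
    norm_num at h1
  obtain ⟨g0, hg0⟩ := P.π_surj aa
  obtain ⟨b, o, hoo, hbo⟩ := Nat.exists_eq_pow_mul_and_not_dvd (orderOf_pos g0).ne' 2 (by norm_num)
  set g := g0 ^ (o * o) with hg
  have hgp : ∃ i : ℕ, g ^ 2 ^ i = 1 := ⟨b, by
    rw [hg, ← pow_mul, show o * o * 2 ^ b = 2 ^ b * o * o by ring, pow_mul, ← hbo, pow_orderOf_eq_one, one_pow]⟩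
  have hπg : P.π g = aa := by
    rw [hg, map_pow, hg0]
    obtain ⟨i, rfl⟩ : ∃ i, o = 2 * i + 1 := ⟨o / 2, by omega⟩
    rw [show (2 * i + 1) * (2 * i + 1) = 4 * (i * i + i) + 1 by ring, pow_succ, pow_mul, haa4, one_pow, one_mul]
  -- its fourth power is the central involution
  have hg4 : g ^ 4 = P.zC := by
    obtain ⟨i, hi⟩ := hgp
    obtain ⟨T, hT⟩ := (IsPGroup.iff_card.2 ⟨_, (Nat.card_zpowers g).trans
      ((Nat.dvd_prime_pow Nat.prime_two).1 (orderOf_dvd_of_pow_eq_one hi)).choose_spec.2⟩ :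
      IsPGroup 2 (zpowers g)).exists_le_sylow
    have hSC : (D.S : Subgroup G) ≤ P.C := by
      intro x hx
      refine Subgroup.mem_centralizer_singleton_iff.2 ?_
      -- every element is a rotation or a reflection
      have hx' : x ∈ zpowers D.σ ∨ x * D.t ∈ zpowers D.σ := by
        set R : Subgroup (D.S : Subgroup G) := (zpowers D.σ).subgroupOf (D.S : Subgroup G)
        have hidx : R.index = 2 := by
          have h := R.card_mul_index
          rw [Nat.card_congr (subgroupOfEquivOfLe (zpowers_le.2 D.σ_mem)).toEquiv, Nat.card_zpowers,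
            D.order_σ, D.card_S, mul_comm 2] at h
          exact Nat.eq_of_mul_eq_mul_left (by have := P.eight_le; exact lt_of_lt_of_le (by norm_num) this) h
        by_cases hxR : (⟨x, hx⟩ : (D.S : Subgroup G)) ∈ R
        · exact Or.inl hxR
        · exact Or.inr (mem_subgroupOf.1 ((mul_mem_iff_of_index_two hidx (a := ⟨x, hx⟩) (b := ⟨D.t, D.t_mem⟩)).2
            ⟨fun h => absurd h hxR, fun h => absurd (mem_subgroupOf.1 h) D.t_notMem⟩))
      rcases hx' with h | h
      · obtain ⟨i, rfl⟩ := mem_zpowers_iff.1 h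
        exact ((Commute.refl D.σ).zpow_left i).pow_right _ |>.eq
      · obtain ⟨i, hi⟩ := mem_zpowers_iff.1 h
        have e : x = D.σ ^ i * D.t⁻¹ := by rw [hi, mul_inv_cancel_right]
        rw [e]
        exact ((((Commute.refl D.σ).zpow_left i).pow_right _).mul_left
          (show Commute D.t _ from Subgroup.mem_centralizer_singleton_iff.1 P.t_mem_C).inv_left).eq
    set Sc : Sylow 2 P.C := D.S.subtype hSC with hSc
    obtain ⟨y, hy⟩ := MulAction.exists_smul_eq P.C T Sc
    have hyS : ((y * g * y⁻¹ : P.C) : G) ∈ (D.S : Subgroup G) := by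
      have : y * g * y⁻¹ ∈ (Sc : Subgroup P.C) := by
        rw [← hy]; exact ⟨g, hT (mem_zpowers g), rfl⟩
      exact mem_subgroupOf.1 this
    set g' := y * g * y⁻¹ with hg'
    have hg'2 : P.π g' * P.π g' ≠ 1 := fun h => haa2 (by
      rw [hg', map_mul, map_mul, map_inv, hπg] at h
      have h2 : P.π y * (aa * aa) * (P.π y)⁻¹ = 1 := by rw [← h]; group
      exact (MulAut.conj (P.π y)).injective (h2.trans (map_one _).symm))
    have hin : g' ∈ zpowers P.sC := by
      by_contra hn
      set R : Subgroup (Sc : Subgroup P.C) := (zpowers P.sC).subgroupOf (Sc : Subgroup P.C)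
      have hscS : P.sC ∈ (Sc : Subgroup P.C) := mem_subgroupOf.2 D.σ_mem
      have htcS : P.tC ∈ (Sc : Subgroup P.C) := mem_subgroupOf.2 D.t_mem
      have hidx : R.index = 2 := by
        have h := R.card_mul_index
        rw [Nat.card_congr (subgroupOfEquivOfLe (zpowers_le.2 hscS)).toEquiv, Nat.card_zpowers,
          P.order_sC, show Nat.card (Sc : Subgroup P.C) = 2 * P.N from
            (Nat.card_congr (subgroupOfEquivOfLe hSC).toEquiv).trans D.card_S, mul_comm 2] at h
        exact Nat.eq_of_mul_eq_mul_left (by have := P.eight_le; omega) h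
      have htn : (⟨P.tC, htcS⟩ : (Sc : Subgroup P.C)) ∉ R := fun h => by
        obtain ⟨i, hi⟩ := mem_zpowers_iff.1 (mem_subgroupOf.1 h)
        exact D.t_notMem (mem_zpowers_iff.2 ⟨i, (SubgroupClass.coe_zpow P.sC i).symm.trans
          (congrArg Subtype.val hi)⟩)
      have hgS : g' ∈ (Sc : Subgroup P.C) := mem_subgroupOf.2 hyS
      have hmem := (mul_mem_iff_of_index_two hidx (a := ⟨g', hgS⟩) (b := ⟨P.tC, htcS⟩)).2
        ⟨fun h => absurd (mem_subgroupOf.1 h) hn, fun h => absurd h htn⟩
      obtain ⟨i, hi⟩ := mem_zpowers_iff.1 (mem_subgroupOf.1 hmem)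
      apply hg'2
      have e : g' = P.sC ^ i * P.tC⁻¹ := by
        rw [show P.sC ^ i = g' * P.tC from hi, mul_inv_cancel_right]
      have htt : P.π P.tC * P.π P.tC = 1 := by
        rw [← map_mul, show P.tC * P.tC = 1 from Subtype.ext D.t_sq, map_one]
      rw [e, map_mul, map_zpow, map_inv, inv_eq_of_mul_eq_one_left htt]
      have hc := P.conj_pi
      rw [inv_eq_of_mul_eq_one_left htt] at hc
      calc P.π P.sC ^ i * P.π P.tC * (P.π P.sC ^ i * P.π P.tC)
          = P.π P.sC ^ i * (P.π P.tC * P.π P.sC ^ i * P.π P.tC) := by group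
        _ = P.π P.sC ^ i * (P.π P.sC ^ i)⁻¹ := by
          congr 1
          have hc2 : P.π P.tC * P.π P.sC * (P.π P.tC)⁻¹ = (P.π P.sC)⁻¹ := P.conj_pi
          have hc3 := congrArg (fun e => e ^ i) hc2
          simp only [conj_zpow, inv_zpow] at hc3
          rwa [inv_eq_of_mul_eq_one_left htt] at hc3
        _ = 1 := mul_inv_cancel _
    obtain ⟨i, hi⟩ := mem_zpowers_iff.1 hin
    have hs4 : P.π P.sC ^ (4 : ℤ) = 1 := by
      rw [zpow_ofNat, show (4 : ℕ) = P.N / 2 by omega, P.pi_sC_pow]
    obtain ⟨q, rfl⟩ : Odd i := by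
      rw [← Int.not_even_iff_odd]
      rintro ⟨q, rfl⟩
      apply hg'2
      rw [← map_mul, ← hi, map_mul, map_zpow, ← zpow_add, show q + q + (q + q) = 4 * q by ring, zpow_mul, hs4,
        one_zpow]
    have h4' : g' ^ 4 = P.zC := by
      have hz8 : P.sC ^ (8 : ℤ) = 1 := by
        rw [zpow_ofNat, show (8 : ℕ) = P.N by omega, P.sC_pow_N]
      have hz4 : P.sC ^ (4 : ℤ) = P.zC := by
        rw [zpow_ofNat, show (4 : ℕ) = P.N / 2 by omega]; rfl
      rw [← hi, ← zpow_natCast, ← zpow_mul, show (2 * q + 1) * ((4 : ℕ) : ℤ) = 8 * q + 4 by push_cast; ring,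
        zpow_add, zpow_mul, hz8, one_zpow, one_mul, hz4]
    rw [hg', conj_pow] at h4'
    calc g ^ 4 = y⁻¹ * (y * g ^ 4 * y⁻¹) * y := by group
      _ = P.zC := by rw [h4', mul_assoc, ← P.zC_central, inv_mul_cancel_left]
  have hgv : g * v * g⁻¹ = v ^ 2 := by
    set x := g * v * g⁻¹ with hx
    set c2 := (v ^ 2)⁻¹ * x with hc2
    have hx5 : x ^ 5 = 1 := by rw [hx, conj_pow, hv5]; group
    have hπc : P.π c2 = 1 := by
      rw [hc2, hx, map_mul, map_inv, map_pow, map_mul, map_mul, map_inv, hπg, ← hvb, haav, inv_mul_cancel]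
    have hcx : x = v ^ 2 * c2 := by rw [hc2, mul_inv_cancel_left]
    have hcomm : Commute (v ^ 2) c2 := (hker c2 hπc).pow_left 2
    have hc5 : c2 ^ 5 = 1 := by
      rw [hcx, hcomm.mul_pow, ← pow_mul, mul_comm 2 5, pow_mul, hv5, one_pow, one_mul] at hx5
      exact hx5
    have hd : orderOf c2 ∣ 2 * k := by
      rw [hk, ← P.card_ker]
      exact Subgroup.orderOf_dvd_natCard _ (MonoidHom.mem_ker.2 hπc)
    have hc1 : c2 = 1 := orderOf_eq_one_iff.1 (Nat.eq_one_of_dvd_coprimes (a := 5) (b := 2 * k)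
      ((Nat.prime_five.coprime_iff_not_dvd).2 fun h => by
        rcases Nat.prime_five.dvd_mul.1 h with h | h
        · norm_num at h
        · exact hk5 h) (orderOf_dvd_of_pow_eq_one hc5) hd)
    rw [hcx, hc1, mul_one]
  -- pass to `G`
  set vG : G := (v : G) with hvG
  set gG : G := (g : G) with hgG
  set z : G := D.z with hzG
  have hoz : orderOf z = 2 := P.order_z
  have hvo : orderOf vG = 5 := by rw [hvG, orderOf_coe]; exact hv_ord
  have hgz : gG ^ 4 = z := (SubgroupClass.coe_pow g 4).symm.trans (congrArg Subtype.val hg4)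
  have hgv' : gG * vG * gG⁻¹ = vG ^ 2 := (congrArg Subtype.val hgv).trans (SubgroupClass.coe_pow v 2)
  have hg2p : ∃ i : ℕ, gG ^ 2 ^ i = 1 := by
    obtain ⟨i, hi⟩ := hgp
    exact ⟨i, (SubgroupClass.coe_pow g _).symm.trans (congrArg Subtype.val hi)⟩
  have hvz : Commute vG z := Subgroup.mem_centralizer_singleton_iff.1 v.2
  set CV := centralizer ({vG} : Set G) with hCV
  have hzCV : z ∈ CV := Subgroup.mem_centralizer_singleton_iff.2 hvz.symm.eq
  have hTker : ∀ T : Subgroup G, IsPGroup 2 T → T ≤ CV → ∀ x ∈ T, x * z = z * x → x = 1 ∨ x = z := by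
    intro T hT hTL x hx hxz
    set u : P.C := ⟨x, Subgroup.mem_centralizer_singleton_iff.2 hxz⟩ with hu
    have huv : u * v = v * u := Subtype.ext (Subgroup.mem_centralizer_singleton_iff.1 (hTL hx))
    obtain ⟨i, hi⟩ := mem_zpowers_iff.1 ((hcentv u).1 huv)
    obtain ⟨e, he⟩ := hT ⟨x, hx⟩
    have hu2 : u ^ 2 ^ e = 1 := Subtype.ext ((SubgroupClass.coe_pow u _).trans
      ((SubgroupClass.coe_pow (⟨x, hx⟩ : T) _).symm.trans (congrArg Subtype.val he)))
    have hπu : P.π u = 1 := orderOf_eq_one_iff.1 (Nat.eq_one_of_dvd_coprimes (a := 2 ^ e) (b := P.p)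
      (Nat.Coprime.pow_left e (by rw [hPp]; norm_num))
      (orderOf_dvd_of_pow_eq_one (by rw [← map_pow, hu2, map_one]))
      ((orderOf_dvd_of_mem_zpowers (hi ▸ zpow_mem (mem_zpowers vb) i)).trans (dvd_of_eq hvbo)))
    have hu2' : IsPGroup 2 (zpowers u) := by
      obtain ⟨f, -, hf⟩ := (Nat.dvd_prime_pow Nat.prime_two).1 (orderOf_dvd_of_pow_eq_one hu2)
      exact IsPGroup.iff_card.2 ⟨f, (Nat.card_zpowers u).trans hf⟩
    rcases P.two_in_ker hodd hu2' (mem_zpowers u) hπu with h | h
    · exact Or.inl (congrArg Subtype.val h)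
    · exact Or.inr (congrArg Subtype.val h)
  obtain ⟨TV⟩ : Nonempty (Sylow 2 CV) := inferInstance
  have hcycall : ∀ T : Sylow 2 CV, IsCyclic T := fun T =>
    cyclic_two_of_inf_centralizer CV hoz hzCV (fun T' hT' hT'L hT'z => isCyclic_of_injective
      (inclusion (show T' ≤ zpowers z from fun x hx => by
        rcases hTker T' hT' hT'L x hx (hT'z x hx) with rfl | rfl
        · exact one_mem _
        · exact mem_zpowers _)) (inclusion_injective _)) T
  -- the odd part `O` of the centraliser of `v`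
  have h2CV : 2 ∣ Nat.card CV := hoz ▸ Subgroup.orderOf_dvd_natCard CV hzCV
  have hmin : (Nat.card CV).minFac = 2 := (Nat.minFac_eq_two_iff _).2 h2CV
  set M := (MonoidHom.transferSylow TV ((hcycall TV).normalizer_le_centralizer hmin)).ker with hM
  have hM2 : ¬ 2 ∣ Nat.card M := MonoidHom.not_dvd_card_ker_transferSylow TV _
  have hMidx : M.index = Nat.card (TV : Subgroup CV) := ((hcycall TV).isComplement' hmin).symm.index_eq_card
  have hmemM : ∀ x : CV, Odd (orderOf x) → x ∈ M := by
    intro x hx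
    rw [hM, MonoidHom.mem_ker]
    obtain ⟨e, he⟩ := TV.2.exists_card_eq
    refine orderOf_eq_one_iff.1 (Nat.eq_one_of_dvd_coprimes (b := 2 ^ e) ?_ (orderOf_map_dvd _ x) ?_)
    · exact Nat.Coprime.pow_right _ (Nat.coprime_two_right.2 hx)
    · exact he ▸ orderOf_dvd_natCard _
  have hTV : Nat.card (TV : Subgroup CV) = 2 := by
    obtain ⟨T', hT'⟩ := (IsPGroup.iff_card.2 ⟨1, by rw [Nat.card_zpowers, pow_one, ← orderOf_coe]; exact hoz⟩ :
      IsPGroup 2 (zpowers (⟨z, hzCV⟩ : CV))).exists_le_sylow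
    rw [Nat.card_congr (TV.equiv T').toEquiv]
    haveI := hcycall T'
    have hsub : (T' : Subgroup CV) = zpowers (⟨z, hzCV⟩ : CV) := by
      refine le_antisymm (fun x hx => ?_) hT'
      have hxz : (x : G) * z = z * x := congrArg (fun e : (T' : Subgroup CV) => ((e : CV) : G))
        ((IsCyclic.isMulCommutative (α := ↥(T' : Subgroup CV))).is_comm.comm ⟨x, hx⟩ ⟨_, hT' (mem_zpowers _)⟩)
      rcases hTker ((T' : Subgroup CV).map CV.subtype) (T'.2.map _) (map_subtype_le _) x ⟨x, hx, rfl⟩ hxz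
        with h | h
      · rw [show x = 1 from Subtype.ext h]; exact one_mem _
      · rw [show x = ⟨z, hzCV⟩ from Subtype.ext h]; exact mem_zpowers _
    rw [hsub, Nat.card_zpowers, ← orderOf_coe]; exact hoz
  set O : Subgroup G := M.map CV.subtype with hO
  have hOCV : O ≤ CV := map_subtype_le _
  have hOmem : ∀ x, x ∈ O ↔ x ∈ CV ∧ Odd (orderOf x) := by
    intro x
    constructor
    · rintro ⟨y, hy, rfl⟩
      refine ⟨y.2, ?_⟩
      show Odd (orderOf (y : G))
      rw [orderOf_coe]
      exact Odd.of_dvd_nat (Nat.odd_iff.2 (Nat.two_dvd_ne_zero.1 hM2)) (M.orderOf_dvd_natCard hy)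
    · rintro ⟨hx, ho⟩
      exact ⟨⟨x, hx⟩, hmemM _ (by rwa [← orderOf_coe]), rfl⟩
  have hOcard : Nat.card CV = 2 * Nat.card O := by
    rw [hO, card_map_of_injective CV.subtype_injective, ← M.card_mul_index, hMidx, hTV, mul_comm]
  have hOodd : ¬ 2 ∣ Nat.card O := by rw [hO, card_map_of_injective CV.subtype_injective]; exact hM2
  -- the normaliser of `v`
  set NA := normalizer ((zpowers vG : Subgroup G) : Set G) with hNA
  have hgNA : gG ∈ NA := by
    rw [mem_normalizer_iff]
    have hle : (zpowers vG).map (MulAut.conj gG).toMonoidHom = zpowers vG := by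
      rw [MonoidHom.map_zpowers]
      refine eq_of_le_of_card_ge (zpowers_le.2 ?_) ?_
      · show gG * vG * gG⁻¹ ∈ zpowers vG
        rw [hgv']; exact pow_mem (mem_zpowers vG) 2
      · rw [Nat.card_zpowers, Nat.card_zpowers]
        exact (MulEquiv.orderOf_eq (MulAut.conj gG) vG).ge
    intro x
    conv_rhs => rw [← hle]
    rw [Subgroup.mem_map_equiv]
    simp [mul_assoc]
  obtain ⟨R5, hR5, hR5d, hR5p⟩ := Five.card_normalizer hvo
  have hR54 : R5 = 4 := by
    have h := hR5p gG hgNA
    have hd : R5 ∣ 2 ^ 2 := hR5d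
    obtain ⟨e, he, rfl⟩ := (Nat.dvd_prime_pow Nat.prime_two).1 hd
    by_contra hne
    have he1 : e ≤ 1 := by
      by_contra hc
      exact hne (by rw [show e = 2 by omega]; norm_num)
    have h2 : gG ^ 2 ∈ CV := by
      rcases Nat.le_one_iff_eq_zero_or_eq_one.1 he1 with rfl | rfl
      · rw [pow_zero, pow_one] at h
        exact pow_mem h 2
      · exact h
    have h3 := Subgroup.mem_centralizer_singleton_iff.1 h2
    have h4 : gG ^ 2 * vG * (gG ^ 2)⁻¹ = vG ^ 4 := by
      rw [pow_two gG, show gG * gG * vG * (gG * gG)⁻¹ = gG * (gG * vG * gG⁻¹) * gG⁻¹ by group, hgv',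
        ← conj_pow, hgv', ← pow_mul]
    rw [h3, mul_inv_cancel_right] at h4
    nth_rw 1 [← pow_one vG] at h4
    rw [pow_eq_pow_iff_modEq, hvo] at h4
    exact absurd h4 (by decide)
  rw [hR54, hOcard] at hR5
  -- `O` in the normaliser
  set OA : Subgroup NA := O.subgroupOf NA with hOA
  have hONA : O ≤ NA := fun x hx => by
    refine centralizer_le_normalizer _ ?_
    rw [zpowers_eq_closure, centralizer_closure]; exact hOCV hx
  haveI hOAn : OA.Normal := by
    refine ⟨fun x hx n => ?_⟩
    rw [mem_subgroupOf, hOmem] at hx ⊢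
    refine ⟨?_, ?_⟩
    · refine Subgroup.mem_centralizer_singleton_iff.2 ?_
      obtain ⟨i, hi⟩ := mem_zpowers_iff.1 ((mem_normalizer_iff.1 (inv_mem n.2) vG).1 (mem_zpowers vG))
      rw [inv_inv] at hi
      have hxc : Commute (x : G) (vG ^ i) := ((show Commute (x : G) vG from
        Subgroup.mem_centralizer_singleton_iff.1 hx.1).zpow_right i)
      rw [hi] at hxc
      push_cast
      calc (n : G) * x * (n : G)⁻¹ * vG = n * (x * ((n : G)⁻¹ * vG * n)) * (n : G)⁻¹ := by group
        _ = n * ((n : G)⁻¹ * vG * n * x) * (n : G)⁻¹ := by rw [hxc.eq]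
        _ = vG * (n * x * (n : G)⁻¹) := by group
    · push_cast
      rw [show orderOf ((n : G) * x * (n : G)⁻¹) = orderOf (x : G) from MulEquiv.orderOf_eq (MulAut.conj (n : G)) x]
      exact hx.2
  have hZ : ∀ H : Subgroup G, ¬ 2 ∣ Nat.card H → IsZGroup H := by
    intro H hH
    refine ⟨fun r hr T => ?_⟩
    haveI := Fact.mk hr
    by_cases hr2 : r = 2
    · subst hr2
      obtain ⟨e, he⟩ := T.2.exists_card_eq
      rcases Nat.eq_zero_or_pos e with rfl | he0
      · haveI : Subsingleton (T : Subgroup H) := (Nat.card_eq_one_iff_unique.1 (by rw [he, pow_zero])).1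
        infer_instance
      · exact absurd ((dvd_pow_self 2 he0.ne').trans (he ▸ (T : Subgroup H).card_subgroup_dvd_card)) hH
    obtain ⟨R, hR⟩ := (T.2.map H.subtype).exists_le_sylow
    haveI := hodd r hr hr2 R
    set e1 := (T : Subgroup H).equivMapOfInjective _ H.subtype_injective
    exact isCyclic_of_injective ((inclusion hR).comp e1.toMonoidHom)
      fun a b e => e1.injective (inclusion_injective hR e)
  haveI hOAZ : IsZGroup OA := by
    haveI := hZ O hOodd
    exact IsZGroup.of_injective (f := (subgroupOfEquivOfLe hONA).toMonoidHom) (MulEquiv.injective _)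
  have hOAc : Nat.card OA = Nat.card O := Nat.card_congr (subgroupOfEquivOfLe hONA).toEquiv
  have hzNA : z ∈ NA := by rw [← hgz]; exact pow_mem hgNA 4
  set zA : NA := ⟨z, hzNA⟩ with hzA
  set gA : NA := ⟨gG, hgNA⟩ with hgA
  have hzAo : orderOf zA = 2 := by rw [← orderOf_coe]; exact hoz
  -- the fixed points of `z` in `O`
  set OC : Subgroup P.C := O.subgroupOf P.C with hOC
  have hOCcard : Nat.card OC = 5 * k := by
    set U := (zpowers vb).comap P.π with hU
    have hUc : Nat.card U = 2 * (5 * k) := by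
      rw [hU, P.card_comap, Nat.card_zpowers, hvbo, hPp, ← hk]; ring
    have hiff : ∀ u : P.C, (u : G) ∈ CV ↔ u ∈ U := fun u => by
      rw [hU, mem_comap, ← hcentv u, hCV, Subgroup.mem_centralizer_singleton_iff]
      exact ⟨fun e => Subtype.ext e, fun e => congrArg Subtype.val e⟩
    have e : Nat.card (OC × Bool) = Nat.card U := by
      refine Nat.card_eq_of_bijective (fun x => ⟨(x.1 : P.C) * bif x.2 then P.zC else 1, ?_⟩) ⟨?_, ?_⟩
      · refine mul_mem ((hiff _).1 (hOCV x.1.2)) ?_
        cases x.2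
        · exact one_mem _
        · rw [hU, mem_comap, cond_true, P.pi_zC]; exact one_mem _
      · rintro ⟨a, p1⟩ ⟨b', p2⟩ e
        have e' := congrArg Subtype.val e
        have hodd' : ∀ x : OC, Odd (orderOf (x : P.C)) := fun x => by
          rw [← orderOf_coe]; exact ((hOmem _).1 x.2).2
        have hz' : ∀ x y : OC, (x : P.C) = y * P.zC → False := fun x y hxy => by
          have h1 : P.zC ∈ OC := by
            have : P.zC = (y : P.C)⁻¹ * x := by rw [hxy, inv_mul_cancel_left]
            rw [this]; exact mul_mem (inv_mem y.2) x.2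
          have := hodd' ⟨_, h1⟩
          rw [show orderOf ((⟨P.zC, h1⟩ : OC) : P.C) = 2 from P.order_zC] at this
          exact absurd this (by decide)
        cases p1 <;> cases p2 <;> simp only [cond_true, cond_false, mul_one] at e'
        · rw [Subtype.ext e']
        · exact (hz' a b' e').elim
        · exact (hz' b' a e'.symm).elim
        · rw [Subtype.ext (mul_right_cancel e')]
      · rintro ⟨u, hu⟩
        have huC : (u : G) ∈ CV := (hiff u).2 hu
        by_cases hev : Odd (orderOf (u : G))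
        · exact ⟨(⟨u, mem_subgroupOf.2 ((hOmem _).2 ⟨huC, hev⟩)⟩, false), Subtype.ext (mul_one u)⟩
        · have hnotM : (⟨u, huC⟩ : CV) ∉ M := fun h => hev ((hOmem _).1 ⟨_, h, rfl⟩).2
          have hzM : (⟨z, hzCV⟩ : CV) ∉ M := fun h => by
            have := ((hOmem z).1 ⟨_, h, rfl⟩).2
            rw [hoz] at this
            exact absurd this (by decide)
          have hmul := (mul_mem_iff_of_index_two (H := M) (hMidx.trans hTV)
            (a := ⟨u, huC⟩) (b := ⟨z, hzCV⟩)).2 (by simp [hnotM, hzM])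
          refine ⟨(⟨u * P.zC, mem_subgroupOf.2 ⟨_, hmul, rfl⟩⟩, true), Subtype.ext ?_⟩
          show u * P.zC * P.zC = u
          rw [mul_assoc, P.zC_mul_self, mul_one]
    rw [Nat.card_prod, Nat.card_eq_fintype_card (α := Bool), Fintype.card_bool, hUc] at e
    omega
  have hFix : Nat.card (OA ⊓ centralizer ({zA} : Set NA) : Subgroup NA) = 5 * k := by
    rw [← hOCcard]
    refine Nat.card_eq_of_bijective
      (fun x => ⟨⟨((x : NA) : G), Subgroup.mem_centralizer_singleton_iff.2
        (congrArg Subtype.val (Subgroup.mem_centralizer_singleton_iff.1 x.2.2))⟩, mem_subgroupOf.2 x.2.1⟩)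
      ⟨fun a b e => Subtype.ext (Subtype.ext (congrArg (fun c : OC => ((c : P.C) : G)) e)), fun y => ?_⟩
    exact ⟨⟨⟨((y : P.C) : G), hONA y.2⟩, ⟨y.2, Subgroup.mem_centralizer_singleton_iff.2
      (Subtype.ext (Subgroup.mem_centralizer_singleton_iff.1 (y : P.C).2))⟩⟩, rfl⟩
  -- the primes of `O`
  have hk3 : k ^ 3 ≠ 0 := pow_ne_zero 3 hk0
  have hprime : ∀ r : ℕ, r.Prime → ¬ r ∣ 5 * k → r ∣ Nat.card O →
      r = 17 ∧ (Nat.card O).factorization r = 1 := by
    intro r hr hrk hrO
    haveI := Fact.mk hr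
    have hr2 : r ≠ 2 := fun h => hOodd (h ▸ hrO)
    obtain ⟨R, hR⟩ := Five.exists_fixed_sylow OA (hOAc.symm ▸ hOodd) r (g := gA) (by
      obtain ⟨i, hi⟩ := hg2p
      exact ⟨i, Subtype.ext ((SubgroupClass.coe_pow gA _).trans hi)⟩)
    set RN : Subgroup NA := (R : Subgroup OA).map OA.subtype with hRN
    have hRc : IsCyclic RN := by
      haveI : IsCyclic (R : Subgroup OA) := inferInstance
      exact isCyclic_of_surjective _ ((R : Subgroup OA).equivMapOfInjective _ OA.subtype_injective).surjective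
    have hdR : r ∣ Nat.card RN := by
      rw [hRN, card_map_of_injective OA.subtype_injective, R.card_eq_multiplicity]
      exact dvd_pow_self r (hr.factorization_pos_of_dvd Nat.card_pos.ne' (hOAc.symm ▸ hrO)).ne'
    obtain ⟨⟨x, hx⟩, hxo⟩ := exists_prime_orderOf_dvd_card' r hdR
    rw [orderOf_mk] at hxo
    obtain ⟨i, hi⟩ : ∃ i : ℕ, gA * x * gA⁻¹ = x ^ i := by
      have hmem := hR x hx
      letI := Fintype.ofFinite RN
      have hle := IsCyclic.card_pow_eq_one_le (α := RN) (n := r) hr.pos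
      set X : RN := ⟨x, hx⟩
      set Y : RN := ⟨gA * x * gA⁻¹, hmem⟩
      have hXo : orderOf X = r := by rw [← orderOf_coe]; exact hxo
      have hYr : Y ^ r = 1 := Subtype.ext (by
        show (gA * x * gA⁻¹) ^ r = 1
        rw [conj_pow, orderOf_dvd_iff_pow_eq_one.1 (dvd_of_eq hxo)]; group)
      have hsub : Finset.univ.filter (fun a : RN => a ∈ zpowers X) ⊆ Finset.univ.filter (fun a : RN => a ^ r = 1) := by
        intro a ha
        obtain ⟨j, rfl⟩ := mem_zpowers_iff.1 (Finset.mem_filter.1 ha).2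
        simp only [Finset.mem_filter, Finset.mem_univ, true_and]
        rw [← zpow_natCast, ← zpow_mul, mul_comm, zpow_mul, zpow_natCast,
          orderOf_dvd_iff_pow_eq_one.1 (dvd_of_eq hXo), one_zpow]
      have hcard : (Finset.univ.filter (fun a : RN => a ∈ zpowers X)).card = r := by
        rw [← Fintype.card_subtype, ← Nat.card_eq_fintype_card]
        exact (Nat.card_zpowers X).trans hXo
      have heq := Finset.eq_of_subset_of_card_le hsub (hle.trans hcard.ge)
      have hm' : Y ∈ Finset.univ.filter (fun a : RN => a ^ r = 1) := Finset.mem_filter.2 ⟨Finset.mem_univ _, hYr⟩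
      rw [← heq] at hm'
      obtain ⟨j, hj⟩ := mem_powers_iff_mem_zpowers.2 (Finset.mem_filter.1 hm').2
      exact ⟨j, (congrArg Subtype.val hj).symm⟩
    have key : ∀ j : ℕ, gA ^ j * x * (gA ^ j)⁻¹ = x ^ i ^ j := by
      intro j
      induction j with
      | zero => simp
      | succ j ih =>
        rw [pow_succ', show gA * gA ^ j * x * (gA * gA ^ j)⁻¹ = gA * (gA ^ j * x * (gA ^ j)⁻¹) * gA⁻¹ by group, ih,
          ← conj_pow, hi, ← pow_mul, pow_succ']
    have hg4A : gA ^ 4 = zA := Subtype.ext ((SubgroupClass.coe_pow gA 4).trans hgz)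
    have h4 : ¬ (i : ZMod r) ^ 4 = 1 := fun h => by
      have h' := key 4
      rw [hg4A] at h'
      have hx4 : x ^ i ^ 4 = x ^ 1 := by
        rw [pow_eq_pow_iff_modEq, hxo, ← ZMod.natCast_eq_natCast_iff]; push_cast; exact h
      rw [hx4, pow_one] at h'
      refine hrk ?_
      rw [← hFix, ← hxo]
      refine Subgroup.orderOf_dvd_natCard _ ⟨?_, Subgroup.mem_centralizer_singleton_iff.2 ?_⟩
      · obtain ⟨a, -, rfl⟩ := hx
        exact a.2
      · exact (mul_inv_eq_iff_eq_mul.1 h').symm
    have h8 : (i : ZMod r) ^ 8 = 1 := by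
      have h' := key 8
      rw [show gA ^ 8 = zA * zA by rw [← hg4A, ← pow_add], Involutions.Basic.inv_sq_one hzAo, one_mul, inv_one,
        mul_one] at h'
      nth_rw 1 [← pow_one x] at h'
      rw [pow_eq_pow_iff_modEq, hxo, ← ZMod.natCast_eq_natCast_iff] at h'
      push_cast at h'
      exact h'.symm
    have h0 : (i : ZMod r) ≠ 0 := fun h => by
      rw [h, zero_pow (by norm_num)] at h8; exact zero_ne_one h8
    have ho8 : orderOf (i : ZMod r) = 8 := orderOf_eq_prime_pow (p := 2) (n := 2) h4 h8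
    have hd8 : 8 ∣ r - 1 := ho8 ▸ ZMod.orderOf_dvd_card_sub_one h0
    have hrG : r ∣ 85680 * k ^ 3 := by
      rw [← hG]
      exact (hrO.trans O.card_subgroup_dvd_card).mul_right _
    have hr17 : r = 17 := by
      rcases hr.dvd_mul.1 hrG with h | h
      · have : r ∈ Nat.primeFactorsList 85680 := (Nat.mem_primeFactorsList (by norm_num)).2 ⟨hr, h⟩
        have hlist : ∀ q : ℕ, q.Prime → q ∣ 85680 → 8 ∣ q - 1 → q = 17 := by
          intro q hq hqd hq8
          have e : (85680 : ℕ) = 2 ^ 4 * (3 ^ 2 * (5 * (7 * 17))) := by norm_num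
          rw [e] at hqd
          rcases hq.dvd_mul.1 hqd with h | h
          · rw [(Nat.prime_dvd_prime_iff_eq hq Nat.prime_two).1 (hq.dvd_of_dvd_pow h)] at hq8; norm_num at hq8
          rcases hq.dvd_mul.1 h with h | h
          · rw [(Nat.prime_dvd_prime_iff_eq hq Nat.prime_three).1 (hq.dvd_of_dvd_pow h)] at hq8; norm_num at hq8
          rcases hq.dvd_mul.1 h with h | h
          · rw [(Nat.prime_dvd_prime_iff_eq hq Nat.prime_five).1 h] at hq8; norm_num at hq8
          rcases hq.dvd_mul.1 h with h | h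
          · rw [(Nat.prime_dvd_prime_iff_eq hq (by norm_num)).1 h] at hq8; norm_num at hq8
          exact (Nat.prime_dvd_prime_iff_eq hq (by norm_num)).1 h
        exact hlist r hr h hd8
      · exact absurd (dvd_mul_of_dvd_right (hr.dvd_of_dvd_pow h) 5) hrk
    refine ⟨hr17, le_antisymm ?_ (hr.factorization_pos_of_dvd Nat.card_pos.ne' hrO)⟩
    have e := congrArg (fun n => n.factorization r) hG
    simp only [Nat.factorization_mul Nat.card_pos.ne' (pow_ne_zero 2 hot0),
      Nat.factorization_mul (show (85680 : ℕ) ≠ 0 by norm_num) hk3, Nat.factorization_pow, Finsupp.add_apply,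
      Finsupp.smul_apply, smul_eq_mul,
      Nat.factorization_eq_zero_of_not_dvd (show ¬ r ∣ k from fun h => hrk (dvd_mul_of_dvd_right h 5))] at e
    have e17 : (85680 : ℕ).factorization r = 1 := by
      rw [hr17, show (85680 : ℕ) = 5040 * 17 by norm_num, Nat.factorization_mul (by norm_num) (by norm_num),
        Finsupp.add_apply, (show Nat.Prime 17 by norm_num).factorization_self,
        Nat.factorization_eq_zero_of_not_dvd (show ¬ 17 ∣ 5040 by norm_num)]
    rw [e17] at e
    have hle : (Nat.card O).factorization r ≤ (Nat.card G).factorization r :=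
      Finsupp.le_def.1 ((Nat.factorization_le_iff_dvd Nat.card_pos.ne' Nat.card_pos.ne').2
        O.card_subgroup_dvd_card) r
    omega
  have hsame : ∀ r : ℕ, r.Prime → r ∣ 5 * k → (Nat.card O).factorization r = (5 * k).factorization r := by
    intro r hr hd
    haveI := Fact.mk hr
    have h := Five.inv_fixed_part OA (hOAc.symm ▸ hOodd) hzAo (r := r) (hFix.symm ▸ hd)
    rwa [hOAc, hFix] at h
  have h5k : 5 * k ∣ Nat.card O := by
    rw [← hFix, ← hOAc]
    exact card_dvd_of_le inf_le_left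
  have hOcases : Nat.card O = 5 * k ∨ (Nat.card O = 5 * k * 17 ∧ ¬ 17 ∣ k) := by
    by_cases h17 : 17 ∣ Nat.card O ∧ ¬ 17 ∣ 5 * k
    · refine Or.inr ⟨Nat.eq_of_factorization_eq Nat.card_pos.ne' (by positivity) fun r => ?_,
        fun h => h17.2 (dvd_mul_of_dvd_right h 5)⟩
      rw [Nat.factorization_mul (by positivity) (show (17 : ℕ) ≠ 0 by norm_num), Finsupp.add_apply]
      by_cases hr : r.Prime
      swap
      · simp [Nat.factorization_eq_zero_of_not_prime _ hr]
      by_cases hd : r ∣ 5 * k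
      · rw [hsame r hr hd, Nat.factorization_eq_zero_of_not_dvd (n := 17) fun h =>
          h17.2 ((Nat.prime_dvd_prime_iff_eq hr (by norm_num)).1 h ▸ hd), add_zero]
      · rw [Nat.factorization_eq_zero_of_not_dvd hd, zero_add]
        by_cases hdO : r ∣ Nat.card O
        · obtain ⟨rfl, h1⟩ := hprime r hr hd hdO
          rw [h1, (show Nat.Prime 17 by norm_num).factorization_self]
        · rw [Nat.factorization_eq_zero_of_not_dvd hdO, Nat.factorization_eq_zero_of_not_dvd (n := 17) fun h =>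
            hdO ((Nat.prime_dvd_prime_iff_eq hr (by norm_num)).1 h ▸ h17.1)]
    · refine Or.inl (Nat.eq_of_factorization_eq Nat.card_pos.ne' (by positivity) fun r => ?_)
      by_cases hr : r.Prime
      swap
      · simp [Nat.factorization_eq_zero_of_not_prime _ hr]
      by_cases hd : r ∣ 5 * k
      · exact hsame r hr hd
      · rw [Nat.factorization_eq_zero_of_not_dvd hd]
        refine Nat.factorization_eq_zero_of_not_dvd fun hdO => h17 ?_
        obtain ⟨rfl, -⟩ := hprime r hr hd hdO
        exact ⟨hdO, hd⟩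
  -- the count at five
  set P5 : Sylow 5 G := Sylow.ofCard (zpowers vG) (by rw [Nat.card_zpowers, hvo, hG5, pow_one]) with hP5
  have hn5 : Nat.card G = Nat.card (Sylow 5 G) * (4 * (2 * Nat.card O)) := by
    have h := (normalizer ((P5 : Subgroup G) : Set G)).index_mul_card
    have e : Nat.card (Sylow 5 G) = (normalizer ((P5 : Subgroup G) : Set G)).index :=
      P5.card_eq_index_normalizer
    rw [← e] at h
    rw [← hR5, ← h]
    rfl
  have hn5m : ((Nat.card (Sylow 5 G) : ℕ) : ZMod 5) = 1 := by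
    rw [← Nat.cast_one, ZMod.natCast_eq_natCast_iff]
    exact card_sylow_modEq_one 5 G
  have hkz : (k : ZMod 5) ≠ 0 := fun h => hk5 ((ZMod.natCast_eq_zero_iff k 5).1 h)
  rcases hOcases with hO5 | ⟨hO17, hk17⟩
  · rw [hn5, hO5] at hG
    have h1 : Nat.card (Sylow 5 G) * D.ot ^ 2 * (40 * k) = 2142 * k ^ 2 * (40 * k) := by
      linear_combination hG
    have h2 := Nat.eq_of_mul_eq_mul_right (by omega) h1
    have h3 := congrArg (fun n : ℕ => (n : ZMod 5)) h2
    push_cast at h3
    rw [hn5m, one_mul, Five.e2142, pow_two, pow_two] at h3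
    exact Five.two_not_square _ _ hkz h3
  -- the element of order seventeen
  have hk17z : (k : ZMod 17) ≠ 0 := fun h => hk17 ((ZMod.natCast_eq_zero_iff k 17).1 h)
  obtain ⟨R, hR⟩ := Five.exists_fixed_sylow OA (hOAc.symm ▸ hOodd) 17 (g := gA) (by
    obtain ⟨i, hi⟩ := hg2p
    exact ⟨i, Subtype.ext ((SubgroupClass.coe_pow gA _).trans hi)⟩)
  have hRc : Nat.card (R : Subgroup OA) = 17 := by
    rw [R.card_eq_multiplicity, hOAc, hO17, Nat.factorization_mul (by positivity) (by norm_num),
      Finsupp.add_apply, (show Nat.Prime 17 by norm_num).factorization_self,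
      Nat.factorization_eq_zero_of_not_dvd (fun h => by
        rcases (show Nat.Prime 17 by norm_num).dvd_mul.1 h with h | h
        · norm_num at h
        · exact hk17 h)]
    norm_num
  obtain ⟨⟨qA, hqR⟩, hq⟩ := exists_prime_orderOf_dvd_card' 17 (dvd_of_eq hRc.symm)
  rw [orderOf_mk] at hq
  set qN : NA := (qA : NA) with hqN
  have hqo : orderOf qN = 17 := by rw [hqN, orderOf_coe]; exact hq
  have hqmap : (R : Subgroup OA).map OA.subtype = zpowers qN := by
    refine (eq_of_le_of_card_ge (zpowers_le.2 (show qN ∈ (R : Subgroup OA).map OA.subtype from Subgroup.mem_map.2 ⟨qA, hqR, rfl⟩)) ?_).symm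
    rw [card_map_of_injective OA.subtype_injective, hRc, Nat.card_zpowers, hqo]
  have hgq : gA * qN * gA⁻¹ ∈ zpowers qN := hqmap ▸ hR qN (hqmap ▸ mem_zpowers qN)
  obtain ⟨i, hi⟩ := mem_powers_iff_mem_zpowers.2 hgq
  have key : ∀ j : ℕ, gA ^ j * qN * (gA ^ j)⁻¹ = qN ^ i ^ j := by
    intro j
    induction j with
    | zero => simp
    | succ j ih =>
      rw [pow_succ', show gA * gA ^ j * qN * (gA * gA ^ j)⁻¹ = gA * (gA ^ j * qN * (gA ^ j)⁻¹) * gA⁻¹ by group, ih,
        ← conj_pow, ← hi, ← pow_mul, pow_succ']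
  have hqz : ¬ qN * zA = zA * qN := fun h => by
    have h1 := Subgroup.orderOf_dvd_natCard (OA ⊓ centralizer ({zA} : Set NA))
      (show qN ∈ OA ⊓ centralizer ({zA} : Set NA) from Subgroup.mem_inf.2 ⟨qA.2, Subgroup.mem_centralizer_singleton_iff.2 h⟩)
    rw [hFix, hqo] at h1
    rcases (show Nat.Prime 17 by norm_num).dvd_mul.1 h1 with h | h
    · norm_num at h
    · exact hk17 h
  have hg4A : gA ^ 4 = zA := Subtype.ext ((SubgroupClass.coe_pow gA 4).trans hgz)
  have hi1 : ¬ (i : ZMod 17) = 1 := fun h => hqz (by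
    have h' := key 4
    have he : qN ^ i ^ 4 = qN ^ 1 := by
      rw [pow_eq_pow_iff_modEq, hqo, ← ZMod.natCast_eq_natCast_iff]; push_cast; rw [h, one_pow]
    rw [hg4A, he, pow_one] at h'
    exact (mul_inv_eq_iff_eq_mul.1 h').symm)
  -- `q` is central in `O`
  have hqcomm : qN ∈ commutator NA := by
    have he : ⁅gA, qN⁆ ∈ commutator NA := commutator_mem_commutator (mem_top _) (mem_top _)
    rw [commutatorElement_def, ← hi] at he
    have he' : qN ^ ((i : ℤ) - 1) ∈ commutator NA := by rw [zpow_sub, zpow_natCast, zpow_one]; exact he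
    have hcop : IsCoprime ((i : ℤ) - 1) 17 := by
      refine ((Int.prime_iff_natAbs_prime.2 (by norm_num : Nat.Prime (17 : ℤ).natAbs)).coprime_iff_not_dvd.2
        fun h => hi1 ?_).symm
      have h' := (ZMod.intCast_zmod_eq_zero_iff_dvd ((i : ℤ) - 1) 17).2 h
      push_cast at h'
      exact sub_eq_zero.1 h'
    obtain ⟨a, b, hab⟩ := hcop
    have e : qN = (qN ^ ((i : ℤ) - 1)) ^ a := by
      rw [← zpow_mul]
      conv_lhs => rw [← zpow_one qN, ← hab]
      rw [zpow_add, mul_comm b 17, zpow_mul qN 17 b, mul_comm a,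
        show qN ^ (17 : ℤ) = 1 from by rw [zpow_ofNat, orderOf_dvd_iff_pow_eq_one.1 (dvd_of_eq hqo)],
        one_zpow, mul_one]
    rw [e]
    exact zpow_mem he' a
  have hcopO : ∀ j : ℕ, Nat.Coprime (2 ^ j) (Nat.card O) := fun j =>
    Nat.Coprime.pow_left j ((Nat.prime_two.coprime_iff_not_dvd).2 hOodd)
  have hqcent : ∀ y ∈ O, (qN : G) * y = y * qN := fun y hy => by
    have h := Five.central_of_commutator OA (hOAc.symm ▸ hOodd) (r := 17) qA.2 hqcomm hqo
      (by rw [hOAc]; exact hcopO 4) (y := ⟨y, hONA hy⟩) hy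
    exact congrArg Subtype.val h
  set q : G := (qN : G) with hqG
  have hqG17 : orderOf q = 17 := by rw [hqG, orderOf_coe]; exact hqo
  have hqCV : q ∈ CV := hOCV qA.2
  -- the centraliser of `q`
  set CQ := centralizer ({q} : Set G) with hCQ
  have hOCQ : O ≤ CQ := fun y hy => Subgroup.mem_centralizer_singleton_iff.2 (hqcent y hy).symm
  obtain ⟨hidx, hone⟩ := Perm.CubicInsoluble.SDFacts.all_conj D.S D.isQuasiDihedral
  have hCQ2 : ¬ 2 ∣ Nat.card CQ := by
    intro h
    obtain ⟨⟨e, he⟩, heo⟩ := exists_prime_orderOf_dvd_card' 2 h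
    rw [orderOf_mk] at heo
    obtain ⟨c3, hc3⟩ := isConj_iff.1 (hone e z heo hoz)
    have hd : orderOf (c3 * q * c3⁻¹) ∣ Nat.card (centralizer ({z} : Set G)) := by
      refine Subgroup.orderOf_dvd_natCard _ (Subgroup.mem_centralizer_singleton_iff.2 ?_)
      rw [← hc3]
      calc c3 * q * c3⁻¹ * (c3 * e * c3⁻¹) = c3 * (q * e) * c3⁻¹ := by group
        _ = c3 * (e * q) * c3⁻¹ := by rw [Subgroup.mem_centralizer_singleton_iff.1 he]
        _ = c3 * e * c3⁻¹ * (c3 * q * c3⁻¹) := by group
    rw [show orderOf (c3 * q * c3⁻¹) = orderOf q from MulEquiv.orderOf_eq (MulAut.conj c3) q, hqG17, hzG, hc] at hd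
    rcases (show Nat.Prime 17 by norm_num).dvd_mul.1 hd with h | h
    · norm_num at h
    · exact hk17 h
  set NQ := normalizer ((zpowers q : Subgroup G) : Set G) with hNQ
  have hgqG : gG * q * gG⁻¹ = q ^ i :=
    (congrArg Subtype.val hi).symm.trans (SubgroupClass.coe_pow qN i)
  have hgNQ : gG ∈ NQ := by
    rw [mem_normalizer_iff]
    have hle : (zpowers q).map (MulAut.conj gG).toMonoidHom = zpowers q := by
      rw [MonoidHom.map_zpowers]
      refine eq_of_le_of_card_ge (zpowers_le.2 ?_) ?_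
      · show gG * q * gG⁻¹ ∈ zpowers q
        rw [hgqG]; exact pow_mem (mem_zpowers q) i
      · rw [Nat.card_zpowers, Nat.card_zpowers]
        exact (MulEquiv.orderOf_eq (MulAut.conj gG) q).ge
    intro x
    conv_rhs => rw [← hle]
    rw [Subgroup.mem_map_equiv]
    simp [mul_assoc]
  have hCQN : CQ ≤ NQ := fun x hx => by
    refine centralizer_le_normalizer _ ?_
    rw [zpowers_eq_closure, centralizer_closure]; exact hx
  set CQA : Subgroup NQ := CQ.subgroupOf NQ with hCQA
  haveI : CQA.Normal := by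
    have h : (zpowers q).normalizerMonoidHom.ker = CQA := by
      rw [normalizerMonoidHom_ker]
      congr 1
      rw [zpowers_eq_closure, centralizer_closure]
    rw [← h]; infer_instance
  have hCQAc : Nat.card CQA = Nat.card CQ := Nat.card_congr (subgroupOfEquivOfLe hCQN).toEquiv
  haveI : IsZGroup CQA := by
    haveI := hZ CQ hCQ2
    exact IsZGroup.of_injective (f := (subgroupOfEquivOfLe hCQN).toMonoidHom) (MulEquiv.injective _)
  have hvCQ : vG ∈ CQ :=
    Subgroup.mem_centralizer_singleton_iff.2 (Subgroup.mem_centralizer_singleton_iff.1 hqCV).symm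
  have hvcent : ∀ y ∈ CQ, vG * y = y * vG := fun y hy => by
    have hvc : (⟨vG, hCQN hvCQ⟩ : NQ) ∈ commutator NQ := by
      have e : ⁅(⟨gG, hgNQ⟩ : NQ), (⟨vG, hCQN hvCQ⟩ : NQ)⁆ = (⟨vG, hCQN hvCQ⟩ : NQ) := Subtype.ext (by
        rw [commutatorElement_def]
        push_cast
        rw [hgv']; group)
      rw [← e]
      exact commutator_mem_commutator (mem_top _) (mem_top _)
    have h := Five.central_of_commutator CQA (hCQAc.symm ▸ hCQ2) (r := 5) (d := ⟨vG, hCQN hvCQ⟩) hvCQ hvc
      (by rw [← orderOf_coe]; exact hvo)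
      (by rw [hCQAc]; exact Nat.Coprime.pow_left 2 ((Nat.prime_two.coprime_iff_not_dvd).2 hCQ2))
      (y := ⟨y, hCQN hy⟩) hy
    exact congrArg Subtype.val h
  have hCQeq : Nat.card CQ = Nat.card O := by
    have : CQ = O := le_antisymm (fun y hy => (hOmem y).2
      ⟨Subgroup.mem_centralizer_singleton_iff.2 (hvcent y hy).symm,
        Odd.of_dvd_nat (Nat.odd_iff.2 (Nat.two_dvd_ne_zero.1 hCQ2)) (Subgroup.orderOf_dvd_natCard _ hy)⟩) hOCQ
    rw [this]
  -- the normaliser of `q`
  obtain ⟨R17, hR17, hR17d, hR17p⟩ := Five.card_normalizer hqG17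
  have hR8 : R17 = 8 := by
    have hd : R17 ∣ 2 ^ 4 := hR17d
    obtain ⟨e, he, rfl⟩ := (Nat.dvd_prime_pow Nat.prime_two).1 hd
    have h4 : 2 < e := by
      by_contra hc
      obtain ⟨f, hf⟩ : 2 ^ e ∣ 4 := by
        rw [show (4 : ℕ) = 2 ^ 2 from rfl]; exact pow_dvd_pow 2 (by omega)
      have h := pow_mem (hR17p gG hgNQ) f
      rw [← pow_mul, ← hf, hgz] at h
      refine hqz (Subtype.ext ?_)
      exact (Subgroup.mem_centralizer_singleton_iff.1 h).symm
    by_contra hne
    have he4 : e = 4 := by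
      rcases Nat.lt_or_ge e 4 with h | h
      · exact absurd (by rw [show e = 3 by omega]; norm_num) hne
      · omega
    subst he4
    obtain ⟨T⟩ : Nonempty (Sylow 2 NQ) := inferInstance
    have hTc : Nat.card (T : Subgroup NQ) = 16 := by
      rw [T.card_eq_multiplicity, hR17, Nat.factorization_mul (by norm_num) Nat.card_pos.ne',
        Finsupp.add_apply, Nat.factorization_eq_zero_of_not_dvd hCQ2, Nat.prime_two.factorization_pow,
        Finsupp.single_eq_same]
      norm_num
    set χ := (zpowers q).normalizerMonoidHom with hχ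
    have hTinj : Function.Injective (χ.comp (T : Subgroup NQ).subtype) := by
      rw [← MonoidHom.ker_eq_bot_iff, eq_bot_iff]
      intro x hx
      have hxk : (x : NQ) ∈ χ.ker := hx
      rw [hχ, normalizerMonoidHom_ker, mem_subgroupOf] at hxk
      have hcz : centralizer ((zpowers q : Subgroup G) : Set G) = CQ := by
        rw [zpowers_eq_closure, centralizer_closure]
      rw [hcz] at hxk
      obtain ⟨f, hf⟩ := T.2 x
      refine mem_bot.2 (Subtype.ext (Subtype.ext ?_))
      refine orderOf_eq_one_iff.1 (Nat.eq_one_of_dvd_coprimes (a := 2 ^ f) (b := Nat.card CQ)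
        (Nat.Coprime.pow_left f ((Nat.prime_two.coprime_iff_not_dvd).2 hCQ2)) ?_
        (Subgroup.orderOf_dvd_natCard _ hxk))
      refine orderOf_dvd_of_pow_eq_one ?_
      exact (SubgroupClass.coe_pow (x : NQ) _).symm.trans
        (congrArg (fun e : (T : Subgroup NQ) => ((e : NQ) : G)) hf)
    have hcomm : ∀ a b : (T : Subgroup NQ), a * b = b * a := fun a b => hTinj (by
      rw [map_mul, map_mul]
      exact ((inferInstance : IsCyclic (zpowers q)).mulAutMulEquiv _).injective (by rw [map_mul, map_mul, mul_comm]))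
    obtain ⟨S', hS'⟩ := (T.2.map NQ.subtype).exists_le_sylow
    have hS'c : Nat.card (S' : Subgroup G) = 16 := by
      rw [Nat.card_congr (S'.equiv D.S).toEquiv, D.card_S, show D.N = 8 from hN]
    have hS'eq : (T : Subgroup NQ).map NQ.subtype = (S' : Subgroup G) :=
      eq_of_le_of_card_ge hS' (by rw [hS'c, card_map_of_injective NQ.subtype_injective, hTc])
    have hS'comm : ∀ a b : (S' : Subgroup G), a * b = b * a := by
      rintro ⟨a, ha⟩ ⟨b, hb⟩
      rw [← hS'eq] at ha hb
      obtain ⟨a', ha', rfl⟩ := ha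
      obtain ⟨b', hb', rfl⟩ := hb
      exact Subtype.ext (congrArg (fun e : (T : Subgroup NQ) => ((e : NQ) : G)) (hcomm ⟨a', ha'⟩ ⟨b', hb'⟩))
    have hScomm : D.t * D.σ = D.σ * D.t := by
      have h := hS'comm ((D.S.equiv S') ⟨D.t, D.t_mem⟩) ((D.S.equiv S') ⟨D.σ, D.σ_mem⟩)
      rw [← map_mul, ← map_mul] at h
      exact congrArg Subtype.val ((D.S.equiv S').injective h)
    have hrel := D.rel
    rw [hScomm, mul_inv_cancel_right] at hrel
    nth_rw 1 [← pow_one D.σ] at hrel
    rw [pow_eq_pow_iff_modEq, D.order_σ, show D.N = 8 from hN] at hrel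
    exact absurd hrel (by decide)
  rw [hR8, hCQeq] at hR17
  -- the count at seventeen
  have hG17 : (Nat.card G).factorization 17 = 1 := by
    refine le_antisymm ?_ (Nat.Prime.factorization_pos_of_dvd (by norm_num) Nat.card_pos.ne'
      (hqG17 ▸ orderOf_dvd_natCard q))
    have e := congrArg (fun n => n.factorization 17) hG
    simp only [Nat.factorization_mul Nat.card_pos.ne' (pow_ne_zero 2 hot0),
      Nat.factorization_mul (show (85680 : ℕ) ≠ 0 by norm_num) hk3, Nat.factorization_pow, Finsupp.add_apply,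
      Finsupp.smul_apply, smul_eq_mul, Nat.factorization_eq_zero_of_not_dvd hk17] at e
    have e17 : (85680 : ℕ).factorization 17 = 1 := by
      rw [show (85680 : ℕ) = 5040 * 17 by norm_num, Nat.factorization_mul (by norm_num) (by norm_num),
        Finsupp.add_apply, (show Nat.Prime 17 by norm_num).factorization_self,
        Nat.factorization_eq_zero_of_not_dvd (show ¬ 17 ∣ 5040 by norm_num)]
    rw [e17] at e
    omega
  set P17 : Sylow 17 G := Sylow.ofCard (zpowers q) (by rw [Nat.card_zpowers, hqG17, hG17, pow_one]) with hP17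
  have hn17 : Nat.card G = Nat.card (Sylow 17 G) * (8 * Nat.card O) := by
    have h := (normalizer ((P17 : Subgroup G) : Set G)).index_mul_card
    have e : Nat.card (Sylow 17 G) = (normalizer ((P17 : Subgroup G) : Set G)).index :=
      P17.card_eq_index_normalizer
    rw [← e] at h
    rw [← hR17, ← h]
    rfl
  have hn17m : ((Nat.card (Sylow 17 G) : ℕ) : ZMod 17) = 1 := by
    rw [← Nat.cast_one, ZMod.natCast_eq_natCast_iff]
    exact card_sylow_modEq_one 17 G
  rw [hn17, hO17] at hG
  have h1 : Nat.card (Sylow 17 G) * D.ot ^ 2 * (680 * k) = 126 * k ^ 2 * (680 * k) := by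
    linear_combination hG
  have h2 := Nat.eq_of_mul_eq_mul_right (by omega) h1
  have h3 := congrArg (fun n : ℕ => (n : ZMod 17)) h2
  push_cast at h3
  rw [hn17m, one_mul, Five.e126, pow_two, pow_two] at h3
  exact Five.seven_not_square _ _ hk17z h3

end Data

end Cfsg.Agent.CycSD
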