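import Mathlib
import Cfsg.Agent.Lib.CycSD.LocalPre
import Cfsg.Agent.S1240
import Cfsg.Agent.Lib.Perm.CubicInsoluble.SDFacts
import Cfsg.Agent.Lib.Blocks.Semidihedral.Group
import Cfsg.Agent.Lib.Cores.Basic

/-!
# Existence of the data

A simple group with semidihedral Sylow 2-subgroups and cyclic odd Sylow subgroups has the data.
-/

set_option autoImplicit false
set_option linter.style.haveILetI false
set_option linter.unusedSectionVars false

namespace Cfsg.Agent.CycSD

open Subgroup Matrix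
open scoped MatrixGroups commutatorElement
open Cfsg.Agent.Blocks.Semidihedral (IsSD)

universe u

/-- A field with a cyclic `(F, +)` is a prime field; stated for subgroups of `SL₂(F)`. -/
theorem card_field_prime {X : Type u} [Group X] [Finite X] {F : Type} [Field F] [Fintype F] {L : Subgroup X}
    (e : L ≃* SL(2, F)) (hF : Odd (Fintype.card F))
    (hcyc : ∀ r : ℕ, r.Prime → r ≠ 2 → ∀ P : Sylow r X, IsCyclic P) :
    (Fintype.card F).Prime ∧ Fintype.card F ≠ 2 := by
  obtain ⟨q, hq⟩ := CharP.exists F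
  obtain ⟨m, hqp, hm⟩ := FiniteField.card F q
  haveI := Fact.mk hqp
  have hq2 : q ≠ 2 := by
    rintro rfl
    rw [hm, Nat.odd_pow_iff m.ne_zero] at hF
    exact absurd hF (by decide)
  let um : Multiplicative F →* SL(2, F) := MonoidHom.mk'
    (fun a => ⟨!![1, a.toAdd; 0, 1], by simp [Matrix.det_fin_two_of]⟩) fun a b => Subtype.ext (by
      show !![1, a.toAdd + b.toAdd; 0, 1] = !![1, a.toAdd; 0, 1] * !![1, b.toAdd; 0, 1]
      simp [Matrix.mul_fin_two, add_comm])
  have hum : Function.Injective um := fun a b h => by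
    have h' : !![1, a.toAdd; 0, 1] = !![(1 : F), b.toAdd; 0, 1] := congrArg Subtype.val h
    have := congrFun (congrFun h' 0) 1
    exact Multiplicative.toAdd.injective (by simpa using this)
  set φ : Multiplicative F →* X := L.subtype.comp (e.symm.toMonoidHom.comp um) with hφ
  have hφi : Function.Injective φ := L.subtype_injective.comp (e.symm.injective.comp hum)
  have hqF : ∀ a : Multiplicative F, a ^ q = 1 := fun a => by
    refine Multiplicative.toAdd.injective ?_
    rw [toAdd_pow, nsmul_eq_mul, CharP.cast_eq_zero, zero_mul, toAdd_one]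
  have hpg : IsPGroup q φ.range := by
    rintro ⟨x, a, rfl⟩
    exact ⟨1, Subtype.ext (by rw [pow_one]; show φ a ^ q = 1; rw [← map_pow, hqF, map_one])⟩
  obtain ⟨P, hP⟩ := hpg.exists_le_sylow
  haveI := hcyc q hqp hq2 P
  haveI : IsCyclic (Multiplicative F) :=
    isCyclic_of_injective ((inclusion hP).comp (MonoidHom.ofInjective hφi).toMonoidHom)
      ((inclusion_injective hP).comp (MonoidHom.ofInjective hφi).injective)
  have hc : Nat.card (Multiplicative F) ∣ q := by
    rw [← IsCyclic.exponent_eq_card]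
    exact Monoid.exponent_dvd_of_forall_pow_eq_one hqF
  have hcF : Nat.card (Multiplicative F) = Fintype.card F := by
    rw [Nat.card_congr Multiplicative.toAdd, Nat.card_eq_fintype_card]
  rw [hcF] at hc
  rcases (Nat.dvd_prime hqp).1 hc with h | h
  · exact absurd h (Fintype.one_lt_card (α := F)).ne'
  · exact ⟨h ▸ hqp, h ▸ hq2⟩

/-- A Sylow 2-subgroup of `SL₂(F)`, `|F|` odd, is not commutative. -/
theorem exists_noncomm {F : Type} [Field F] [Fintype F] (hF : Odd (Fintype.card F)) :
    ∃ P : Sylow 2 SL(2, F), ∃ a ∈ (P : Subgroup SL(2, F)), ∃ b ∈ (P : Subgroup SL(2, F)), a * b ≠ b * a := by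
  haveI : Fact (Nat.Prime 2) := ⟨Nat.prime_two⟩
  have h2F : (2 : F) ≠ 0 := Ring.two_ne_zero fun h => by
    have := (FiniteField.even_card_iff_char_two (F := F)).1 h
    obtain ⟨k, hk⟩ := hF
    omega
  obtain ⟨p, hchar⟩ := CharP.exists F
  haveI : Fact p.Prime := ⟨CharP.char_is_prime F p⟩
  obtain ⟨x₀, y₀, hxy⟩ := ZMod.sq_add_sq p (-1)
  set x := ZMod.castHom dvd_rfl F x₀ with hx
  set y := ZMod.castHom dvd_rfl F y₀ with hy
  have hxy' : x * x + y * y = -1 := by
    rw [hx, hy, ← map_mul, ← map_mul, ← map_add, ← pow_two, ← pow_two, hxy, map_neg, map_one]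
  let i : SL(2, F) := ⟨!![0, 1; -1, 0], by simp [Matrix.det_fin_two_of]⟩
  let j : SL(2, F) := ⟨!![x, y; y, -x], by rw [Matrix.det_fin_two_of]; linear_combination -hxy'⟩
  have hii : i * i = -1 := Subtype.ext (by
    rw [Matrix.SpecialLinearGroup.coe_mul, Matrix.SpecialLinearGroup.coe_neg, Matrix.SpecialLinearGroup.coe_one]
    ext r s; fin_cases r <;> fin_cases s <;> simp [i, Matrix.mul_apply, Fin.sum_univ_two])
  have hjj : j * j = -1 := Subtype.ext (by
    rw [Matrix.SpecialLinearGroup.coe_mul, Matrix.SpecialLinearGroup.coe_neg, Matrix.SpecialLinearGroup.coe_one]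
    ext r s; fin_cases r <;> fin_cases s <;>
      simp [j, Matrix.mul_apply, Fin.sum_univ_two] <;> first | linear_combination hxy' | ring)
  have hji : j * i * j⁻¹ = i⁻¹ := by
    rw [mul_inv_eq_iff_eq_mul, eq_inv_mul_iff_mul_eq]
    apply Subtype.ext
    show (i : Matrix (Fin 2) (Fin 2) F) * ((j : Matrix (Fin 2) (Fin 2) F) * (i : Matrix (Fin 2) (Fin 2) F)) = j
    ext r s; fin_cases r <;> fin_cases s <;> simp [i, j, Matrix.mul_apply, Fin.sum_univ_two]
  have hpg : ∀ w : SL(2, F), w * w = -1 → IsPGroup 2 (zpowers w) := by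
    intro w hw
    have h4 : w ^ (2 ^ 2) = 1 := by
      rw [show (2 : ℕ) ^ 2 = 2 * 2 from rfl, pow_mul, pow_two w, hw, pow_two]; simp
    obtain ⟨k, -, hk⟩ := (Nat.dvd_prime_pow Nat.prime_two).1 (orderOf_dvd_of_pow_eq_one h4)
    exact IsPGroup.iff_card.2 ⟨k, by rw [Nat.card_zpowers, hk]⟩
  have hnorm : zpowers j ≤ Subgroup.normalizer (zpowers i : Set SL(2, F)) := by
    rw [zpowers_le, Subgroup.mem_normalizer_iff]
    intro w
    have hmap : (zpowers i).map (MulAut.conj j).toMonoidHom = zpowers i := by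
      rw [MonoidHom.map_zpowers]
      show zpowers (j * i * j⁻¹) = zpowers i
      rw [hji, zpowers_inv]
    conv_rhs => rw [← hmap]
    rw [Subgroup.mem_map_equiv]
    simp [mul_assoc]
  obtain ⟨P, hP⟩ := (IsPGroup.to_sup_of_normal_left' (hpg i hii) (hpg j hjj) hnorm).exists_le_sylow
  refine ⟨P, i, hP (le_sup_left (b := zpowers j) (mem_zpowers i)), j,
    hP (le_sup_right (a := zpowers i) (mem_zpowers j)), fun hc => ?_⟩
  have h := hji
  rw [← hc, mul_inv_cancel_right] at h
  have h00 := congrArg (fun w : SL(2, F) => (w : Matrix (Fin 2) (Fin 2) F) 0 1) h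
  simp only [Matrix.SpecialLinearGroup.coe_inv] at h00
  simp [i, Matrix.adjugate_fin_two_of] at h00
  exact h2F (by linear_combination h00)

section Quotient

variable {X : Type u} [Group X] [Finite X]

/-- In a core-free group with a central involution `zb`, semidihedral Sylow 2-subgroup and derived
subgroup `SL₂`, the centraliser of the derived subgroup is generated by the involution. -/
theorem centralizer_derived (hO : Cfsg.oddCore X = ⊥) (S : Sylow 2 X) {r : (S : Subgroup X)} {N : ℕ}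
    (hS : IsSD (S : Subgroup X) r N) {F : Type} [Field F] [Fintype F] (hF : Odd (Fintype.card F))
    (e : commutator X ≃* SL(2, F)) :
    centralizer (commutator X : Set X) = zpowers ((r : X) ^ (N / 2)) ∧
      (r : X) ^ (N / 2) ∈ commutator X := by
  haveI : Fact (Nat.Prime 2) := ⟨Nat.prime_two⟩
  set L := commutator X with hL
  set D := centralizer (L : Set X) with hD
  have hLn : L.Normal := inferInstance
  have hDn : D.Normal := inferInstance
  -- commutators of `D`
  have hcen : ∀ a ∈ D, ∀ b ∈ D, ⁅a, b⁆ * ⁅a, b⁆ = 1 ∧ ∀ d ∈ D, ⁅a, b⁆ * d = d * ⁅a, b⁆ := by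
    intro a ha b hb
    have hcL : ⁅a, b⁆ ∈ L := commutator_mem_commutator (mem_top _) (mem_top _)
    have hcD : ⁅a, b⁆ ∈ D := by
      rw [commutatorElement_def]; exact mul_mem (mul_mem (mul_mem ha hb) (inv_mem ha)) (inv_mem hb)
    refine ⟨?_, fun d hd => mem_centralizer_iff.1 hd _ hcL⟩
    have hc : e ⟨_, hcL⟩ ∈ center SL(2, F) := mem_center_iff.2 fun s => by
      have := mem_centralizer_iff.1 hcD _ (e.symm s).2
      rw [← e.apply_symm_apply s, ← map_mul, ← map_mul]
      exact congrArg e (Subtype.ext this)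
    obtain ⟨c, hc2, hcs⟩ := Matrix.SpecialLinearGroup.mem_center_iff.1 hc
    rw [Fintype.card_fin] at hc2
    have hsq : e ⟨_, hcL⟩ * e ⟨_, hcL⟩ = 1 := Subtype.ext (by
      rw [Matrix.SpecialLinearGroup.coe_mul, ← hcs, ← map_mul, ← pow_two, hc2, map_one]; rfl)
    exact congrArg Subtype.val (e.injective (show e (⟨_, hcL⟩ * ⟨_, hcL⟩) = e 1 by rw [map_mul, hsq, map_one]))
  have hoddcomm : ∀ a ∈ D, Odd (orderOf a) → ∀ b ∈ D, a * b = b * a := by
    intro a ha ho b hb
    obtain ⟨hc2, hcc⟩ := hcen a ha b hb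
    set c := ⁅a, b⁆ with hc
    have e1 : b * a * b⁻¹ = c⁻¹ * a := by rw [hc, commutatorElement_def]; group
    have e2 : (c⁻¹ * a) ^ orderOf a = 1 := by rw [← e1, conj_pow, pow_orderOf_eq_one]; group
    have hca : Commute c⁻¹ a := (show Commute c a from hcc a ha).inv_left
    rw [hca.mul_pow, pow_orderOf_eq_one, mul_one, inv_pow, inv_eq_one] at e2
    obtain ⟨k, hk⟩ := ho
    rw [hk, pow_succ, pow_mul, pow_two, hc2, one_pow, one_mul] at e2
    exact commutatorElement_eq_one_iff_mul_comm.1 e2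
  -- the elements of odd order of `D`
  let O : Subgroup X :=
    { carrier := {d | d ∈ D ∧ Odd (orderOf d)}
      one_mem' := ⟨one_mem _, by simp⟩
      mul_mem' := fun {a b} ha hb => ⟨mul_mem ha.1 hb.1,
        Odd.of_dvd_nat (ha.2.mul hb.2)
          ((Commute.orderOf_mul_dvd_lcm (hoddcomm a ha.1 ha.2 b hb.1)).trans (Nat.lcm_dvd_mul _ _))⟩
      inv_mem' := fun {a} ha => ⟨inv_mem ha.1, by rw [orderOf_inv]; exact ha.2⟩ }
  haveI : O.Normal := ⟨fun d hd g => ⟨hDn.conj_mem d hd.1 g, by
    show Odd (orderOf (g * d * g⁻¹))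
    rw [show orderOf (g * d * g⁻¹) = orderOf d from
      orderOf_injective (MulAut.conj g).toMonoidHom (MulAut.conj g).injective d]
    exact hd.2⟩⟩
  have hOodd : Odd (Nat.card O) := by
    rw [← Nat.not_even_iff_odd, even_iff_two_dvd]
    intro h
    obtain ⟨d, hd⟩ := exists_prime_orderOf_dvd_card' 2 h
    have := d.2.2
    rw [orderOf_coe, hd] at this
    exact absurd this (by decide)
  have hObot : O = ⊥ := eq_bot_iff.2 (hO ▸ Cores.le_oddCore hOodd)
  have hD2 : IsPGroup 2 D := by
    intro d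
    obtain ⟨a, o, ho, hao⟩ := Nat.exists_eq_pow_mul_and_not_dvd (orderOf_pos (d : X)).ne' 2 (by norm_num)
    refine ⟨a, Subtype.ext ?_⟩
    have hm : (d : X) ^ 2 ^ a ∈ O := by
      refine ⟨pow_mem d.2 _, Nat.odd_iff.2 (Nat.two_dvd_ne_zero.1 fun h => ho (h.trans (dvd_of_eq ?_)))⟩
      rw [orderOf_pow' _ (by positivity), hao, Nat.gcd_mul_right_left, Nat.mul_div_cancel_left _ (by positivity)]
    rw [hObot, mem_bot] at hm
    exact hm
  have hDS : D ≤ (S : Subgroup X) := IsPGroup.le_sylow_of_normal hD2 S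
  -- a reflection of `S` in `L`
  obtain ⟨P, a, ha, b, hb, hab⟩ := exists_noncomm (F := F) hF
  set P' : Subgroup X := ((P : Subgroup SL(2, F)).comap e.toMonoidHom).map L.subtype with hP'
  obtain ⟨T, hT⟩ := ((P.isPGroup'.comap_of_injective e.toMonoidHom e.injective).map L.subtype).exists_le_sylow
  obtain ⟨g, hg⟩ := MulAction.exists_smul_eq X T S
  have hmem : ∀ s ∈ (P : Subgroup SL(2, F)),
      g * (e.symm s : X) * g⁻¹ ∈ (S : Subgroup X) ∧ g * (e.symm s : X) * g⁻¹ ∈ L := by
    intro s hs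
    refine ⟨?_, hLn.conj_mem _ (e.symm s).2 g⟩
    rw [← hg]
    refine ⟨(e.symm s : X), hT ⟨e.symm s, ?_, rfl⟩, rfl⟩
    show e (e.symm s) ∈ (P : Subgroup SL(2, F))
    rw [e.apply_symm_apply]; exact hs
  obtain ⟨v, hvL, hvR⟩ : ∃ v : (S : Subgroup X), (v : X) ∈ L ∧ v ∉ zpowers r := by
    by_contra hc
    push Not at hc
    set u1 : (S : Subgroup X) := ⟨_, (hmem a ha).1⟩
    set u2 : (S : Subgroup X) := ⟨_, (hmem b hb).1⟩
    have := congrArg Subtype.val (hS.comm (hc u1 (hmem a ha).2) (hc u2 (hmem b hb).2))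
    refine hab (e.symm.injective ?_)
    rw [map_mul, map_mul]
    refine Subtype.ext ((MulAut.conj g).injective ?_)
    simpa [map_mul, u1, u2] using this
  obtain ⟨q, hqe, hq2, hN⟩ := hS.exists_quarter
  obtain ⟨q', rfl⟩ := hqe
  -- the square of the rotation is a commutator
  have hrr : (r : X) * r ∈ L := by
    obtain ⟨w, hw, -⟩ := hS.split
    have hc : ⁅(w : X), (r : X)⁆ ∈ L := commutator_mem_commutator (mem_top _) (mem_top _)
    have e1 : ⁅(w : X), (r : X)⁆ = ((r : X) * r) ^ (2 * q' - 1) := by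
      rw [commutatorElement_def, show (w : X) * r * (w : X)⁻¹ = ((w * r * w⁻¹ : (S : Subgroup X)) : X) from rfl,
        hS.conj w hw, SubgroupClass.coe_pow, ← pow_two, ← pow_mul, mul_inv_eq_iff_eq_mul, ← pow_succ]
      congr 1
      omega
    rw [e1] at hc
    obtain ⟨j, hj3, hj⟩ := hS.pow
    have hco : Nat.Coprime (2 * q' - 1) (orderOf ((r : X) * r)) := by
      refine Nat.Coprime.coprime_dvd_right (?_ : _ ∣ 2 ^ j) (Nat.Coprime.pow_right j ?_)
      · refine orderOf_dvd_of_pow_eq_one ?_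
        rw [← hj, ← pow_two, ← pow_mul, mul_comm, pow_mul, ← SubgroupClass.coe_pow, hS.pow_N, OneMemClass.coe_one,
          one_pow]
      · exact Nat.coprime_two_right.2 ⟨q' - 1, by omega⟩
    obtain ⟨k, hk⟩ := exists_pow_eq_self_of_coprime (x := (r : X) * r) hco
    rw [← hk]
    exact pow_mem hc k
  have hkey : ∀ d ∈ D, d = 1 ∨ d = (r : X) ^ (N / 2) := by
    intro d hd
    set dS : (S : Subgroup X) := ⟨d, hDS hd⟩ with hdS
    have hc2 : dS * (r * r) = r * r * dS :=
      Subtype.ext (mem_centralizer_iff.1 hd _ hrr).symm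
    have hdR : dS ∈ zpowers r := by
      by_contra hn
      have e := hS.conj_pow hn 2
      rw [pow_two, hc2, mul_inv_cancel_right, ← pow_two, pow_inj_mod, hS.ord, hN] at e
      have h1 : (2 : ℤ) % (8 * q') = ((4 * q' - 1 : ℤ) * 2) % (8 * q') := by
        have e' : ((2 : ℕ) : ℤ) % ((4 * (q' + q') : ℕ) : ℤ) =
            ((((4 * (q' + q')) / 2 - 1) * 2 : ℕ) : ℤ) % ((4 * (q' + q') : ℕ) : ℤ) := by
          exact_mod_cast e
        rw [show 4 * (q' + q') / 2 - 1 = 4 * q' - 1 by omega] at e'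
        push_cast [Nat.cast_sub (show 1 ≤ 4 * q' by omega)] at e'
        rwa [show (4 : ℤ) * (q' + q') = 8 * q' by ring] at e'
      obtain ⟨c, hc⟩ := Int.ModEq.dvd h1
      have : (8 : ℤ) * q' * (c - 1) = -4 := by linear_combination -hc
      have h8 : (8 : ℤ) ∣ 4 := ⟨-(q' * (c - 1)), by linarith⟩
      norm_num at h8
    have hdv : dS * v = v * dS := Subtype.ext (mem_centralizer_iff.1 hd _ hvL).symm
    obtain ⟨k, -, hk⟩ := hS.exists_pow hdR
    have e := hS.conj_pow hvR k
    rw [hk, ← hdv, mul_inv_cancel_right] at e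
    have hsq : dS * dS = 1 := by
      rw [← hk, pow_inj_mod, hS.ord] at e
      have e2 := Nat.modEq_iff_dvd.1 (show k ≡ (N / 2 - 1) * k [MOD N] from e)
      rw [← hk, ← pow_add, hS.pow_eq_one]
      obtain ⟨c, hc⟩ := e2
      have hh : ((N / 2 - 1 : ℕ) : ℤ) = 4 * q' - 1 := by omega
      push_cast [hh] at hc
      rw [hN] at hc
      push_cast at hc
      have hdvd : (N : ℤ) ∣ ((k + k : ℕ) : ℤ) * ((2 * q' : ℤ) - 1) := ⟨c, by
        push_cast [hN]; linear_combination hc⟩
      obtain ⟨j, -, hj⟩ := hS.pow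
      have hco : IsCoprime ((N : ℕ) : ℤ) ((2 * q' : ℤ) - 1) := by
        rw [hj, Nat.cast_pow, Nat.cast_ofNat]
        exact IsCoprime.pow_left ⟨(q' : ℤ), -1, by ring⟩
      exact Int.natCast_dvd_natCast.1 (hco.dvd_of_dvd_mul_right hdvd)
    rcases hS.sq_eq_one hdR hsq with h | h
    · exact Or.inl (congrArg Subtype.val h)
    · exact Or.inr (congrArg Subtype.val h)
  -- the involution of `L`
  set ζ : L := e.symm (-1) with hζ
  have hζD : (ζ : X) ∈ D := mem_centralizer_iff.2 fun l hl => by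
    have h : e (⟨l, hl⟩ * ζ) = e (ζ * ⟨l, hl⟩) := by
      rw [map_mul, map_mul, hζ, e.apply_symm_apply]; simp
    exact congrArg Subtype.val (e.injective h)
  have hζ1 : (ζ : X) ≠ 1 := fun h => by
    have h' : e ζ = 1 := by rw [show ζ = 1 from Subtype.ext h, map_one]
    rw [hζ, e.apply_symm_apply] at h'
    refine Forms.KleinPSL.ne_neg_self ?_ 1 h'.symm
    refine Ring.two_ne_zero fun h => ?_
    have := (FiniteField.even_card_iff_char_two (F := F)).1 h
    obtain ⟨k, hk⟩ := hF
    omega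
  have hz : (ζ : X) = (r : X) ^ (N / 2) := ((hkey _ hζD).resolve_left hζ1)
  refine ⟨le_antisymm (fun d hd => ?_) ?_, hz ▸ ζ.2⟩
  · rcases hkey d hd with h | h
    · exact h ▸ one_mem _
    · exact h ▸ mem_zpowers _
  · rw [zpowers_le, ← hz]; exact hζD

end Quotient

/-- The data exists. -/
theorem exists_data {G : Type u} [Group G] [Finite G] [IsSimpleGroup G]
    (hodd : ∀ q : ℕ, q.Prime → q ≠ 2 → ∀ P : Sylow q G, IsCyclic P) (S : Sylow 2 G)
    (hS : Cfsg.IsQuasiDihedral (S : Subgroup G)) : Nonempty (Data G) := by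
  haveI : Fact (Nat.Prime 2) := ⟨Nat.prime_two⟩
  obtain ⟨hidx, hone⟩ := Perm.CubicInsoluble.SDFacts.all_conj S hS
  obtain ⟨n, hn⟩ := S.2.exists_card_eq
  obtain ⟨r, hr⟩ := Blocks.Semidihedral.exists_isSD hn hS
  set N := 2 ^ (n - 1) with hN
  obtain ⟨w, hw, hw2⟩ := hr.split
  set σ : G := (r : G) with hσ
  set z : G := σ ^ (N / 2) with hz
  have hzS : ((r ^ (N / 2) : (S : Subgroup G)) : G) = z := SubgroupClass.coe_pow _ _
  have hoz : orderOf z = 2 := by
    rw [← hzS, orderOf_coe]
    exact orderOf_eq_prime (by rw [pow_two]; exact hr.z_facts.2) hr.z_facts.1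
  set C := centralizer ({z} : Set G) with hC
  have hSC : (S : Subgroup G) ≤ C := fun s hs => mem_centralizer_singleton_iff.2 (by
    rw [← hzS]; exact congrArg Subtype.val (hr.z_central ⟨s, hs⟩))
  set K := Cfsg.oddCore C with hK
  set Sc : Sylow 2 C := S.subtype hSC with hSc
  set mk := QuotientGroup.mk' K with hmk
  set SX : Sylow 2 (C ⧸ K) := Sc.mapSurjective (QuotientGroup.mk'_surjective K) with hSX
  set f : (S : Subgroup G) →* C ⧸ K := mk.comp (inclusion hSC) with hf
  have hfi : Function.Injective f := by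
    rw [← MonoidHom.ker_eq_bot_iff, eq_bot_iff]
    intro s hs
    obtain ⟨k, hk⟩ := S.2 s
    have hsK : inclusion hSC s ∈ K := (QuotientGroup.eq_one_iff _).1 hs
    refine mem_bot.2 (inclusion_injective hSC ?_)
    rw [map_one]
    refine orderOf_eq_one_iff.1 (Nat.eq_one_of_dvd_coprimes (a := 2 ^ k) (b := Nat.card K)
      (Nat.Coprime.pow_left k (Nat.coprime_two_left.2 Cores.oddCore_odd))
      (orderOf_dvd_of_pow_eq_one (by rw [← map_pow, hk, map_one])) (K.orderOf_dvd_natCard hsK))
  have hrange : f.range = (SX : Subgroup (C ⧸ K)) := by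
    ext x
    constructor
    · rintro ⟨s, rfl⟩
      exact ⟨inclusion hSC s, mem_subgroupOf.2 s.2, rfl⟩
    · rintro ⟨c, hc, rfl⟩
      exact ⟨⟨c, mem_subgroupOf.1 hc⟩, rfl⟩
  set φ : (S : Subgroup G) ≃* (SX : Subgroup (C ⧸ K)) :=
    (MonoidHom.ofInjective hfi).trans (MulEquiv.subgroupCongr hrange) with hφ
  have hrX := hr.map_equiv φ
  have hcycC : ∀ q : ℕ, q.Prime → q ≠ 2 → ∀ P : Sylow q (C ⧸ K), IsCyclic P := by
    intro q hq hq2 P
    haveI := Fact.mk hq
    obtain ⟨Q, rfl⟩ := Sylow.mapSurjective_surjective (QuotientGroup.mk'_surjective K) q P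
    obtain ⟨R, hR⟩ := (Q.2.map C.subtype).exists_le_sylow
    haveI := hodd q hq hq2 R
    haveI : IsCyclic (Q : Subgroup C) := by
      set e1 := (Q : Subgroup C).equivMapOfInjective _ C.subtype_injective
      exact isCyclic_of_injective ((inclusion hR).comp e1.toMonoidHom)
        fun a b e => e1.injective (inclusion_injective hR e)
    exact isCyclic_of_surjective _ (mk.subgroupMap_surjective (Q : Subgroup C))
  obtain ⟨F, iF, iT, hF, ⟨e⟩⟩ := S1240.result S (Or.inl hS) hidx hone z hoz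
  obtain ⟨hp, hp2⟩ := card_field_prime e hF hcycC
  set p := Fintype.card F with hpc
  haveI := Fact.mk hp
  have er : ZMod p ≃+* F := ZMod.ringEquivOfPrime F hp rfl
  let eSL : SL(2, F) ≃* SL(2, ZMod p) :=
    { toFun := Matrix.SpecialLinearGroup.map er.symm.toRingHom
      invFun := Matrix.SpecialLinearGroup.map er.toRingHom
      left_inv := fun s => by ext i j; simp
      right_inv := fun s => by ext i j; simp
      map_mul' := fun a b => map_mul _ a b }
  set e' := e.trans eSL with he'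
  have hO : Cfsg.oddCore (C ⧸ K) = ⊥ := Cores.pPrimeCore_quotient_self 2
  obtain ⟨hD, hzL⟩ := centralizer_derived hO SX hrX (F := F) hF e
  set zb : C ⧸ K := ((φ r : (SX : Subgroup (C ⧸ K))) : C ⧸ K) ^ (N / 2) with hzb
  have hzb' : zb = mk ⟨z, mem_centralizer_singleton_iff.2 rfl⟩ := by
    rw [hzb, show ((φ r : (SX : Subgroup (C ⧸ K))) : C ⧸ K) = mk (inclusion hSC r) from rfl, ← map_pow]
    rfl
  obtain ⟨ψ, hψ⟩ := LocalPGL.exists_aut_hom (p := p) hp2
  set L := commutator (C ⧸ K) with hL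
  haveI : L.Normal := inferInstance
  set θ : C ⧸ K →* Matrix.ProjGenLinGroup (Fin 2) (ZMod p) :=
    ψ.comp ((MulAut.congr e').toMonoidHom.comp MulAut.conjNormal) with hθ
  have hker : ∀ x : C ⧸ K, θ x = 1 ↔ x ∈ zpowers zb := by
    intro x
    rw [← hD, mem_centralizer_iff]
    show ψ (MulAut.congr e' (MulAut.conjNormal x)) = 1 ↔ _
    rw [← map_one ψ, hψ.eq_iff, ← map_one (MulAut.congr e'), (MulAut.congr e').injective.eq_iff]
    constructor
    · intro h l hl
      have := congrArg (fun a : MulAut L => ((a ⟨l, hl⟩ : L) : C ⧸ K)) h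
      simp only [MulAut.conjNormal_apply, MulAut.one_apply] at this
      exact (mul_inv_eq_iff_eq_mul.1 this).symm
    · intro h
      refine MulEquiv.ext fun l => Subtype.ext ?_
      rw [MulAut.conjNormal_apply, MulAut.one_apply, ← h _ l.2, mul_inv_cancel_right]
  have hoz' : orderOf zb = 2 := by
    rw [hzb, ← SubgroupClass.coe_pow, orderOf_coe]
    exact orderOf_eq_prime (by rw [pow_two]; exact hrX.z_facts.2) hrX.z_facts.1
  have hwL : ((φ w : (SX : Subgroup (C ⧸ K))) : C ⧸ K) ∉ L := by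
    intro hwL
    have hinvL : ∀ l : L, l * l = 1 → l ≠ 1 → e' l = -1 := by
      intro l hl hl1
      refine Subtype.ext ?_
      rw [Matrix.SpecialLinearGroup.coe_neg, Matrix.SpecialLinearGroup.coe_one]
      refine S0268.result (LocalPGL.odd_card hp2) _ (fun h => hl1 ?_) (by rw [← map_mul, hl, map_one])
      exact e'.injective (h.trans (map_one e').symm)
    have h1 := hinvL ⟨_, hwL⟩ (Subtype.ext (by
      show ((φ w : (SX : Subgroup (C ⧸ K))) : C ⧸ K) * (φ w : (SX : Subgroup (C ⧸ K))) = 1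
      rw [← Subgroup.coe_mul, ← map_mul, hw2, map_one]; rfl))
      (fun h => hw (by
        have h0 : ((φ w : (SX : Subgroup (C ⧸ K))) : C ⧸ K) = 1 := congrArg (fun a : L => (a : C ⧸ K)) h
        have h' : φ w = φ 1 := Subtype.ext (by rw [map_one]; exact h0)
        rw [φ.injective h']; exact one_mem _))
    have h2 := hinvL ⟨zb, hzL⟩ (Subtype.ext (Involutions.Basic.inv_sq_one hoz'))
      (fun h => Involutions.Basic.ne_one hoz' (congrArg Subtype.val h))
    have h3 : φ w = φ (r ^ (N / 2)) := Subtype.ext (by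
      rw [map_pow, SubgroupClass.coe_pow]
      exact congrArg Subtype.val (e'.injective (h1.trans h2.symm)))
    exact hw (φ.injective h3 ▸ pow_mem (mem_zpowers r) _)
  have hsurj : Function.Surjective θ := by
    rw [← MonoidHom.range_eq_top]
    refine Subgroup.eq_top_of_le_card _ ?_
    have hkc : Nat.card θ.ker = 2 := by
      rw [show θ.ker = zpowers zb from Subgroup.ext fun x => MonoidHom.mem_ker.trans (hker x),
        Nat.card_zpowers, hoz']
    have h1 : Nat.card θ.range * 2 = Nat.card (C ⧸ K) := by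
      have h0 := θ.ker.index_mul_card
      rwa [hkc, index_ker] at h0
    have h2 := L.card_mul_index
    have hLc : Nat.card L = p * ((p - 1) * (p + 1)) := by
      rw [Nat.card_congr e'.toEquiv, Classical.GL2.natCard_SL_two, ZMod.card]
    have hidxL : 2 ≤ L.index := by
      have hne : L.index ≠ 1 := fun h => hwL (by rw [index_eq_one.1 h]; exact mem_top _)
      have := L.index_ne_zero_of_finite
      omega
    rw [XGroup.card_PP, ← hLc]
    nlinarith
  obtain ⟨j, hj3, hj⟩ := hr.pow
  refine (Pre.exists_data (G := G)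
    { p := p, hp := ⟨hp⟩, p_odd := hp2, S := S, σ := σ, t := (w : G), N := N, N_pow := ⟨j, hj3, hj⟩
      σ_mem := r.2, t_mem := w.2, order_σ := by rw [hσ, orderOf_coe, hr.ord]
      t_sq := congrArg Subtype.val hw2
      t_notMem := fun h => hw (by
        obtain ⟨i, hi⟩ := mem_zpowers_iff.1 h
        exact mem_zpowers_iff.2 ⟨i, Subtype.ext (by rw [SubgroupClass.coe_zpow]; exact hi)⟩)
      rel := by
        have := congrArg Subtype.val (hr.conj w hw)
        simpa using this
      card_S := hr.card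
      K := K, K_normal := inferInstance
      K_odd := fun h => Nat.not_even_iff_odd.2 Cores.oddCore_odd (even_iff_two_dvd.2 h)
      π := θ.comp mk
      π_surj := hsurj.comp (QuotientGroup.mk'_surjective K)
      π_ker := fun c => ?_ } hodd)
  show θ (mk c) = 1 ↔ _
  rw [hker, ← QuotientGroup.eq_one_iff (N := K) c, ← QuotientGroup.eq_one_iff (N := K)]
  constructor
  · intro h
    obtain ⟨i, hi⟩ := mem_zpowers_iff.1 h
    have h2 : zb ^ (2 : ℤ) = 1 := by rw [zpow_ofNat, ← hoz', pow_orderOf_eq_one]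
    rcases Int.even_or_odd i with ⟨k, rfl⟩ | ⟨k, rfl⟩
    · left
      show mk c = 1
      rw [← hi, ← two_mul, _root_.zpow_mul, h2, _root_.one_zpow]
    · right
      show mk (c * _) = 1
      rw [map_mul, ← hi, _root_.zpow_add, _root_.zpow_mul, h2, _root_.one_zpow, one_mul, _root_.zpow_one]
      nth_rw 1 [hzb']
      rw [← map_mul]
      refine (congrArg mk (Subtype.ext ?_)).trans (map_one mk)
      exact Involutions.Basic.inv_sq_one hoz
  · rintro (h | h)
    · rw [show mk c = 1 from h]; exact one_mem _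
    · refine mem_zpowers_iff.2 ⟨-1, ?_⟩
      have h' : mk c * zb = 1 := by
        rw [hzb', ← map_mul]; exact h
      rw [_root_.zpow_neg_one]
      exact (eq_inv_of_mul_eq_one_left h').symm

end Cfsg.Agent.CycSD
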