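import Mathlib
import Cfsg.Agent.Lib.CycSD.Defs
import Cfsg.Agent.Lib.CycSD.Count
import Cfsg.Agent.Lib.CycSD.Five
import Cfsg.Agent.Lib.CycSD.LocalParts
import Cfsg.Agent.Lib.CycSD.LocalExists
import Cfsg.Agent.Lib.CentFour.Setup

/-!
# No simple group with semidihedral Sylow 2-subgroups and cyclic odd Sylow subgroups
-/

set_option autoImplicit false
set_option linter.unusedSectionVars false
set_option linter.style.haveILetI false

namespace Cfsg.Agent.CycSD

open Cfsg.Agent.Blocks Cfsg.Agent.Characters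

universe u

/-- The case `p = 3`. -/
theorem three_arith {F1 F2 : ℤ} {g c o t N : ℕ} (hF : F1 % 2 = 1) (hg : g ≠ 0) (hc : c ≠ 0) (ho : o ≠ 0)
    (ht : t ≠ 0) (hN : N ≠ 0) (hne1 : F1 + 1 ≠ 0) (hrel : (-F1 - 9) * (F2 - 9) = 72)
    {n : ℕ} (hn : 4 ≤ n) (hg2 : g.factorization 2 = n) (hc2 : c.factorization 2 = n)
    (hN2 : N.factorization 2 = n - 1) (ho2 : o.factorization 2 = 0) (ht2 : t.factorization 2 = 0)
    (hg3 : g.factorization 3 = c.factorization 3) (ho3 : o.factorization 3 < c.factorization 3)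
    (ht3 : t.factorization 3 ≤ o.factorization 3) (hN3 : N.factorization 3 = 0)
    (heq : 4 * (t : ℤ) ^ 2 * g * (F1 + 3) ^ 2 = (c : ℤ) ^ 2 * o * N * (F1 * (F1 + 1))) : False := by
  have hne0 : F1 ≠ 0 := by omega
  have hne3 : F1 + 3 ≠ 0 := fun h => by
    rw [h] at heq
    simp [hc, ho, hN, hne0, hne1] at heq
  have hnat : 4 * t ^ 2 * g * (F1 + 3).natAbs ^ 2 = c ^ 2 * o * N * (F1.natAbs * (F1 + 1).natAbs) := by
    have := congrArg Int.natAbs heq
    simpa [Int.natAbs_mul, Int.natAbs_pow] using this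
  set a := (F1 + 3).natAbs
  set b := (F1 + 1).natAbs
  set f := F1.natAbs
  have ha : a ≠ 0 := Int.natAbs_ne_zero.2 hne3
  have hb : b ≠ 0 := Int.natAbs_ne_zero.2 hne1
  have hf : f ≠ 0 := Int.natAbs_ne_zero.2 hne0
  have key : ∀ r : ℕ, (4 : ℕ).factorization r + 2 * t.factorization r + g.factorization r +
      2 * a.factorization r = 2 * c.factorization r + o.factorization r + N.factorization r +
        (f.factorization r + b.factorization r) := fun r => by
    have := congrArg (fun n => n.factorization r) hnat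
    simpa [Nat.factorization_mul, Nat.factorization_pow, ht, hg, hc, ho, hN, ha, hb, hf] using this
  have h4 : (4 : ℕ).factorization 2 = 2 := by
    rw [show (4 : ℕ) = 2 ^ 2 from rfl, Nat.prime_two.factorization_pow]; simp
  have hb2 : 1 ≤ b.factorization 2 :=
    (Nat.prime_two.dvd_iff_one_le_factorization hb).1 (by omega)
  have k2 := key 2
  rw [h4, hg2, hc2, hN2, ho2, ht2,
    Nat.factorization_eq_zero_of_not_dvd (show ¬ 2 ∣ f by omega)] at k2
  have h8 : 2 ^ 3 ∣ a := (Nat.prime_two.pow_dvd_iff_le_factorization ha).2 (by omega)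
  have hx : (-F1 - 9) % 8 = 2 := by omega
  have hdvd : (-F1 - 9) ∣ 72 := ⟨_, hrel.symm⟩
  have hle := Int.natAbs_le_of_dvd_ne_zero hdvd (by norm_num)
  obtain ⟨k, hk⟩ : ∃ k, -F1 - 9 = 8 * k + 2 := ⟨(-F1 - 9) / 8, by omega⟩
  rw [hk] at hdvd hle
  have hk1 : -9 ≤ k := by omega
  have hk2 : k ≤ 8 := by omega
  have hcase : k = 0 ∨ k = 2 ∨ k = -1 := by interval_cases k <;> revert hdvd <;> decide
  have k3 := key 3
  have h43 : (4 : ℕ).factorization 3 = 0 := Nat.factorization_eq_zero_of_not_dvd (by decide)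
  rw [h43, hN3, hg3] at k3
  rcases hcase with rfl | rfl | rfl
  · have e1 : F1 = -11 := by omega
    simp only [a, b, f, e1, show ((-11 : ℤ) + 3).natAbs = 8 from rfl, show (-11 : ℤ).natAbs = 11 from rfl,
      show ((-11 : ℤ) + 1).natAbs = 10 from rfl] at k3
    rw [Nat.factorization_eq_zero_of_not_dvd (show ¬ 3 ∣ 8 by decide),
      Nat.factorization_eq_zero_of_not_dvd (show ¬ 3 ∣ 11 by decide),
      Nat.factorization_eq_zero_of_not_dvd (show ¬ 3 ∣ 10 by decide)] at k3
    omega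
  · have e1 : F1 = -27 := by omega
    simp only [a, b, f, e1, show ((-27 : ℤ) + 3).natAbs = 24 from rfl, show (-27 : ℤ).natAbs = 27 from rfl,
      show ((-27 : ℤ) + 1).natAbs = 26 from rfl] at k3
    rw [show (24 : ℕ) = 3 * 8 from rfl, show (27 : ℕ) = 3 ^ 3 from rfl, Nat.prime_three.factorization_pow,
      Finsupp.single_eq_same,
      Nat.factorization_mul (by norm_num) (by norm_num), Finsupp.add_apply,
      Nat.prime_three.factorization_self,
      Nat.factorization_eq_zero_of_not_dvd (show ¬ 3 ∣ 8 by decide),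
      Nat.factorization_eq_zero_of_not_dvd (show ¬ 3 ∣ 26 by decide)] at k3
    omega
  · exact hne3 (by omega)

theorem no_data {G : Type u} [Group G] [Finite G] [IsSimpleGroup G]
    (hodd : ∀ q : ℕ, q.Prime → q ≠ 2 → ∀ P : Sylow q G, IsCyclic P) (D : Data G) : False := by
  classical
  haveI := D.hp
  haveI := Fintype.ofFinite (Cfsg.IrrCharacter G)
  obtain ⟨M, hM⟩ := CentFour.exists_modular_two
  obtain ⟨F1, F2, hFo, hd1, hd2, hne, hrel, hsum⟩ := Data.exists_degrees (D := D) hM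
  have hcount := D.count hM
  rw [hsum] at hcount
  set g := Nat.card G with hg
  set c := Nat.card (Subgroup.centralizer ({D.z} : Set G)) with hc
  set s := XGroup.sgnP D.p with hs
  have hg0 : g ≠ 0 := Nat.card_pos.ne'
  have hc0 : c ≠ 0 := Nat.card_pos.ne'
  have hN0 : D.N ≠ 0 := NeZero.ne _
  have hF0 : F1 ≠ 0 := by omega
  have heqI : 4 * (D.ot : ℤ) ^ 2 * g * (F1 - s * D.p) ^ 2 =
      (c : ℤ) ^ 2 * D.o * D.N * (F1 * (F1 + 1)) := by
    apply Int.cast_injective (α := ℂ)
    push_cast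
    have e1 : (F1 : ℂ) ≠ 0 := Int.cast_ne_zero.2 hF0
    have e2 : (F1 : ℂ) + 1 ≠ 0 := by exact_mod_cast hne
    rw [← mul_div_assoc, div_eq_iff (mul_ne_zero e1 e2)] at hcount
    linear_combination hcount
  -- parts
  have ho0 : D.o ≠ 0 := fun h => by
    have := D.card_H2; rw [h, mul_zero] at this; exact Nat.card_pos.ne' this
  have hoodd : ¬ 2 ∣ D.o := by
    obtain ⟨O, -, hodd', hO, -⟩ := D.exists_O
    rwa [Nat.eq_of_mul_eq_mul_left (NeZero.pos D.N) (D.card_H2.symm.trans hO)]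
  have hto : D.ot ∣ D.o := by
    refine Dvd.intro_left _ (D.card_J (i := D.t) ?_ ?_)
    · exact orderOf_eq_prime ((pow_two _).trans D.t_sq) fun h => D.t_notMem (h ▸ one_mem _)
    · rw [D.t_sq]; exact one_mem _
  have hot0 : D.ot ≠ 0 := fun h => ho0 (Nat.eq_zero_of_zero_dvd (h ▸ hto))
  have htodd : ¬ 2 ∣ D.ot := fun h => hoodd (h.trans hto)
  obtain ⟨j, hj, hN⟩ := D.N_pow
  have hN2 : D.N.factorization 2 = j := by rw [hN, Nat.prime_two.factorization_pow]; simp
  have hg2 : g.factorization 2 = j + 1 := by rw [hg, D.factorization_G, hN2]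
  have hc2 : c.factorization 2 = j + 1 := by rw [hc, D.factorization_C, hN2]
  have hNr : ∀ r : ℕ, r.Prime → r ≠ 2 → ¬ r ∣ D.N := fun r hr hr2 h => hr2
    ((Nat.prime_dvd_prime_iff_eq hr Nat.prime_two).1 (hr.dvd_of_dvd_pow (hN ▸ h)))
  have hs1 : s = 1 ∨ s = -1 := XGroup.sgnP_eq D.p
  have hss : s * s = 1 := by rcases hs1 with e | e <;> simp [e]
  have hp2 : 2 ≤ D.p := D.hp.out.two_le
  have hpodd : D.p % 2 = 1 := (D.hp.out.eq_two_or_odd).resolve_left D.p_odd
  by_cases h3 : D.p = 3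
  · have hs3 : s = -1 := by rw [hs, XGroup.sgnP, if_neg (by omega)]
    obtain ⟨h31, h32⟩ := D.three_parts hodd h3
    rw [hs3, h3] at heqI
    rw [h3] at hrel
    refine three_arith hFo hg0 hc0 ho0 hot0 hN0 hne (F2 := F2) (by norm_num at hrel ⊢; linarith)
      (n := j + 1) (by omega) hg2 hc2 (by rw [hN2, Nat.add_sub_cancel])
      (Nat.factorization_eq_zero_of_not_dvd hoodd) (Nat.factorization_eq_zero_of_not_dvd htodd)
      h31 h32 (Finsupp.le_def.1 ((Nat.factorization_le_iff_dvd hot0 ho0).2 hto) 3)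
      (Nat.factorization_eq_zero_of_not_dvd (hNr 3 Nat.prime_three (by norm_num))) ?_
    rw [← heqI]
    norm_num
  have h5 : 5 ≤ D.p := by
    by_contra h
    have : D.p = 4 := by omega
    omega
  obtain ⟨P, hP⟩ : ∃ P : ℤ, P = -(s * D.p) := ⟨_, rfl⟩
  have hPsq : (D.p : ℤ) ^ 2 = P ^ 2 := by rw [hP]; linear_combination -(D.p : ℤ) ^ 2 * hss
  have hPabs : P.natAbs = D.p := by
    rw [hP, Int.natAbs_neg, Int.natAbs_mul]
    rcases hs1 with e | e <;> simp [e]
  have hP4 : P % 4 = 3 := by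
    rw [hP, hs, XGroup.sgnP]
    split_ifs <;> omega
  have hnd : ∀ F : ℤ, F.natAbs ∣ g → ¬ P ^ 2 ∣ F := fun F hF h => by
    have h2 : D.p ^ 2 ∣ g := by
      refine dvd_trans ?_ hF
      have := Int.natAbs_dvd_natAbs.2 h
      rwa [Int.natAbs_pow, hPabs] at this
    have := (D.hp.out.pow_dvd_iff_le_factorization hg0).1 h2
    rw [hg, D.card_p hodd h5] at this
    omega
  rw [hPsq] at hrel
  obtain ⟨A, B, hA, -, hAB⟩ := prime_dvd_both hPabs (hnd F1 hd1) (hnd F2 hd2) hrel
  have heq : (g : ℤ) * (D.ot : ℤ) ^ 2 * 4 * P ^ 2 * (A - 1) ^ 2 =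
      (c : ℤ) ^ 2 * D.N * D.o * (P * A) * (P * A - 1) := by
    have e : F1 - s * D.p = -(P * (A - 1)) := by rw [hA, hP]; ring
    rw [e, hA] at heqI
    linear_combination heqI
  have hAo : A % 2 = 1 := by
    have h1 : (P * A) % 2 = 1 := by rw [show P * A = -F1 by rw [hA]; ring]; omega
    rcases Int.emod_two_eq_zero_or_one A with h | h
    · rw [Int.mul_emod, h, mul_zero] at h1; simp at h1
    · exact h
  have hA1 : A ≠ 1 := fun h => by
    subst h
    have hP1 : P - 1 ≠ 0 := by omega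
    have hP0 : P ≠ 0 := by omega
    simp [hc0, hN0, ho0, hP1, hP0] at heq
  have hA1' : (A - 1).natAbs ≠ 0 := Int.natAbs_ne_zero.2 (sub_ne_zero.2 hA1)
  have h2part := two_part (n := j + 1) hP4 hAo hA1 (by omega) (by rw [Nat.add_sub_cancel, hN]) hg0 hc0 hoodd
    htodd hg2 hc2 heq
  obtain ⟨w, hw⟩ := D.exists_w
  set X := Nat.card (Cfsg.Agent.Forms.DicksonPGL.torus w) with hX
  have hXc : (X : ℤ) = D.p - s := XGroup.card_torus D.p_odd hw
  have hXP : P + 1 = -s * X := by rw [hXc, hP]; linear_combination -hss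
  have hX2 : X.factorization 2 = j - 1 := by
    have := congrArg (fun n => n.factorization 2) (D.torus_two hw)
    rw [show D.N / 2 = 2 ^ (j - 1) by
      rw [hN, Nat.div_eq_iff_eq_mul_left two_pos (dvd_pow_self 2 (by omega)), ← pow_succ,
        Nat.sub_add_cancel (by omega)]] at this
    simpa [Nat.factorization_pow, Nat.prime_two.factorization_self] using this
  have hXdvd : X ∣ c := by
    rw [hc, D.card_C]
    exact dvd_mul_of_dvd_right (Subgroup.card_subgroup_dvd_card _) _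
  have h2X : 2 * X ∣ (A - 1).natAbs := by
    rw [← Nat.factorization_le_iff_dvd (by have := Nat.card_pos (α := Cfsg.Agent.Forms.DicksonPGL.torus w); omega) hA1',
      Finsupp.le_def]
    intro r
    by_cases hr : r.Prime
    swap
    · simp [Nat.factorization_eq_zero_of_not_prime, hr]
    rw [Nat.factorization_mul two_ne_zero Nat.card_pos.ne', Finsupp.add_apply]
    by_cases hr2 : r = 2
    · subst hr2
      rw [Nat.prime_two.factorization_self, hX2, show 1 + (j - 1) = j by omega,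
        ← Nat.prime_two.pow_dvd_iff_le_factorization hA1']
      rw [Nat.add_sub_cancel] at h2part
      have := Int.natAbs_dvd_natAbs.2 h2part
      simpa [Int.natAbs_pow] using this
    · rw [Nat.factorization_eq_zero_of_not_dvd (n := 2) (p := r)
        (fun h => hr2 ((Nat.prime_dvd_prime_iff_eq hr Nat.prime_two).1 h)), zero_add]
      by_cases hrX : r ∣ X
      swap
      · rw [Nat.factorization_eq_zero_of_not_dvd hrX]; exact Nat.zero_le _
      have hrI : (r : ℤ) ∣ X := Int.natCast_dvd_natCast.2 hrX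
      obtain ⟨h0, hgr, hor, htr⟩ := D.torus_parts hodd hr hr2 (by rw [← hs, ← hXc]; exact hrI)
      refine le_trans (Finsupp.le_def.1 ((Nat.factorization_le_iff_dvd Nat.card_pos.ne' hc0).2 hXdvd) r) ?_
      rw [← hr.pow_dvd_iff_le_factorization hA1']
      have := Int.natAbs_dvd_natAbs.2 (torus_part hr hr2 (P := P) (by rw [hXP]; exact hrI.mul_left _) hA1
        hg0 hc0 ho0 (hNr r hr hr2) hN0 htr h0 hgr rfl hor heq)
      simpa [Int.natAbs_pow] using this
  have hdiv : 2 * (P + 1) ∣ A - 1 := by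
    rw [hXP, ← Int.natAbs_dvd_natAbs, Int.natAbs_mul, Int.natAbs_mul]
    rcases hs1 with e | e <;> simpa [e] using h2X
  obtain ⟨rfl, rfl⟩ := only_five hP4 (hPabs.symm ▸ h5) hA1 hdiv ⟨B - P, hAB.symm⟩
  refine D.five hodd (by rw [← hPabs]; rfl) ?_
  show (g : ℤ) * (D.ot : ℤ) ^ 2 * 4 * 25 * 64 = (c : ℤ) ^ 2 * D.N * D.o * 1190
  linear_combination heq

/-- No finite simple group has semidihedral Sylow 2-subgroups and cyclic odd Sylow subgroups. -/
theorem noSimpleCycSD : NoSimpleCycSD.{u} := by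
  intro G _ _ hG S hS hodd
  haveI := hG
  obtain ⟨D⟩ := exists_data hodd S hS
  exact no_data hodd D

end Cfsg.Agent.CycSD
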