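import Cfsg.Agent.Lib.CycSD.OuterCover
import Cfsg.Agent.Lib.MinNonCA.NotPerfect

/-!
# S4069, outer part

The structure of a non-solvable group with cyclic odd Sylow subgroups and nearly cyclic Sylow
2-subgroups, given that no simple one has semidihedral Sylow 2-subgroups.
-/

set_option autoImplicit false
set_option linter.unusedSectionVars false
set_option linter.style.haveILetI false

namespace Cfsg.Agent.CycSD.Outer

open Subgroup Matrix
open scoped MatrixGroups
open Cfsg.Agent.MinNonCA.Cover (mkP mkP_eq_one mkP_surjective center_sl)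
open Cfsg.Agent.AutPSL.Basic Cfsg.Agent.AutPSL.Main Cfsg.Agent.AutPSL.Out Cfsg.Agent.AutPSL.Conj

section PSL

variable {p : ℕ} [hp : Fact p.Prime]

local notation "F" => ZMod p
local notation "PSL2" => Matrix.ProjectiveSpecialLinearGroup (Fin 2) (ZMod p)

theorem odd_card_zmod (h5 : 5 ≤ p) : Odd (Fintype.card F) := by
  rw [ZMod.card]; exact hp.out.odd_of_ne_two (by omega)

/-- Two commuting involutions of `PSL(2,p)`. -/
theorem exists_four (h5 : 5 ≤ p) :
    ∃ u v : PSL2, u * u = 1 ∧ v * v = 1 ∧ u ≠ 1 ∧ v ≠ 1 ∧ u ≠ v ∧ u * v = v * u := by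
  obtain ⟨a, b, hab⟩ := ZMod.sq_add_sq p (-1 : F)
  have h2 : (2 : F) ≠ 0 := by
    intro h
    have := (ZMod.natCast_eq_zero_iff 2 p).1 (by exact_mod_cast h) |> Nat.le_of_dvd two_pos
    omega
  let J : SL(2, F) := ⟨!![0, 1; -1, 0], by simp [Matrix.det_fin_two]⟩
  let K : SL(2, F) := ⟨!![a, b; b, -a], by simp [Matrix.det_fin_two]; linear_combination -hab⟩
  have hJc : (J : Matrix (Fin 2) (Fin 2) F) = !![0, 1; -1, 0] := rfl
  have hKc : (K : Matrix (Fin 2) (Fin 2) F) = !![a, b; b, -a] := rfl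
  clear_value J K
  have hneg : mkP (-1 : SL(2, F)) = 1 := mkP_eq_one.2 (Subgroup.mem_center_iff.2 fun g => by simp)
  have hJJ : J * J = -1 := by
    apply Subtype.ext
    ext i j
    fin_cases i <;> fin_cases j <;> simp [hJc, Matrix.mul_apply, Fin.sum_univ_two]
  have hKK : K * K = -1 := by
    apply Subtype.ext
    ext i j
    fin_cases i <;> fin_cases j <;> simp [hKc, Matrix.mul_apply, Fin.sum_univ_two] <;> first | linear_combination hab | ring
  have hJK : K * J = -(J * K) := by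
    apply Subtype.ext
    ext i j
    fin_cases i <;> fin_cases j <;> simp [hJc, hKc, Matrix.mul_apply, Fin.sum_univ_two]
  have hm : ∀ {s : SL(2, F)}, mkP s = 1 → s = 1 ∨ s = -1 := fun hs => center_sl (odd_card_zmod h5) (mkP_eq_one.1 hs)
  refine ⟨mkP J, mkP K, by rw [← map_mul, hJJ, hneg], by rw [← map_mul, hKK, hneg], fun h => ?_, fun h => ?_,
    fun h => ?_, ?_⟩
  · rcases hm h with e | e <;>
      · have := congrArg (fun s : SL(2, F) => (s : Matrix (Fin 2) (Fin 2) F) 0 1) e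
        simp [hJc] at this
  · rcases hm h with e | e <;>
      · have e0 := congrArg (fun s : SL(2, F) => (s : Matrix (Fin 2) (Fin 2) F) 0 0) e
        have e1 := congrArg (fun s : SL(2, F) => (s : Matrix (Fin 2) (Fin 2) F) 1 1) e
        simp [hKc] at e0 e1
        refine h2 ?_
        first | linear_combination e0 - e1 | linear_combination e1 - e0 | linear_combination -e0 - e1
  · have h' : mkP (J * K) = 1 := by rw [map_mul, ← h, ← map_mul, hJJ, hneg]
    rcases hm h' with e | e <;>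
      · have e0 := congrArg (fun s : SL(2, F) => (s : Matrix (Fin 2) (Fin 2) F) 0 0) e
        have e1 := congrArg (fun s : SL(2, F) => (s : Matrix (Fin 2) (Fin 2) F) 1 1) e
        simp [hJc, hKc, Matrix.mul_apply, Fin.sum_univ_two] at e0 e1
        refine h2 ?_
        first | linear_combination e0 - e1 | linear_combination e1 - e0 | linear_combination -e0 - e1
  · rw [← map_mul, ← map_mul, hJK, ← neg_one_mul (J * K), map_mul mkP (-1), hneg, one_mul]

/-- An automorphism is conjugation by a matrix. -/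
theorem exists_gAut (β : MulAut PSL2) : ∃ g : GL (Fin 2) F, β = gAut g := by
  obtain ⟨g, σ, h⟩ := exists_decomp_two β
  have hσ : σ = 1 := RingEquiv.ext fun x => by
    rw [← ZMod.natCast_zmod_val x, map_natCast, map_natCast]
  exact ⟨g, by rw [h, hσ, map_one, mul_one]⟩

/-- Conjugation by a matrix with square determinant is inner. -/
theorem gAut_of_isSquare (g : GL (Fin 2) F) (hg : IsSquare (GeneralLinearGroup.det g)) :
    ∃ u : PSL2, gAut g = MulAut.conj u := by
  obtain ⟨d, hd⟩ := hg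
  set w : GL (Fin 2) F := sc d⁻¹ * g with hw
  have hdet : (w : Matrix (Fin 2) (Fin 2) F).det = 1 := by
    rw [hw, Units.val_mul, Matrix.det_mul, sc_coe, Matrix.scalar_apply, Matrix.det_diagonal,
      ← Matrix.GeneralLinearGroup.val_det_apply, hd, Fin.prod_univ_two, Units.val_mul, mul_mul_mul_comm,
      Units.inv_mul, mul_one]
  set s : SL(2, F) := ⟨(w : Matrix (Fin 2) (Fin 2) F), hdet⟩ with hs
  refine ⟨mkP s, ?_⟩
  have e : gAut g = gAut w := by rw [hw, map_mul, gAut_sc le_rfl, one_mul]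
  rw [e]
  refine MulEquiv.ext fun x => ?_
  obtain ⟨t, rfl⟩ := mkP_surjective x
  rw [MulAut.conj_apply, ← map_inv, ← map_mul, ← map_mul]
  refine congrArg mkP (Subtype.ext ?_)
  show (w : Matrix (Fin 2) (Fin 2) F) * (t : Matrix (Fin 2) (Fin 2) F) * ((w⁻¹ : GL (Fin 2) F) : Matrix (Fin 2) (Fin 2) F) =
    (w : Matrix (Fin 2) (Fin 2) F) * (t : Matrix (Fin 2) (Fin 2) F) * ((s⁻¹ : SL(2, F)) : Matrix (Fin 2) (Fin 2) F)
  refine congrArg (fun M => (w : Matrix (Fin 2) (Fin 2) F) * (t : Matrix (Fin 2) (Fin 2) F) * M) ?_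
  refine (left_inv_eq_right_inv ?_ (Units.mul_inv w)).symm
  show ((s⁻¹ : SL(2, F)) : Matrix (Fin 2) (Fin 2) F) * (s : Matrix (Fin 2) (Fin 2) F) = 1
  exact congrArg (fun A : SL(2, F) => (A : Matrix (Fin 2) (Fin 2) F)) (inv_mul_cancel s)

end PSL

/-- The structure theorem, given that no simple group in the class has semidihedral Sylow 2-subgroups. -/
theorem structure_of_noSD.{u} {G : Type u} [Group G] [Finite G] (hF : NoSimpleCycSD.{u})
    (hns : ¬ Group.IsSolvable G) (hodd : ∀ p : ℕ, p.Prime → p ≠ 2 → ∀ P : Sylow p G, IsCyclic P)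
    (h2 : ∀ S : Sylow 2 G, ∃ C : Subgroup ↥(S : Subgroup G), IsCyclic C ∧ C.index ∣ 2) :
    ∃ G₀ : Subgroup G, G₀.Normal ∧ G₀.index ∣ 2 ∧
      ∃ X L : Subgroup ↥G₀, X.Normal ∧ L.Normal ∧ X ⊓ L = ⊥ ∧ X ⊔ L = ⊤ ∧ (Nat.card X).Coprime (Nat.card L) ∧
        Odd (Nat.card X) ∧ (∃ (C : Subgroup ↥X) (_ : C.Normal), IsCyclic C ∧ IsCyclic (↥X ⧸ C)) ∧
        ∃ (p : ℕ) (_ : Fact p.Prime), 5 ≤ p ∧
          (Nonempty (↥L ≃* Matrix.ProjectiveSpecialLinearGroup (Fin 2) (ZMod p)) ∨
           Nonempty (↥L ≃* Matrix.SpecialLinearGroup (Fin 2) (ZMod p))) := by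
  classical
  haveI : Fact (Nat.Prime 2) := ⟨Nat.prime_two⟩
  have h : Near G := ⟨hodd, h2⟩
  obtain ⟨L, hLn, hL, hLnt, -, -⟩ := MinNonCA.NotPerfect.exists_residual hns
  obtain ⟨p, hp, π, hM⟩ := exists_model hF hL (h.subgroup L)
  haveI := hp
  -- the induced automorphisms
  have hex : ∀ g : G, ∃ ψ : MulAut (ProjectiveSpecialLinearGroup (Fin 2) (ZMod p)),
      ∀ l : L, ψ (π l) = π (MulAut.conjNormal g l) := by
    intro g
    set e : MulAut L := MulAut.conjNormal g with he
    have hpre : ∀ {a b : L}, π a = π b → π (e a) = π (e b) := by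
      intro a b hab
      have hz : a⁻¹ * b ∈ center L := hM.ker ▸ MonoidHom.mem_ker.2 (by rw [map_mul, map_inv, hab, inv_mul_cancel])
      have h1 : π (e (a⁻¹ * b)) = 1 := MonoidHom.mem_ker.1 (hM.ker ▸
        (characteristic_iff_map_eq.1 (inferInstance : (center L).Characteristic) e).le (mem_map_of_mem _ hz))
      rw [map_mul, map_inv, map_mul, map_inv, inv_mul_eq_one] at h1
      exact h1
    choose s hs using hM.surj
    refine ⟨MulEquiv.mk' ⟨fun x => π (e (s x)), fun x => π (e.symm (s x)), fun x => ?_, fun x => ?_⟩ fun x y => ?_,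
      fun l => hpre (hs (π l))⟩
    · have hpre' : ∀ {a b : L}, π a = π b → π (e.symm a) = π (e.symm b) := by
        intro a b hab
        have hz : a⁻¹ * b ∈ center L := hM.ker ▸ MonoidHom.mem_ker.2 (by rw [map_mul, map_inv, hab, inv_mul_cancel])
        have h1 : π (e.symm (a⁻¹ * b)) = 1 := MonoidHom.mem_ker.1 (hM.ker ▸
          (characteristic_iff_map_eq.1 (inferInstance : (center L).Characteristic) e.symm).le (mem_map_of_mem _ hz))
        rw [map_mul, map_inv, map_mul, map_inv, inv_mul_eq_one] at h1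
        exact h1
      show π (e.symm (s (π (e (s x))))) = x
      rw [hpre' (hs (π (e (s x)))), MulEquiv.symm_apply_apply, hs]
    · show π (e (s (π (e.symm (s x))))) = x
      rw [hpre (hs (π (e.symm (s x)))), MulEquiv.apply_symm_apply, hs]
    · show π (e (s (x * y))) = π (e (s x)) * π (e (s y))
      rw [← map_mul, ← map_mul]
      exact hpre (by rw [map_mul, hs, hs, hs])
  choose ψ hψ using hex
  let Φ : G →* MulAut (ProjectiveSpecialLinearGroup (Fin 2) (ZMod p)) := MonoidHom.mk' ψ fun g g' =>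
    MulEquiv.ext fun x => by
      obtain ⟨l, rfl⟩ := hM.surj x
      rw [MulAut.mul_apply, hψ, hψ, hψ, map_mul, MulAut.mul_apply]
  have hΦL : ∀ l : L, Φ (l : G) = MulAut.conj (π l) := fun l => MulEquiv.ext fun x => by
    obtain ⟨m, rfl⟩ := hM.surj x
    show ψ (l : G) (π m) = _
    rw [hψ, MulAut.conj_apply, ← map_inv, ← map_mul, ← map_mul]
    exact congrArg π (Subtype.ext (by simp))
  set C := centralizer (L : Set G) with hC
  have hkerΦ : Φ.ker ≤ C := fun g hg => mem_centralizer_iff.2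
    (MinNonCA.NotPerfect.comm_of_fix_mod hL π hM.ker.le fun l => by
      rw [← hψ g l]
      exact DFunLike.congr_fun (MonoidHom.mem_ker.1 hg) (π l))
  -- the subgroup of index at most two
  set G₀ := C ⊔ L with hG₀
  haveI hCn : C.Normal := inferInstance
  haveI hG₀n : G₀.Normal := inferInstance
  choose A hA using fun g => exists_gAut (Φ g)
  have hin : ∀ g, IsSquare (GeneralLinearGroup.det (A g)) → g ∈ G₀ := by
    intro g hg
    obtain ⟨u, hu⟩ := gAut_of_isSquare (A g) hg
    obtain ⟨l, rfl⟩ := hM.surj u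
    have hk : g * (l : G)⁻¹ ∈ C := hkerΦ (MonoidHom.mem_ker.2 (by
      rw [map_mul, map_inv, hA, hu, hΦL, mul_inv_cancel]))
    rw [show g = g * (l : G)⁻¹ * l by group]
    exact mul_mem_sup hk l.2
  have hprod : ∀ x y, x ∉ G₀ → y ∉ G₀ → x * y ∈ G₀ := by
    intro x y hx hy
    have hu : gAut (A x * A y) = Φ (x * y) := by rw [map_mul, map_mul, hA, hA]
    obtain ⟨u, hu'⟩ := gAut_of_isSquare (A x * A y) (by
      have h2' : ringChar (ZMod p) ≠ 2 := by rw [ZMod.ringChar_zmod_n]; have := hM.five; omega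
      have key : ∀ a : (ZMod p)ˣ, ¬ IsSquare a → a ^ (Fintype.card (ZMod p) / 2) = -1 := fun a ha => by
        have h1 := FiniteField.pow_dichotomy h2' (a := (a : ZMod p)) a.ne_zero
        rcases h1 with h1 | h1
        · exact absurd ((FiniteField.unit_isSquare_iff h2' a).2 (Units.ext (by simpa using h1))) ha
        · exact Units.ext (by simpa using h1)
      rw [map_mul, FiniteField.unit_isSquare_iff h2', mul_pow, key _ fun e => hx (hin x e),
        key _ fun e => hy (hin y e), neg_mul_neg, one_mul])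
    obtain ⟨l, rfl⟩ := hM.surj u
    have hk : x * y * (l : G)⁻¹ ∈ C := hkerΦ (MonoidHom.mem_ker.2 (by
      rw [map_mul Φ (x * y), map_inv, ← hu, hu', hΦL, mul_inv_cancel]))
    rw [show x * y = x * y * (l : G)⁻¹ * l by group]
    exact mul_mem_sup hk l.2
  have hindex : G₀.index ∣ 2 := by
    by_cases htop : G₀ = ⊤
    · rw [htop, index_top]; exact one_dvd 2
    obtain ⟨a, ha⟩ : ∃ a, a ∉ G₀ := by
      by_contra hc
      push Not at hc
      exact htop (eq_top_iff.2 fun x _ => hc x)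
    refine (index_eq_two_iff.2 ⟨a, fun b => ?_⟩).dvd
    by_cases hb : b ∈ G₀
    · exact Or.inr ⟨hb, fun e => ha ((mul_mem_cancel_left hb).1 e)⟩
    · exact Or.inl ⟨hprod b a hb ha, hb⟩
  -- the intersection
  set Z := C ⊓ L with hZ
  have hZc : ∀ {z}, z ∈ Z → ∀ hz : z ∈ L, (⟨z, hz⟩ : L) ∈ center L := fun {z} hz hzL =>
    mem_center_iff.2 fun m => Subtype.ext (mem_centralizer_iff.1 hz.1 m m.2)
  have hZ2 : ∀ z ∈ Z, z * z = 1 := fun z hz =>
    congrArg Subtype.val (hM.sq ⟨z, hz.2⟩ (hZc hz hz.2))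
  have hcent : ∀ c ∈ C, ∀ l ∈ L, c * l = l * c := fun c hc l hl => (mem_centralizer_iff.1 hc l hl).symm
  -- no odd prime divides both orders
  have hqC : ∀ q, q.Prime → q ≠ 2 → q ∣ Nat.card C → ¬ q ∣ Nat.card L := by
    intro q hq hq2 hdC hdL
    haveI := Fact.mk hq
    obtain ⟨a, ha⟩ := exists_prime_orderOf_dvd_card' (G := C) q hdC
    obtain ⟨b, hb⟩ := exists_prime_orderOf_dvd_card' (G := L) q hdL
    have hmem := h.mem_zpowers hq2 (a := (a : G)) (b := (b : G)) (by rw [orderOf_coe, ha])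
      (by rw [← hb, ← orderOf_coe, pow_orderOf_eq_one]) (hcent a a.2 b b.2)
    have hbZ : (b : G) ∈ Z := ⟨zpowers_le.2 a.2 hmem, b.2⟩
    have h22 : orderOf (b : G) ∣ 2 := orderOf_dvd_of_pow_eq_one (by rw [pow_two]; exact hZ2 _ hbZ)
    rw [orderOf_coe, hb] at h22
    exact hq2 ((Nat.prime_dvd_prime_iff_eq hq Nat.prime_two).1 h22)
  -- `C/Z` has odd order
  set Zc := L.subgroupOf C with hZcdef
  haveI : Zc.Normal := inferInstance
  have hZcodd : Odd Zc.index := by
    rw [← Nat.not_even_iff_odd, even_iff_two_dvd]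
    intro hd
    rw [index_eq_card] at hd
    obtain ⟨cb, hcb⟩ := exists_prime_orderOf_dvd_card' (G := C ⧸ Zc) 2 hd
    obtain ⟨c, rfl⟩ := QuotientGroup.mk_surjective cb
    set q := QuotientGroup.mk' Z with hq
    have hnear : Near (G ⧸ Z) := h.of_surjective q (QuotientGroup.mk'_surjective Z)
    obtain ⟨u, v, hu, hv, hu1, hv1, huv, hcom⟩ := exists_four (p := p) hM.five
    obtain ⟨e, rfl⟩ := hM.surj u
    obtain ⟨f, rfl⟩ := hM.surj v
    have hq1 : ∀ x : L, q (x : G) = 1 ↔ π x = 1 := fun x => by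
      rw [hq, QuotientGroup.mk'_apply, QuotientGroup.eq_one_iff, ← MonoidHom.mem_ker, hM.ker]
      refine ⟨fun hx => hZc hx x.2, fun hx => ⟨mem_centralizer_iff.2 fun m hm => ?_, x.2⟩⟩
      exact congrArg Subtype.val (mem_center_iff.1 hx ⟨m, hm⟩)
    have hqe : ∀ x y : L, q (x : G) = q (y : G) ↔ π x = π y := fun x y => by
      rw [← inv_mul_eq_one (a := q (x : G)), ← map_inv, ← map_mul, ← Subgroup.coe_inv, ← Subgroup.coe_mul, hq1,
        map_mul, map_inv, inv_mul_eq_one]
    have hcL : ∀ x : L, q (c : G) ≠ q (x : G) := fun x e' => by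
      have hx : (c : G)⁻¹ * x ∈ Z := (QuotientGroup.eq.1 e')
      have hc : (c : G) ∈ L := by
        have := mul_mem x.2 (inv_mem hx.2)
        simpa using this
      rw [(QuotientGroup.eq_one_iff c).2 (mem_subgroupOf.2 hc), orderOf_one] at hcb
      exact absurd hcb (by norm_num)
    have hc2 : q (c : G) * q (c : G) = 1 := by
      have h1 := pow_orderOf_eq_one (QuotientGroup.mk c : C ⧸ Zc)
      rw [hcb, pow_two, ← QuotientGroup.mk_mul, QuotientGroup.eq_one_iff] at h1
      rw [← map_mul]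
      exact (QuotientGroup.eq_one_iff _).2 ⟨mul_mem c.2 c.2, mem_subgroupOf.1 h1⟩
    have hL2 : ∀ x : L, π x * π x = 1 → q (x : G) * q (x : G) = 1 := fun x hx => by
      rw [← map_mul, ← Subgroup.coe_mul, hq1, map_mul, hx]
    have hcx : ∀ x : L, q (x : G) * q (c : G) = q (c : G) * q (x : G) := fun x => by
      rw [← map_mul, ← map_mul, hcent c c.2 x x.2]
    refine hnear.no_three (hL2 e hu) (hL2 f hv) hc2 (fun e' => hu1 ((hq1 e).1 e'))
      (fun e' => hv1 ((hq1 f).1 e')) (fun e' => huv ((hqe e f).1 e')) (hcL e) (hcL f) ?_ ?_ ?_ (hcx e) (hcx f)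
    · rw [← map_mul, ← Subgroup.coe_mul]; exact hcL (e * f)
    · rw [← map_one q]; exact hcL 1
    · rw [← map_mul, ← map_mul, ← Subgroup.coe_mul, ← Subgroup.coe_mul, hqe, map_mul, map_mul, hcom]
  -- the complement
  have hZcsq : ∀ z ∈ Zc, z * z = 1 := fun z hz => Subtype.ext (hZ2 _ ⟨z.2, mem_subgroupOf.1 hz⟩)
  have hcardZ : Nat.Coprime (Nat.card Zc) Zc.index := by
    refine Nat.coprime_of_dvd fun q hq hd1 hd2 => ?_
    haveI := Fact.mk hq
    obtain ⟨z, hz⟩ := exists_prime_orderOf_dvd_card' (G := Zc) q hd1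
    have h22 : orderOf (z : C) ∣ 2 := orderOf_dvd_of_pow_eq_one (by rw [pow_two]; exact hZcsq _ z.2)
    rw [orderOf_coe, hz, Nat.prime_dvd_prime_iff_eq hq Nat.prime_two] at h22
    exact Nat.not_even_iff_odd.2 hZcodd (even_iff_two_dvd.2 (h22 ▸ hd2))
  obtain ⟨K, hK⟩ := exists_right_complement'_of_coprime hcardZ
  set m := Zc.index with hm
  have hKcard : Nat.card K = m := (IsComplement'.index_eq_card hK.symm).symm
  set X := K.map C.subtype with hX
  have hXC : X ≤ C := map_subtype_le K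
  have hXpow : ∀ c ∈ C, (c ∈ X ↔ c ^ m = 1) := by
    intro c hc
    constructor
    · rintro ⟨k, hk, rfl⟩
      rw [← map_pow]
      have : (⟨k, hk⟩ : K) ^ m = 1 := hKcard ▸ pow_card_eq_one'
      exact congrArg Subtype.val (congrArg Subtype.val this)
    · intro hcm
      obtain ⟨⟨z, k⟩, hzk, -⟩ := hK.existsUnique ⟨c, hc⟩
      have hcomm : Commute (z : C) (k : C) := Subtype.ext
        (hcent _ (k : C).2 _ (mem_subgroupOf.1 z.2)).symm
      have hkm : (k : C) ^ m = 1 := by
        have : k ^ m = 1 := hKcard ▸ pow_card_eq_one'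
        exact congrArg Subtype.val this
      have h1 : ((z : C) * (k : C)) ^ m = 1 := by
        rw [show (z : C) * (k : C) = ⟨c, hc⟩ from hzk]; exact Subtype.ext hcm
      rw [hcomm.mul_pow, hkm, mul_one] at h1
      obtain ⟨r, hr⟩ := hZcodd
      rw [show m = 2 * r + 1 from hr, pow_succ, pow_mul, pow_two, hZcsq _ z.2, one_pow, one_mul] at h1
      refine ⟨k, k.2, ?_⟩
      have h3 : (k : C) = ⟨c, hc⟩ := by
        rw [← show (z : C) * (k : C) = ⟨c, hc⟩ from hzk, h1, one_mul]
      exact congrArg Subtype.val h3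
  have hXn : X.Normal := ⟨fun x hx g => by
    have hxC := hXC hx
    rw [hXpow _ (hCn.conj_mem x hxC g), conj_pow, (hXpow x hxC).1 hx, mul_one, mul_inv_cancel]⟩
  have hXodd : Odd (Nat.card X) := by
    rw [hX, card_map_of_injective C.subtype_injective, hKcard]; exact hZcodd
  have hXL : X ⊓ L = ⊥ := by
    rw [eq_bot_iff]
    rintro _ ⟨⟨k, hk, rfl⟩, hkL⟩
    have : k ∈ Zc ⊓ K := ⟨mem_subgroupOf.2 hkL, hk⟩
    rw [hK.disjoint.eq_bot, mem_bot] at this
    exact mem_bot.2 (congrArg Subtype.val this)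
  have hsup : X ⊔ L = G₀ := by
    refine le_antisymm (sup_le_sup_right hXC L) (sup_le (fun c hc => ?_) le_sup_right)
    obtain ⟨⟨z, k⟩, hzk, -⟩ := hK.existsUnique ⟨c, hc⟩
    rw [show c = ((z : C) : G) * ((k : C) : G) from (congrArg Subtype.val hzk).symm]
    exact mul_mem (mem_sup_right (mem_subgroupOf.1 z.2)) (mem_sup_left (mem_map_of_mem _ k.2))
  have hcop : (Nat.card X).Coprime (Nat.card L) := by
    refine Nat.coprime_of_dvd fun q hq hd1 hd2 => ?_
    have hq2 : q ≠ 2 := fun e => Nat.not_even_iff_odd.2 hXodd (even_iff_two_dvd.2 (e ▸ hd1))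
    exact hqC q hq hq2 (hd1.trans (card_dvd_of_le hXC)) hd2
  have hXG : X ≤ G₀ := hsup ▸ le_sup_left
  have hLG : L ≤ G₀ := le_sup_right
  set X' := X.subgroupOf G₀ with hX'
  set L' := L.subgroupOf G₀ with hL'
  have hcX : Nat.card X' = Nat.card X := Nat.card_congr (subgroupOfEquivOfLe hXG).toEquiv
  have hcL : Nat.card L' = Nat.card L := Nat.card_congr (subgroupOfEquivOfLe hLG).toEquiv
  haveI : IsZGroup X' := ⟨fun r hr R => by
    haveI := Fact.mk hr
    rcases eq_or_ne r 2 with rfl | hr2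
    · have h1 : Nat.card (R : Subgroup X') = 1 := by
        obtain ⟨k, hk⟩ := IsPGroup.iff_card.1 R.2
        rcases k with _ | k
        · simpa using hk
        · exfalso
          refine Nat.not_even_iff_odd.2 (hcX.symm ▸ hXodd) (even_iff_two_dvd.2 ?_)
          exact (hk ▸ dvd_pow_self 2 k.succ_ne_zero).trans (card_subgroup_dvd_card _)
      haveI : Subsingleton (R : Subgroup X') := (Nat.card_eq_one_iff_unique.1 h1).1
      infer_instance
    · exact ((h.subgroup G₀).subgroup X').odd r hr hr2 R⟩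
  haveI : IsCyclic (X' ⧸ commutator X') := (inferInstance : IsCyclic (Abelianization X'))
  refine ⟨G₀, hG₀n, hindex, X', L', inferInstance, inferInstance, ?_, ?_, hcX.symm ▸ hcL.symm ▸ hcop,
    hcX.symm ▸ hXodd, ⟨commutator X', inferInstance, IsZGroup.isCyclic_commutator X', inferInstance⟩, p, hp,
    hM.five, ?_⟩
  · rw [hX', hL', subgroupOf, subgroupOf, ← comap_inf, hXL, MonoidHom.comap_bot, ker_subtype]
  · rw [hX', hL', ← subgroupOf_sup hXG hLG, hsup, subgroupOf_self]
  · exact hM.iso.imp (fun ⟨e⟩ => ⟨(subgroupOfEquivOfLe hLG).trans e⟩)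
      fun ⟨e⟩ => ⟨(subgroupOfEquivOfLe hLG).trans e⟩

end Cfsg.Agent.CycSD.Outer
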