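import Cfsg.Agent.Lib.CycSD.OuterSimple
import Cfsg.Agent.Lib.MinNonCA.Cover

/-!
# S4069, outer part: the perfect groups

A perfect group with cyclic odd Sylow subgroups and nearly cyclic Sylow 2-subgroups is `PSL(2,p)` or
`SL(2,p)`, given that no simple one has semidihedral Sylow 2-subgroups.
-/

set_option autoImplicit false
set_option linter.unusedSectionVars false
set_option linter.style.haveILetI false

namespace Cfsg.Agent.CycSD.Outer

open Subgroup
open scoped MatrixGroups commutatorElement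
open Cfsg.Agent.MinNonCA.Cover (mkP mkP_eq_one mkP_surjective center_sl)

variable {P : Type*} [Group P]

/-- A cyclic normal subgroup of a perfect group is central. -/
theorem le_center_of_cyclic_normal [Finite P] (hP : commutator P = ⊤) (D : Subgroup P) [D.Normal] [IsCyclic D] :
    D ≤ center P := by
  set r : P →* MulAut D := MulAut.conjNormal with hr
  have hle : commutator P ≤ r.ker := by
    rw [_root_.commutator_def, commutator_le]
    intro a _ b _
    rw [MonoidHom.mem_ker, map_commutatorElement, commutatorElement_eq_one_iff_mul_comm]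
    exact (IsCyclic.mulAutMulEquiv (G := D)).injective (by rw [map_mul, map_mul, mul_comm])
  intro d hd
  refine mem_center_iff.2 fun g => ?_
  have h1 : r g = 1 := MonoidHom.mem_ker.1 (hle (hP ▸ mem_top g))
  have h2 := congrArg Subtype.val (DFunLike.congr_fun h1 ⟨d, hd⟩)
  rw [hr, MulAut.conjNormal_apply, MulAut.one_apply] at h2
  exact mul_inv_eq_iff_eq_mul.1 h2

/-- A normal Z-subgroup of a perfect group is central. -/
theorem le_center_of_zgroup [Finite P] (hP : commutator P = ⊤) (M : Subgroup P) [M.Normal] [IsZGroup M] :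
    M ≤ center P := by
  set D := (commutator M).map M.subtype with hD
  haveI : IsCyclic (commutator M) := IsZGroup.isCyclic_commutator M
  haveI : IsCyclic D := isCyclic_of_surjective _ (M.subtype.subgroupMap_surjective (commutator M))
  have hDeq : D = ⁅M, M⁆ := by rw [hD, map_subtype_commutator]
  haveI : D.Normal := hDeq ▸ inferInstance
  have hDc := le_center_of_cyclic_normal hP D
  set q := QuotientGroup.mk' D with hq
  haveI : (M.map q).Normal := Normal.map inferInstance q (QuotientGroup.mk'_surjective D)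
  haveI : IsCyclic (M ⧸ commutator M) := (inferInstance : IsCyclic (Abelianization M))
  haveI : IsCyclic (M.map q) := by
    have hle : commutator M ≤ (q.subgroupMap M).ker := fun x hx =>
      Subtype.ext ((QuotientGroup.eq_one_iff _).2 (mem_map_of_mem _ hx))
    refine isCyclic_of_surjective (QuotientGroup.lift (commutator M) (q.subgroupMap M) hle) fun y => ?_
    obtain ⟨x, rfl⟩ := q.subgroupMap_surjective M y
    exact ⟨QuotientGroup.mk x, rfl⟩
  have hperf : commutator (P ⧸ D) = ⊤ := by
    rw [_root_.commutator_def, ← Subgroup.map_top_of_surjective q (QuotientGroup.mk'_surjective D), ← map_commutator,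
      ← _root_.commutator_def, hP]
  have hqc := le_center_of_cyclic_normal hperf (M.map q)
  have h1 : ⁅(⊤ : Subgroup P), M⁆ ≤ center P := by
    refine le_trans (commutator_le.2 fun a _ m hm => ?_) hDc
    rw [← QuotientGroup.eq_one_iff, ← QuotientGroup.mk'_apply, map_commutatorElement,
      commutatorElement_eq_one_iff_mul_comm]
    exact mem_center_iff.1 (hqc (mem_map_of_mem q hm)) _
  have hbot : ∀ {K : Subgroup P}, K ≤ center P → ⁅K, (⊤ : Subgroup P)⁆ = ⊥ := fun {K} hK => by
    rw [eq_bot_iff, commutator_le]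
    intro a ha b _
    rw [mem_bot, commutatorElement_eq_one_iff_mul_comm]
    exact (mem_center_iff.1 (hK ha) b).symm
  have h3 := commutator_commutator_eq_bot_of_rotate (H₁ := (⊤ : Subgroup P)) (H₂ := ⊤) (H₃ := M) (hbot h1)
    (hbot (by rwa [commutator_comm]))
  rw [← _root_.commutator_def, hP] at h3
  intro m hm
  refine mem_center_iff.2 fun g => commutatorElement_eq_one_iff_mul_comm.1 ?_
  rw [← mem_bot, ← h3]
  exact commutator_mem_commutator (mem_top g) hm

/-- A perfect central extension of `PSL(2,p)` is covered by `SL(2,p)`. -/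
theorem exists_cover [Finite P] (hP : commutator P = ⊤) {p : ℕ} [Fact p.Prime] (h5 : 5 ≤ p)
    (π : P →* Matrix.ProjectiveSpecialLinearGroup (Fin 2) (ZMod p)) (hπ : Function.Surjective π)
    (hk : π.ker ≤ center P) :
    ∃ f : SL(2, ZMod p) →* P, Function.Surjective f ∧ ∀ s, π (f s) = mkP s := by
  classical
  have hcard : Fintype.card (ZMod p) = p := ZMod.card p
  have hpp : Nat.Prime p := Fact.out
  have hmult : Cfsg.HasCyclicSchurMultiplier SL(2, ZMod p) 1 :=
    Cfsg.Agent.S2117.result (by omega) (by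
      rw [hcard]; rintro rfl; norm_num at hpp)
  let E : Subgroup (P × SL(2, ZMod p)) :=
    MonoidHom.eqLocus (π.comp (MonoidHom.fst P SL(2, ZMod p))) (mkP.comp (MonoidHom.snd P SL(2, ZMod p)))
  have hE : ∀ {w}, w ∈ E ↔ π w.1 = mkP w.2 := Iff.rfl
  set E' : Subgroup (P × SL(2, ZMod p)) := ⁅E, E⁆ with hE'
  have hE'E : E' ≤ E := commutator_le.2 fun a ha b hb =>
    by rw [commutatorElement_def]; exact mul_mem (mul_mem (mul_mem ha hb) (inv_mem ha)) (inv_mem hb)
  have hfst : E.map (MonoidHom.fst P SL(2, ZMod p)) = ⊤ := eq_top_iff.2 fun p _ => by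
    obtain ⟨s, hs⟩ := mkP_surjective (π p)
    exact ⟨(p, s), hE.2 hs.symm, rfl⟩
  have hsnd : E.map (MonoidHom.snd P SL(2, ZMod p)) = ⊤ := eq_top_iff.2 fun s _ => by
    obtain ⟨x, hx⟩ := hπ (mkP s)
    exact ⟨(x, s), hE.2 hx, rfl⟩
  have hfst' : E'.map (MonoidHom.fst P SL(2, ZMod p)) = ⊤ := by
    rw [hE', map_commutator, hfst, ← _root_.commutator_def, hP]
  have hsnd' : E'.map (MonoidHom.snd P SL(2, ZMod p)) = ⊤ := by
    rw [hE', map_commutator, hsnd, ← _root_.commutator_def,
      Cfsg.Agent.WordMaps.Classical.SL2_perfect (ZMod p) (by omega)]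
  -- `E` is `E'` times a central subgroup
  have hdec : ∀ w ∈ E, ∃ e ∈ E', e⁻¹ * w ∈ center (P × SL(2, ZMod p)) := by
    intro w hw
    obtain ⟨e, he, hes⟩ := hsnd'.ge (mem_top w.2)
    refine ⟨e, he, ?_⟩
    have h2 : (e⁻¹ * w).2 = 1 := by
      rw [Prod.snd_mul, Prod.snd_inv, show e.2 = w.2 from hes, inv_mul_cancel]
    have h1 : (e⁻¹ * w).1 ∈ center P :=
      hk (by rw [MonoidHom.mem_ker, hE.1 (mul_mem (inv_mem (hE'E he)) hw), h2, map_one])
    refine mem_center_iff.2 fun g => Prod.ext ?_ ?_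
    · rw [Prod.fst_mul, Prod.fst_mul]
      exact mem_center_iff.1 h1 g.1
    · rw [Prod.snd_mul g, Prod.snd_mul _ g, h2, mul_one, one_mul]
  have hperf' : E' ≤ ⁅E', E'⁆ := by
    refine commutator_le.2 fun a ha b hb => ?_
    obtain ⟨a', ha', hza⟩ := hdec a ha
    obtain ⟨b', hb', hzb⟩ := hdec b hb
    obtain ⟨za, rfl⟩ : ∃ za, a = a' * za := ⟨_, (mul_inv_cancel_left a' a).symm⟩
    obtain ⟨zb, rfl⟩ : ∃ zb, b = b' * zb := ⟨_, (mul_inv_cancel_left b' b).symm⟩
    rw [inv_mul_cancel_left] at hza hzb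
    have ca := mem_center_iff.1 hza
    have cb := mem_center_iff.1 hzb
    have e : ⁅a' * za, b' * zb⁆ = ⁅a', b'⁆ := by
      rw [commutatorElement_def, commutatorElement_def]
      calc a' * za * (b' * zb) * (a' * za)⁻¹ * (b' * zb)⁻¹
          = a' * (za * b') * (zb * za⁻¹) * a'⁻¹ * zb⁻¹ * b'⁻¹ := by group
        _ = a' * (b' * za) * (za⁻¹ * zb) * a'⁻¹ * zb⁻¹ * b'⁻¹ := by rw [ca b', cb za⁻¹]
        _ = a' * b' * (zb * a'⁻¹) * zb⁻¹ * b'⁻¹ := by group
        _ = a' * b' * (a'⁻¹ * zb) * zb⁻¹ * b'⁻¹ := by rw [cb a'⁻¹]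
        _ = _ := by group
    rw [e]
    exact commutator_mem_commutator ha' hb'
  have hcE' : commutator E' = ⊤ := by
    apply Subgroup.map_injective E'.subtype_injective
    rw [map_subtype_commutator, ← MonoidHom.range_eq_map, range_subtype]
    exact le_antisymm (commutator_le.2 fun a ha b hb =>
      by rw [commutatorElement_def]; exact mul_mem (mul_mem (mul_mem ha hb) (inv_mem ha)) (inv_mem hb)) hperf'
  set σ : E' →* SL(2, ZMod p) := (MonoidHom.snd P SL(2, ZMod p)).comp E'.subtype with hσ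
  have hσs : Function.Surjective σ := fun s => by
    obtain ⟨e, he, hes⟩ := hsnd'.ge (mem_top s)
    exact ⟨⟨e, he⟩, hes⟩
  have hσc : σ.ker ≤ center E' := by
    intro e he
    have h2 : (e : P × SL(2, ZMod p)).2 = 1 := he
    have h1 : (e : P × SL(2, ZMod p)).1 ∈ center P :=
      hk (by rw [MonoidHom.mem_ker, hE.1 (hE'E e.2), h2, map_one])
    refine mem_center_iff.2 fun g => Subtype.ext (Prod.ext ?_ ?_)
    · exact mem_center_iff.1 h1 _
    · show (g : P × SL(2, ZMod p)).2 * (e : P × SL(2, ZMod p)).2 =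
        (e : P × SL(2, ZMod p)).2 * (g : P × SL(2, ZMod p)).2
      rw [h2, mul_one, one_mul]
  have hdvd : Nat.card σ.ker ∣ 1 := GW.ComponentCentre.card_ker_dvd hmult σ ⟨hσs, hσc, hcE' ▸ le_top⟩
  have hσi : Function.Injective σ := (MonoidHom.ker_eq_bot_iff σ).1 (card_eq_one.1 (Nat.dvd_one.1 hdvd))
  set τ := MulEquiv.ofBijective σ ⟨hσi, hσs⟩ with hτ
  refine ⟨((MonoidHom.fst P SL(2, ZMod p)).comp E'.subtype).comp τ.symm.toMonoidHom, ?_, fun s => ?_⟩
  · intro x
    obtain ⟨e, he, hex⟩ := hfst'.ge (mem_top x)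
    exact ⟨τ ⟨e, he⟩, by simpa using hex⟩
  · have h1 := hE.1 (hE'E (τ.symm s).2)
    have h2 : (((τ.symm s) : E') : P × SL(2, ZMod p)).2 = s := τ.apply_symm_apply s
    rw [h2] at h1
    exact h1

/-- The structure of a perfect group in the class. -/
structure Model (P : Type*) [Group P] (p : ℕ) [Fact p.Prime]
    (π : P →* Matrix.ProjectiveSpecialLinearGroup (Fin 2) (ZMod p)) : Prop where
  five : 5 ≤ p
  surj : Function.Surjective π
  ker : π.ker = center P
  sq : ∀ z ∈ center P, z * z = 1
  card : Nat.card (center P) ∣ 2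
  iso : Nonempty (P ≃* Matrix.ProjectiveSpecialLinearGroup (Fin 2) (ZMod p)) ∨ Nonempty (P ≃* SL(2, ZMod p))

/-- A perfect group in the class is `PSL(2,p)` or `SL(2,p)`. -/
theorem exists_model.{v} {P : Type v} [Group P] [Finite P] [Nontrivial P] (hF : NoSimpleCycSD.{v})
    (hP : commutator P = ⊤) (h : Near P) :
    ∃ (p : ℕ) (_ : Fact p.Prime) (π : P →* Matrix.ProjectiveSpecialLinearGroup (Fin 2) (ZMod p)),
      Model P p π := by
  classical
  haveI : Fact (Nat.Prime 2) := ⟨Nat.prime_two⟩
  -- a maximal normal subgroup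
  obtain ⟨M, ⟨hMn, hMne⟩, hmax⟩ := Set.Finite.exists_maximal (s := {M : Subgroup P | M.Normal ∧ M ≠ ⊤})
    (Set.toFinite _) ⟨⊥, inferInstance, bot_ne_top⟩
  haveI := hMn
  set q := QuotientGroup.mk' M with hq
  have hqs : Function.Surjective q := QuotientGroup.mk'_surjective M
  haveI : Nontrivial (P ⧸ M) := QuotientGroup.nontrivial_iff.2 hMne
  haveI : IsSimpleGroup (P ⧸ M) := ⟨fun H hH => by
    by_cases htop : H.comap q = ⊤
    · exact Or.inr (by rw [← map_comap_eq_self_of_surjective hqs H, htop, map_top_of_surjective _ hqs])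
    · refine Or.inl ?_
      have hle : M ≤ H.comap q := fun m hm => by
        rw [mem_comap, hq, QuotientGroup.mk'_apply, (QuotientGroup.eq_one_iff m).2 hm]; exact one_mem H
      have he : H.comap q = M := le_antisymm (hmax ⟨inferInstance, htop⟩ hle) hle
      rw [← map_comap_eq_self_of_surjective hqs H, he, hq, QuotientGroup.map_mk'_self]⟩
  have hperf : commutator (P ⧸ M) = ⊤ := by
    rw [_root_.commutator_def, ← map_top_of_surjective q hqs, ← map_commutator, ← _root_.commutator_def, hP]
  have hnc : ¬ ∀ a b : P ⧸ M, a * b = b * a := fun hab => by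
    have : commutator (P ⧸ M) = ⊥ := by
      rw [_root_.commutator_def, eq_bot_iff, commutator_le]
      exact fun a _ b _ => mem_bot.2 (commutatorElement_eq_one_iff_mul_comm.2 (hab a b))
    exact bot_ne_top (this.symm.trans hperf)
  obtain ⟨p, hp, h5, ⟨e⟩⟩ := psl_of_simple hF hnc (h.of_surjective q hqs)
  -- the kernel is a Z-group
  haveI : IsZGroup M := ⟨fun r hr R => by
    haveI := Fact.mk hr
    rcases eq_or_ne r 2 with rfl | hr2
    · obtain ⟨T', hT'⟩ := (R.2.map M.subtype).exists_le_sylow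
      obtain ⟨D', hD', hDi'⟩ := h.two T'
      haveI := hD'
      set A' := M.subgroupOf (T' : Subgroup P) with hA'
      have hgA : ∀ x : ↥(R : Subgroup M), (⟨_, hT' (mem_map_of_mem M.subtype x.2)⟩ : ↥(T' : Subgroup P)) ∈ A' :=
        fun x => mem_subgroupOf.2 x.1.2
      by_cases hAD : A' ≤ D'
      · refine isCyclic_of_injective ((((M.subtype.domRestrict (R : Subgroup M)).codRestrict (T' : Subgroup P)
          fun x => hT' (mem_map_of_mem M.subtype x.2))).codRestrict D' fun x => hAD (hgA x)) ?_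
        intro a b e'
        exact Subtype.ext (Subtype.ext (congrArg (fun d : D' => ((d : ↥(T' : Subgroup P)) : P)) e'))
      exfalso
      obtain ⟨a, haA, haD⟩ := SetLike.not_le_iff_exists.1 hAD
      have hDi2 : D'.index = 2 := ((Nat.dvd_prime Nat.prime_two).1 hDi').resolve_left fun h1 =>
        haD (by rw [index_eq_one.1 h1]; exact mem_top a)
      have haq : q ((a : ↥(T' : Subgroup P)) : P) = 1 := (QuotientGroup.eq_one_iff _).2 (mem_subgroupOf.1 haA)
      refine sylow_two_not_cyclic hnc (T'.mapSurjective hqs) ?_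
      refine isCyclic_of_surjective ((q.subgroupMap (T' : Subgroup P)).comp D'.subtype) fun y => ?_
      obtain ⟨t, rfl⟩ := q.subgroupMap_surjective (T' : Subgroup P) y
      by_cases htD : t ∈ D'
      · exact ⟨⟨t, htD⟩, rfl⟩
      · refine ⟨⟨t * a, (mul_mem_iff_of_index_two hDi2).2 (iff_of_false htD haD)⟩, Subtype.ext ?_⟩
        show q ((t : P) * (a : P)) = q (t : P)
        rw [map_mul, haq, mul_one]
    · exact (h.subgroup M).odd r hr hr2 R⟩
  have hMc := le_center_of_zgroup hP M
  have hZ : center P = M := by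
    refine le_antisymm (fun z hz => ?_) hMc
    have h1 : q z ∈ center (P ⧸ M) := mem_center_iff.2 fun y => by
      obtain ⟨x, rfl⟩ := hqs y
      rw [← map_mul, ← map_mul, mem_center_iff.1 hz x]
    rw [center_eq_bot hnc, mem_bot] at h1
    exact (QuotientGroup.eq_one_iff z).1 h1
  set π := e.toMonoidHom.comp q with hπdef
  have hπ : Function.Surjective π := e.surjective.comp hqs
  have hk : π.ker = center P := by
    rw [hZ]; exact (MonoidHom.ker_mulEquiv_comp q e).trans (QuotientGroup.ker_mk' M)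
  haveI := hp
  have hodd : Odd (Fintype.card (ZMod p)) := by
    rw [ZMod.card]; exact hp.out.odd_of_ne_two (by omega)
  obtain ⟨f, hf, hfπ⟩ := exists_cover hP h5 π hπ hk.le
  have hz2 : ∀ z ∈ center P, z = 1 ∨ z = f (-1) := fun z hz => by
    obtain ⟨s, rfl⟩ := hf z
    rw [← hk, MonoidHom.mem_ker, hfπ] at hz
    rcases center_sl hodd (mkP_eq_one.1 hz) with rfl | rfl
    · exact Or.inl (map_one f)
    · exact Or.inr rfl
  have hm : f (-1) * f (-1) = 1 := by rw [← map_mul, neg_mul_neg, one_mul, map_one]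
  refine ⟨p, hp, π, ⟨h5, hπ, hk, fun z hz => ?_, ?_, ?_⟩⟩
  · rcases hz2 z hz with rfl | rfl
    · exact one_mul 1
    · exact hm
  · by_cases h1 : f (-1) = 1
    · have : center P = ⊥ := eq_bot_iff.2 fun z hz => mem_bot.2 (by rcases hz2 z hz with e' | e' <;> simp [e', h1])
      rw [this, card_bot]; exact one_dvd 2
    · have : center P = zpowers (f (-1)) := by
        refine le_antisymm (fun z hz => ?_) (zpowers_le.2 ?_)
        · rcases hz2 z hz with e' | e' <;> rw [e']
          exacts [one_mem _, mem_zpowers _]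
        · rw [← hk, MonoidHom.mem_ker, hfπ, mkP_eq_one]
          exact mem_center_iff.2 fun g => by simp
      rw [this, Nat.card_zpowers]
      exact orderOf_dvd_of_pow_eq_one (by rw [pow_two]; exact hm)
  · by_cases hfi : Function.Injective f
    · exact Or.inr ⟨(MulEquiv.ofBijective f ⟨hfi, hf⟩).symm⟩
    · refine Or.inl ⟨MulEquiv.ofBijective π ⟨(MonoidHom.ker_eq_bot_iff π).1 ?_, hπ⟩⟩
      obtain ⟨s, hs, hs1⟩ : ∃ s, f s = 1 ∧ s ≠ 1 := by
        by_contra hc
        push Not at hc
        exact hfi ((injective_iff_map_eq_one f).2 hc)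
      have hs' : s = -1 := (center_sl hodd (mkP_eq_one.1 (by rw [← hfπ, hs, map_one]))).resolve_left hs1
      rw [hk, eq_bot_iff]
      intro z hz
      rcases hz2 z hz with e' | e'
      · exact mem_bot.2 e'
      · exact mem_bot.2 (by rw [e', ← hs', hs])

end Cfsg.Agent.CycSD.Outer
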