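import Mathlib
import Cfsg.Prelude.Def_Transfer
import Cfsg.Agent.Lib.CycSD.Defs
import Cfsg.Agent.S0205
import Cfsg.Agent.S0201
import Cfsg.Agent.S0483
import Cfsg.Agent.S3178
import Cfsg.Agent.InvChar.Solvable
import Cfsg.Agent.Lib.PGroups.CyclicMaximal
import Cfsg.Agent.GroupStructure3.RankTwoDihedral
import Cfsg.Agent.Lib.FrobeniusSystem.Basic
import Cfsg.Agent.Lib.Classical.SmallIso

/-!
# S4069, outer part: the simple groups

Groups with cyclic odd Sylow subgroups and a cyclic subgroup of index at most two in a Sylow 2-subgroup: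
a simple non-abelian one is `PSL(2,p)`, given that none has semidihedral Sylow 2-subgroups.
-/

set_option autoImplicit false
set_option linter.unusedSectionVars false
set_option linter.style.haveILetI false

namespace Cfsg.Agent.CycSD.Outer

open Subgroup

/-- A cyclic subgroup of index at most two. -/
def CycTwo (T : Type*) [Group T] : Prop :=
  ∃ C : Subgroup T, IsCyclic C ∧ C.index ∣ 2

/-- The hypotheses of S4069 on Sylow subgroups. -/
structure Near (G : Type*) [Group G] : Prop where
  odd : ∀ p : ℕ, p.Prime → p ≠ 2 → ∀ P : Sylow p G, IsCyclic P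
  two : ∀ S : Sylow 2 G, CycTwo ↥(S : Subgroup G)

theorem normal_of_index_dvd_two {T : Type*} [Group T] {C : Subgroup T} (h : C.index ∣ 2) : C.Normal := by
  rcases (Nat.dvd_prime Nat.prime_two).1 h with h | h
  · rw [index_eq_one.1 h]; infer_instance
  · exact normal_of_index_eq_two h

theorem CycTwo.of_injective {T H : Type*} [Group T] [Group H] [Finite T] (h : CycTwo T) (f : H →* T)
    (hf : Function.Injective f) : CycTwo H := by
  obtain ⟨C, hC, hi⟩ := h
  haveI := hC
  haveI := normal_of_index_dvd_two hi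
  refine ⟨C.comap f, isCyclic_of_injective ((f.domRestrict (C.comap f)).codRestrict C fun x => x.2)
    (fun a b e => Subtype.ext (hf (congrArg Subtype.val e))), ?_⟩
  rw [index_comap]
  exact (relIndex_dvd_index_of_normal C f.range).trans hi

theorem CycTwo.of_surjective {T H : Type*} [Group T] [Group H] (h : CycTwo T) (f : T →* H)
    (hf : Function.Surjective f) : CycTwo H := by
  obtain ⟨C, hC, hi⟩ := h
  haveI := hC
  exact ⟨C.map f, isCyclic_of_surjective _ (f.subgroupMap_surjective C), (index_map_dvd C hf).trans hi⟩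

variable {G : Type*} [Group G] [Finite G]

theorem exists_inj_sylow {H : Type*} [Group H] (φ : H →* G) (hφ : Function.Injective φ) {p : ℕ}
    [Fact p.Prime] (P : Sylow p H) :
    ∃ Q : Sylow p G, ∃ g : ↥(P : Subgroup H) →* ↥(Q : Subgroup G), Function.Injective g := by
  obtain ⟨Q, hQ⟩ := (P.2.map φ).exists_le_sylow
  exact ⟨Q, (φ.domRestrict (P : Subgroup H)).codRestrict (Q : Subgroup G) fun x => hQ (mem_map_of_mem φ x.2),
    fun a b e => Subtype.ext (hφ (congrArg Subtype.val e))⟩

theorem Near.of_injective (h : Near G) {H : Type*} [Group H] (φ : H →* G) (hφ : Function.Injective φ) :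
    Near H := by
  refine ⟨fun p hp hp2 P => ?_, fun P => ?_⟩
  · haveI := Fact.mk hp
    obtain ⟨Q, g, hg⟩ := exists_inj_sylow φ hφ P
    haveI := h.odd p hp hp2 Q
    exact isCyclic_of_injective g hg
  · obtain ⟨Q, g, hg⟩ := exists_inj_sylow φ hφ P
    exact (h.two Q).of_injective g hg

theorem Near.subgroup (h : Near G) (H : Subgroup G) : Near H :=
  h.of_injective H.subtype H.subtype_injective

theorem Near.of_surjective (h : Near G) {H : Type*} [Group H] [Finite H] (f : G →* H)
    (hf : Function.Surjective f) : Near H := by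
  have key : ∀ (p : ℕ) [Fact p.Prime] (P : Sylow p H),
      ∃ Q : Sylow p G, ∃ g : ↥(Q : Subgroup G) →* ↥(P : Subgroup H), Function.Surjective g := by
    intro p _ P
    obtain ⟨Q, rfl⟩ := Sylow.mapSurjective_surjective hf p P
    exact ⟨Q, f.subgroupMap Q, f.subgroupMap_surjective Q⟩
  refine ⟨fun p hp hp2 P => ?_, fun P => ?_⟩
  · haveI := Fact.mk hp
    obtain ⟨Q, g, hg⟩ := key p P
    haveI := h.odd p hp hp2 Q
    exact isCyclic_of_surjective g hg
  · obtain ⟨Q, g, hg⟩ := key 2 P
    exact (h.two Q).of_surjective g hg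

/-- Commuting elements of the same odd prime order generate the same subgroup. -/
theorem Near.mem_zpowers (h : Near G) {p : ℕ} [hp : Fact p.Prime] (hp2 : p ≠ 2) {a b : G}
    (ha : orderOf a = p) (hb : b ^ p = 1) (hab : a * b = b * a) : b ∈ zpowers a := by
  set K := closure ({a, b} : Set G) with hK
  haveI : IsMulCommutative K := isMulCommutative_closure (by
    rintro u (rfl | rfl) v (rfl | rfl)
    exacts [rfl, hab, hab.symm, rfl])
  have hKp : ∀ x ∈ K, x ^ p = 1 := by
    intro x hx
    induction hx using closure_induction with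
    | mem x hx => rcases hx with rfl | rfl; exacts [ha ▸ pow_orderOf_eq_one _, hb]
    | one => exact one_pow p
    | mul x y hx hy ihx ihy =>
      have hxy : Commute x y := congrArg Subtype.val
        ((inferInstance : IsMulCommutative K).is_comm.comm ⟨x, hx⟩ ⟨y, hy⟩)
      rw [hxy.mul_pow, ihx, ihy, one_mul]
    | inv x _ ih => rw [inv_pow, ih, inv_one]
  have hKP : IsPGroup p K := fun x => ⟨1, Subtype.ext (by rw [pow_one]; exact hKp x x.2)⟩
  obtain ⟨Q, hQ⟩ := hKP.exists_le_sylow
  haveI := h.odd p hp.out hp2 Q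
  haveI : IsCyclic K := isCyclic_of_injective _ (inclusion_injective hQ)
  have hle : Nat.card K ∣ p := by
    rw [← IsCyclic.exponent_eq_card]
    exact Monoid.exponent_dvd_of_forall_pow_eq_one fun x => Subtype.ext (hKp x x.2)
  have hz : zpowers a ≤ K := zpowers_le.2 (subset_closure (by simp))
  rw [eq_of_le_of_card_ge hz (by rw [Nat.card_zpowers, ha]; exact Nat.le_of_dvd hp.out.pos hle)]
  exact subset_closure (by simp)

/-- There are no three independent commuting involutions. -/
theorem Near.no_three (h : Near G) {e f c : G} (he : e * e = 1) (hf : f * f = 1) (hc : c * c = 1)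
    (he1 : e ≠ 1) (hf1 : f ≠ 1) (hef : e ≠ f) (hce : c ≠ e) (hcf : c ≠ f) (hcef : c ≠ e * f) (hc1 : c ≠ 1)
    (h1 : e * f = f * e) (h2 : e * c = c * e) (h3 : f * c = c * f) : False := by
  haveI : Fact (Nat.Prime 2) := ⟨Nat.prime_two⟩
  set K := closure ({e, f, c} : Set G) with hK
  haveI : IsMulCommutative K := isMulCommutative_closure (by
    rintro u (rfl | rfl | rfl) v (rfl | rfl | rfl) <;> first | rfl | assumption | exact Eq.symm ‹_›)
  have hK2 : ∀ x ∈ K, x * x = 1 := by
    intro x hx
    induction hx using closure_induction with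
    | mem x hx => rcases hx with rfl | rfl | rfl <;> assumption
    | one => exact one_mul 1
    | mul x y hx hy ihx ihy =>
      have hxy : x * y = y * x := congrArg Subtype.val
        ((inferInstance : IsMulCommutative K).is_comm.comm ⟨x, hx⟩ ⟨y, hy⟩)
      calc x * y * (x * y) = x * (y * x) * y := by group
        _ = (x * x) * (y * y) := by rw [← hxy]; group
        _ = 1 := by rw [ihx, ihy, one_mul]
    | inv x _ ih => rw [← mul_inv_rev, ih, inv_one]
  have hKP : IsPGroup 2 K := fun x => ⟨1, Subtype.ext (by rw [pow_one, pow_two]; exact hK2 x x.2)⟩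
  obtain ⟨Q, hQ⟩ := hKP.exists_le_sylow
  obtain ⟨C, hC, hCi⟩ := (h.two Q).of_injective (inclusion hQ) (inclusion_injective hQ)
  haveI := hC
  haveI := normal_of_index_dvd_two hCi
  -- the cyclic subgroup contains exactly one involution
  have huniq : ∀ x ∈ C, ∀ y ∈ C, x ≠ 1 → y ≠ 1 → x = y := by
    intro x hx y hy hx1 hy1
    obtain ⟨g, hg⟩ := IsCyclic.exists_generator (α := C)
    have key : ∀ z : C, z = 1 ∨ z = g := fun z => by
      obtain ⟨i, rfl⟩ := mem_zpowers_iff.1 (hg z)
      have hg2 : g * g = 1 := Subtype.ext (Subtype.ext (hK2 _ g.1.2))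
      rcases Int.even_or_odd i with ⟨j, rfl⟩ | ⟨j, rfl⟩
      · left; rw [← two_mul, zpow_mul, zpow_two, hg2, one_zpow]
      · right; rw [zpow_add_one, zpow_mul, zpow_two, hg2, one_zpow, one_mul]
    rcases key ⟨x, hx⟩ with e' | e'
    · exact absurd (congrArg Subtype.val e') hx1
    rcases key ⟨y, hy⟩ with e'' | e''
    · exact absurd (congrArg Subtype.val e'') hy1
    exact congrArg Subtype.val (e'.trans e''.symm)
  have hpair : ∀ x y : K, x ∈ C ∨ y ∈ C ∨ x * y ∈ C := fun x y => by
    rcases (Nat.dvd_prime Nat.prime_two).1 hCi with h' | h'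
    · exact Or.inl (by rw [index_eq_one.1 h']; exact mem_top _)
    · by_cases hx : x ∈ C
      · exact Or.inl hx
      by_cases hy : y ∈ C
      · exact Or.inr (Or.inl hy)
      exact Or.inr (Or.inr ((mul_mem_iff_of_index_two h').2 (iff_of_false hx hy)))
  let E : K := ⟨e, subset_closure (by simp)⟩
  let F : K := ⟨f, subset_closure (by simp)⟩
  let D : K := ⟨c, subset_closure (by simp)⟩
  have ne : ∀ {x y : K}, (x : G) ≠ y → x ≠ y := fun h e => h (congrArg Subtype.val e)
  have hE : E ≠ 1 := ne he1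
  have hF : F ≠ 1 := ne hf1
  have hD : D ≠ 1 := ne hc1
  have cancel : ∀ {x y : G}, x * x = 1 → x * y = 1 → y = x := fun hx hxy =>
    mul_left_cancel (hxy.trans hx.symm)
  have hEF : E * F ≠ 1 := ne fun e' => hef (cancel he e').symm
  have hED : E * D ≠ 1 := ne fun e' => hce (cancel he e')
  have hFD : F * D ≠ 1 := ne fun e' => hcf (cancel hf e')
  have hEFD : E * F * D ≠ 1 := ne fun e' => hcef
    (cancel (hK2 _ (E * F).2) e')
  have hEF' : e ≠ e * f := fun e' => hf1 (mul_left_cancel (e'.symm.trans (mul_one e).symm))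
  have hFF' : f ≠ e * f := fun e' => he1 (mul_right_cancel (e'.symm.trans (one_mul f).symm))
  rcases hpair E F with i | i | i <;> rcases hpair E D with j | j | j <;> rcases hpair F D with l | l | l
  all_goals
    have w1 := congrArg Subtype.val (huniq _ i _ j (by first | exact hE | exact hF | exact hEF) (by first | exact hE | exact hD | exact hED))
    have w2 := congrArg Subtype.val (huniq _ i _ l (by first | exact hE | exact hF | exact hEF) (by first | exact hF | exact hD | exact hFD))
    simp only [Subgroup.coe_mul, E, F, D] at w1 w2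
  all_goals grind

/-! ## Simple groups -/

/-- Squaring on a commutative group. -/
def sqHom {T : Type*} [Group T] (hab : ∀ x y : T, x * y = y * x) : T →* T :=
  MonoidHom.mk' (fun x => x ^ 2) fun x y => (Commute.mul_pow (hab x y) 2)

section Simple

variable [IsSimpleGroup G] (hnc : ¬ ∀ a b : G, a * b = b * a)
include hnc

theorem center_eq_bot : center G = ⊥ :=
  (Normal.eq_bot_or_eq_top (inferInstance : (center G).Normal)).resolve_right fun h =>
    hnc fun a b => (mem_center_iff.1 (h ▸ mem_top a) b).symm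

theorem not_solvable : ¬ Group.IsSolvable G := fun h =>
  hnc fun a b => by
    haveI := h
    exact IsSimpleGroup.comm_iff_isSolvable.2 h a b

theorem sylow_two_not_central (T : Sylow 2 G) :
    ¬ normalizer ((T : Subgroup G) : Set G) ≤ centralizer ((T : Subgroup G) : Set G) := fun h =>
  not_solvable hnc (FrobeniusSystem.isSolvable_of_sylow_two_central T h)

theorem even_card : 2 ∣ Nat.card G := by
  by_contra h
  exact not_solvable hnc (Cfsg.Agent.S0205.result (Nat.not_even_iff_odd.1 fun e => h e.two_dvd))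

theorem sylow_two_not_cyclic (T : Sylow 2 G) : ¬ IsCyclic (T : Subgroup G) := by
  intro h
  haveI : Fact (Nat.Prime 2) := ⟨Nat.prime_two⟩
  exact sylow_two_not_central hnc T
    (h.normalizer_le_centralizer (((Nat.minFac_eq_two_iff _).2 (even_card hnc))))

/-- An abelian Sylow 2-subgroup is a four-group. -/
theorem card_abelian_sylow (T : Sylow 2 G) (hab : ∀ x y : ↥(T : Subgroup G), x * y = y * x)
    {C : Subgroup ↥(T : Subgroup G)} (hC : IsCyclic C) (hCi : C.index = 2) :
    Nat.card ↥(T : Subgroup G) = 4 := by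
  haveI : Fact (Nat.Prime 2) := ⟨Nat.prime_two⟩
  haveI := hC
  obtain ⟨a, rfl⟩ := (Subgroup.isCyclic_iff_exists_zpowers_eq_top C).1 hC
  obtain ⟨m, hm⟩ := IsPGroup.iff_orderOf.1 T.2 a
  have hcard : Nat.card ↥(T : Subgroup G) = 2 ^ (m + 1) := by
    rw [← (zpowers a).card_mul_index, Nat.card_zpowers, hm, hCi, pow_succ]
  rcases m with _ | _ | m
  · exfalso
    exact sylow_two_not_cyclic hnc T (isCyclic_of_prime_card (p := 2) (by rw [hcard]; norm_num))
  · rw [hcard]; norm_num
  exfalso
  -- the automorphism group is a 2-group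
  haveI : (zpowers a).Normal := normal_of_index_eq_two hCi
  have hsq : ∀ x : ↥(T : Subgroup G), x ^ 2 ∈ zpowers a := fun x => by
    have := (zpowers a).pow_index_mem x; rwa [hCi] at this
  set z := a ^ 2 ^ (m + 1) with hz
  have hinv : ∀ x ∈ zpowers a, x * x = 1 → x = 1 ∨ x = z := by
    intro x hx hxx
    obtain ⟨i, rfl⟩ := mem_zpowers_iff.1 hx
    rw [← zpow_add, ← two_mul, ← orderOf_dvd_iff_zpow_eq_one, hm, show m + 1 + 1 = (m + 1) + 1 from rfl,
      pow_succ', Nat.cast_mul, Nat.cast_ofNat, Int.mul_dvd_mul_iff_left (by norm_num)] at hxx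
    obtain ⟨j, rfl⟩ := hxx
    rw [zpow_mul, zpow_natCast, ← hz]
    have hz2 : z * z = 1 := by rw [hz, ← pow_two, ← pow_mul, ← pow_succ, ← hm, pow_orderOf_eq_one]
    rcases Int.even_or_odd j with ⟨k, rfl⟩ | ⟨k, rfl⟩
    · left; rw [← two_mul, zpow_mul, zpow_two, hz2, one_zpow]
    · right; rw [zpow_add_one, zpow_mul, zpow_two, hz2, one_zpow, one_mul]
  have hAut : IsPGroup 2 (MulAut ↥(T : Subgroup G)) := by
    intro φ
    -- squares lie in the cyclic group generated by `a²`, whose automorphisms form a 2-group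
    set Φ := (sqHom hab).range with hΦ
    haveI : IsCyclic Φ := by
      have hle : Φ ≤ zpowers a := by rintro _ ⟨x, rfl⟩; exact hsq x
      exact isCyclic_of_injective _ (inclusion_injective hle)
    have hΦm : ∀ (ψ : MulAut ↥(T : Subgroup G)), ∀ x ∈ Φ, ψ x ∈ Φ := by
      rintro ψ _ ⟨x, rfl⟩; exact ⟨ψ x, (map_pow ψ x 2).symm⟩
    let r : MulAut ↥(T : Subgroup G) →* MulAut Φ := MonoidHom.mk' (fun ψ =>
      { toFun := fun h => ⟨ψ h, hΦm ψ h h.2⟩
        invFun := fun h => ⟨ψ.symm h, hΦm ψ⁻¹ h h.2⟩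
        left_inv := fun h => Subtype.ext (ψ.symm_apply_apply _)
        right_inv := fun h => Subtype.ext (ψ.apply_symm_apply _)
        map_mul' := fun a b => Subtype.ext (map_mul ψ _ _) }) (fun _ _ => MulEquiv.ext fun _ => rfl)
    obtain ⟨j, hj⟩ := InvChar.Solvable.isPGroup_mulAut_of_isCyclic (T.2.to_subgroup Φ) (r φ)
    rw [← map_pow] at hj
    set ψ := φ ^ 2 ^ j with hψ
    have hfix : ∀ x, ψ (x ^ 2) = x ^ 2 := fun x =>
      congrArg Subtype.val (DFunLike.congr_fun hj (⟨x ^ 2, x, rfl⟩ : Φ))
    have hψz : ψ z = z := by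
      rw [hz, pow_succ, pow_mul]; exact hfix _
    refine ⟨j + 2, ?_⟩
    rw [pow_add, pow_mul, ← hψ]
    ext x : 1
    rw [MulAut.one_apply, show (2 : ℕ) ^ 2 = 2 * 2 from rfl, pow_mul, pow_two, pow_two, MulAut.mul_apply]
    -- `ψ` moves `x` by an involution `v`, and `v` by `1` or `z`
    have move : ∀ y, ∃ v, v * v = 1 ∧ ψ y = y * v := fun y => by
      refine ⟨y⁻¹ * ψ y, ?_, (mul_inv_cancel_left _ _).symm⟩
      calc y⁻¹ * ψ y * (y⁻¹ * ψ y) = (y ^ 2)⁻¹ * ψ y ^ 2 := by
            rw [pow_two, pow_two, mul_inv_rev, mul_assoc y⁻¹, ← mul_assoc (ψ y), hab (ψ y) y⁻¹]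
            simp only [mul_assoc]
        _ = 1 := by rw [← map_pow, hfix, inv_mul_cancel]
    obtain ⟨v, hv, hxv⟩ := move x
    obtain ⟨w, hw, hvw⟩ := move v
    have hwC : w ∈ zpowers a := by
      by_cases hvC : v ∈ zpowers a
      · have : w = 1 := by
          rcases hinv v hvC hv with rfl | rfl
          · rwa [map_one, one_mul, eq_comm] at hvw
          · rwa [hψz, eq_comm, mul_eq_left] at hvw
        rw [this]; exact one_mem _
      · have hψv : ψ v ∉ zpowers a := by
          intro hc
          refine hvC ?_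
          have h2 : ψ v * ψ v = 1 := by rw [← map_mul, hv, map_one]
          rcases hinv _ hc h2 with e | e
          · rw [ψ.injective (e.trans (map_one ψ).symm)]; exact one_mem _
          · rw [ψ.injective (e.trans hψz.symm), hz]; exact pow_mem (mem_zpowers a) _
        rw [hvw] at hψv
        by_contra hw'
        exact hψv ((mul_mem_iff_of_index_two hCi).2 (iff_of_false hvC hw'))
    have hψw : ψ w = w := by rcases hinv w hwC hw with rfl | rfl; exacts [map_one ψ, hψz]
    have lc : ∀ p q t : ↥(T : Subgroup G), p * (q * t) = q * (p * t) := fun p q t => by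
      rw [← mul_assoc, hab p q, mul_assoc]
    have cv : ∀ t, v * (v * t) = t := fun t => by rw [← mul_assoc, hv, one_mul]
    simp only [MulAut.mul_apply, hxv, map_mul, hvw, hψw, mul_assoc]
    simp [lc, hab, cv, hv, hw]
  refine sylow_two_not_central hnc T fun n hn => ?_
  set N := normalizer ((T : Subgroup G) : Set G)
  set r := (T : Subgroup G).normalizerMonoidHom with hr
  have hker : ((T.subtype le_normalizer : Sylow 2 N) : Subgroup N) ≤ r.ker := fun x hx =>
    MonoidHom.mem_ker.2 (MulEquiv.ext fun y => Subtype.ext (by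
      show (x : G) * y * (x : G)⁻¹ = y
      rw [show (x : G) * y = y * x from congrArg Subtype.val (hab ⟨x, hx⟩ y), mul_inv_cancel_right]))
  have hrange : Nat.card r.range = 1 := by
    obtain ⟨i, hi⟩ := IsPGroup.iff_card.1 (hAut.to_subgroup r.range)
    rcases i with _ | i
    · simpa using hi
    exfalso
    have h2 : 2 ∣ r.ker.index := by rw [index_ker, hi]; exact dvd_pow_self 2 i.succ_ne_zero
    exact (T.subtype le_normalizer).not_dvd_index (h2.trans (index_dvd_of_le hker))
  have h1 : r ⟨n, hn⟩ = 1 := mem_bot.1 (card_eq_one.1 hrange ▸ (⟨_, rfl⟩ : r ⟨n, hn⟩ ∈ r.range))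
  refine mem_centralizer_iff.2 fun t ht => ?_
  have h2 := congrArg Subtype.val (DFunLike.congr_fun h1 ⟨t, ht⟩)
  exact (mul_inv_eq_iff_eq_mul.1 h2).symm

/-- The shape of a Sylow 2-subgroup. -/
theorem sylow_two_cases (h : Near G) (T : Sylow 2 G) :
    (∃ n, 2 ≤ n ∧ Nonempty (↥(T : Subgroup G) ≃* DihedralGroup n)) ∨
      Cfsg.IsQuasiDihedral (T : Subgroup G) := by
  haveI : Fact (Nat.Prime 2) := ⟨Nat.prime_two⟩
  set S : Subgroup G := (T : Subgroup G) with hSdef
  obtain ⟨C, hC, hCi'⟩ := h.two T
  haveI := hC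
  have hCi : C.index = 2 := ((Nat.dvd_prime Nat.prime_two).1 hCi').resolve_left fun h1 =>
    sylow_two_not_cyclic hnc T (isCyclic_of_surjective C.subtype fun x =>
      ⟨⟨x, by rw [index_eq_one.1 h1]; exact mem_top x⟩, rfl⟩)
  by_cases hab : ∀ x y : S, x * y = y * x
  · have h4 := card_abelian_sylow hnc T hab hC hCi
    haveI : IsKleinFour S := ⟨h4, by
      have hd : Monoid.exponent S ∣ 4 := h4 ▸ Group.exponent_dvd_nat_card
      rcases (Nat.dvd_prime_pow Nat.prime_two (m := 2)).1 hd with ⟨i, hi, e⟩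
      interval_cases i
      · exfalso
        have hone : ∀ x : S, x = 1 := fun x => by simpa [e] using Monoid.pow_exponent_eq_one x
        haveI : Subsingleton S := ⟨fun x y => (hone x).trans (hone y).symm⟩
        exact sylow_two_not_cyclic hnc T inferInstance
      · simpa using e
      · exfalso
        refine sylow_two_not_cyclic hnc T ?_
        refine (@IsCyclic.iff_exponent_eq_card S { (inferInstance : Group S) with mul_comm := hab } _).2 ?_
        rw [e, h4]; rfl⟩
    exact Or.inl ⟨2, le_rfl, IsKleinFour.nonempty_mulEquiv⟩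
  push Not at hab
  obtain ⟨k, hk⟩ := IsPGroup.iff_card.1 T.2
  have hk3 : 3 ≤ k := by
    by_contra hlt
    obtain ⟨x, y, hxy⟩ := hab
    interval_cases k
    · haveI : Subsingleton S := (Nat.card_eq_one_iff_unique.1 hk).1
      exact hxy (Subsingleton.elim _ _)
    · haveI : IsCyclic S := isCyclic_of_prime_card (p := 2) (by rw [hk, pow_one])
      exact hxy (IsCyclic.commGroup.mul_comm x y)
    · exact hxy ((IsPGroup.isMulCommutative_of_card_eq_prime_sq hk).is_comm.comm x y)
  obtain ⟨a, b, r, s, rfl, hoa, hb, hrlt, hr, hs, hr1, hr2, hseven⟩ :=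
    PGroups.CyclicMaximal.setup k hk3 hk C hC hCi hab
  obtain ⟨m, rfl⟩ : ∃ m, k = m + 3 := ⟨k - 3, by omega⟩
  rw [show m + 3 - 1 = m + 2 by omega] at hoa hrlt hr2
  have hrodd : Odd r := by
    rcases Nat.even_or_odd r with he | ho
    · exfalso
      obtain ⟨c, rfl⟩ := he
      have h2 := hr2.of_dvd (dvd_pow_self 2 (by omega) : 2 ∣ 2 ^ (m + 2))
      rw [Nat.ModEq, show (c + c) ^ 2 = 2 * (2 * c * c) by ring, Nat.mul_mod_right] at h2
      norm_num at h2
    · exact ho
  rcases (show r % 4 = 3 ∨ r % 4 = 1 by obtain ⟨c, rfl⟩ := hrodd; omega) with h4 | h4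
  · -- a non-abelian subgroup of order eight
    set a' := a ^ 2 ^ m with ha'
    have ho' : orderOf a' = 4 := by
      rw [ha', orderOf_pow_of_dvd (by positivity) (by rw [hoa]; exact pow_dvd_pow 2 (by omega)), hoa, pow_add,
        Nat.mul_div_cancel_left _ (by positivity)]
      norm_num
    have hba' : b * a' * b⁻¹ = a'⁻¹ := by
      rw [ha', ← conj_pow, hr, ← pow_mul, mul_comm r, pow_mul, ← ha', eq_inv_iff_mul_eq_one, ← pow_succ,
        ← orderOf_dvd_iff_pow_eq_one, ho']
      omega
    have hb2 : b ^ 2 ∈ zpowers a' := by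
      have hfix : a ^ (r * s) = a ^ s := by
        rw [pow_mul, ← hr, conj_pow, ← hs]; group
      rw [pow_eq_pow_iff_modEq, hoa] at hfix
      obtain ⟨c, hc⟩ : ∃ c, r = 2 * (2 * c + 1) + 1 := ⟨r / 4, by omega⟩
      have hd : 2 ^ (m + 1) ∣ (2 * c + 1) * s := by
        have h' := (Nat.modEq_iff_dvd' (Nat.le_mul_of_pos_left s hrodd.pos)).1 hfix.symm
        rw [hc, Nat.add_mul, one_mul, Nat.add_sub_cancel, pow_succ', mul_assoc] at h'
        exact Nat.dvd_of_mul_dvd_mul_left two_pos h'
      obtain ⟨w, rfl⟩ := (Nat.Coprime.pow_left (m + 1)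
        ((Nat.prime_two.coprime_iff_not_dvd).2 (by omega))).dvd_of_dvd_mul_left hd
      rw [hs, pow_succ, mul_assoc, pow_mul, ← ha']
      exact pow_mem (mem_zpowers a') _
    haveI : (zpowers a').Normal := ⟨fun x hx g => by
      obtain ⟨i, rfl⟩ := mem_zpowers_iff.1 hx
      rw [← conj_zpow]
      refine zpow_mem ?_ i
      have hA : ∀ g ∈ zpowers a, g * a' * g⁻¹ = a' := fun g hg => by
        obtain ⟨j, rfl⟩ := mem_zpowers_iff.1 hg
        rw [ha', ← zpow_natCast a, ← zpow_add, ← zpow_neg, ← zpow_add]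
        congr 1; ring
      by_cases hg : g ∈ zpowers a
      · rw [hA g hg]; exact mem_zpowers a'
      · have hgb : g * b⁻¹ ∈ zpowers a :=
          (mul_mem_iff_of_index_two hCi).2 (iff_of_false hg fun e => hb (by simpa using inv_mem e))
        rw [show g * a' * g⁻¹ = (g * b⁻¹) * (b * a' * b⁻¹) * (g * b⁻¹)⁻¹ by group, hba']
        rw [show (g * b⁻¹) * a'⁻¹ * (g * b⁻¹)⁻¹ = ((g * b⁻¹) * a' * (g * b⁻¹)⁻¹)⁻¹ by group, hA _ hgb]
        exact inv_mem (mem_zpowers a')⟩
    set H : Subgroup S := (zpowers ((b : S) : S ⧸ zpowers a')).comap (QuotientGroup.mk' (zpowers a')) with hH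
    have hHc : Nat.card H = 8 := by
      have hob : orderOf ((b : S) : S ⧸ zpowers a') = 2 := by
        refine orderOf_eq_prime ?_ fun e => hb ?_
        · rw [← QuotientGroup.mk_pow]; exact (QuotientGroup.eq_one_iff _).2 hb2
        · have : b ∈ zpowers a' := (QuotientGroup.eq_one_iff _).1 e
          exact zpowers_le.2 (pow_mem (mem_zpowers a) _) this
      have h1 := card_mul_index H
      have h2 := card_mul_index (zpowers ((b : S) : S ⧸ zpowers a'))
      have h3 := card_eq_card_quotient_mul_card_subgroup (zpowers a')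
      rw [hH, index_comap_of_surjective _ (QuotientGroup.mk'_surjective _)] at h1
      rw [Nat.card_zpowers, hob] at h2
      rw [Nat.card_zpowers, ho', ← h2] at h3
      rw [hH]
      refine Nat.eq_of_mul_eq_mul_right (Nat.pos_of_ne_zero FiniteIndex.index_ne_zero) (h1.trans ?_)
      rw [h3]; ring
    have haH : a' ∈ H := by
      rw [hH, mem_comap, QuotientGroup.mk'_apply, (QuotientGroup.eq_one_iff _).2 (mem_zpowers a')]; exact one_mem _
    have hbH : b ∈ H := mem_zpowers _
    haveI : (zpowers a).Normal := normal_of_index_eq_two hCi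
    haveI : IsCyclic (S ⧸ zpowers a) := isCyclic_of_prime_card (p := 2) hCi
    have hQ := GroupStructure3.RankTwoDihedral.classify T.2 (zpowers a) H hHc
      ⟨⟨a', haH⟩, ⟨b, hbH⟩, fun e => by
        have e' : a' * b = b * a' := congrArg Subtype.val e
        rw [← e', mul_inv_cancel_right, eq_inv_iff_mul_eq_one, ← pow_two] at hba'
        have := orderOf_dvd_of_pow_eq_one hba'
        rw [ho'] at this
        norm_num at this⟩
    rcases hQ with ⟨j, ⟨e⟩⟩ | ⟨j, hj, x, y, hx, hy, hxy⟩ | ⟨j, ⟨e⟩⟩
    · exact Or.inl ⟨2 ^ (j + 2), le_trans (by norm_num) (Nat.pow_le_pow_right two_pos (le_add_left le_rfl)), ⟨e⟩⟩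
    · exact Or.inr ⟨j + 3, le_add_left le_rfl, hj, x, y, hx, hy, hxy⟩
    · exfalso
      have := Cfsg.Agent.S0201.result T j e fun N hN hodd =>
        (Normal.eq_bot_or_eq_top hN).resolve_right fun e' => by
          subst e'
          rw [card_top] at hodd
          exact Nat.not_even_iff_odd.2 hodd (even_iff_two_dvd.2 (even_card hnc))
      rw [center_eq_bot hnc, card_bot] at this
      norm_num at this
  · -- the modular group
    exfalso
    obtain ⟨c, hc⟩ : ∃ c, r = 4 * c + 1 := ⟨r / 4, by omega⟩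
    have hc0 : c ≠ 0 := fun e => hr1 (by rw [hc, e])
    obtain ⟨l, rfl⟩ : ∃ l, m = l + 1 := ⟨m - 1, by
      have : 2 ^ 2 < 2 ^ (m + 2) := lt_of_le_of_lt (by omega) hrlt
      have := (Nat.pow_lt_pow_iff_right (by norm_num)).1 this
      omega⟩
    have hcl : c = 2 ^ l := by
      have hd := (Nat.modEq_iff_dvd' (Nat.one_le_pow _ _ hrodd.pos)).1 hr2.symm
      rw [show r ^ 2 - 1 = 2 ^ 3 * (c * (2 * c + 1)) by
          rw [hc, show (4 * c + 1) ^ 2 = 2 ^ 3 * (c * (2 * c + 1)) + 1 by ring, Nat.add_sub_cancel],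
        show l + 1 + 2 = 3 + l by omega, pow_add] at hd
      obtain ⟨w, rfl⟩ := (Nat.Coprime.pow_left l ((Nat.prime_two.coprime_iff_not_dvd).2
        (by omega : ¬ 2 ∣ 2 * c + 1))).dvd_of_dvd_mul_right (Nat.dvd_of_mul_dvd_mul_left (by norm_num) hd)
      have hlt : 2 ^ l * w < 2 ^ l * 2 := by
        rw [hc, show l + 1 + 2 = l + 1 + 2 from rfl, pow_add, pow_succ] at hrlt
        omega
      have := Nat.lt_of_mul_lt_mul_left hlt
      rcases w with _ | _ | w
      · simp at hc0
      · simp
      · omega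
    obtain ⟨s', rfl⟩ := hseven
    set i := s' * (2 ^ (l + 1) - 1) with hi
    set b' := b * a ^ i with hb'
    have hb'2 : b' * b' = 1 := by
      have e1 : b' * b' = (b * a ^ i * b⁻¹) * b ^ 2 * a ^ i := by rw [hb']; group
      rw [e1, ← conj_pow, hr, hs, ← pow_mul, ← pow_add, ← pow_add, ← orderOf_dvd_iff_pow_eq_one, hoa, hc, hcl]
      obtain ⟨t, ht⟩ : ∃ t, 2 ^ (l + 1) = t + 1 := ⟨2 ^ (l + 1) - 1, (Nat.sub_add_cancel (Nat.one_le_pow _ _ two_pos)).symm⟩
      refine ⟨s' * 2 ^ l, ?_⟩
      have h2 : 2 ^ (l + 1 + 2) = 8 * 2 ^ l := by rw [show l + 1 + 2 = l + 3 by omega, pow_add]; ring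
      rw [h2, hi, ht, Nat.add_sub_cancel]
      rw [pow_succ] at ht
      linear_combination (s' * (4 * 2 ^ l + 2)) * ht.symm
    have hrel : b' * a * b'⁻¹ = a ^ (2 ^ (l + 1 + 2 - 1) + 1) := by
      rw [show b' * a * b'⁻¹ = b * a * b⁻¹ by rw [hb']; group, hr, hc, hcl,
        show l + 1 + 2 - 1 = l + 2 by omega]
      congr 1
      ring
    have hob : orderOf b' = 2 := orderOf_eq_prime (by rw [pow_two, hb'2]) fun e => hb (by
      have : b = (a ^ i)⁻¹ := eq_inv_of_mul_eq_one_left e
      rw [this]; exact inv_mem (pow_mem (mem_zpowers a) _))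
    obtain ⟨P, N, hN, hc'⟩ := Cfsg.Agent.S3178.result T (l + 1 + 2) (by omega)
      (by rw [hk]) (a : G) (b' : G) a.2 b'.2 (by rw [orderOf_coe, hoa]) (by rw [orderOf_coe, hob])
      (by rw [← Subgroup.coe_pow, ← hrel]; rfl)
    rcases Normal.eq_bot_or_eq_top hN with rfl | rfl
    · rw [isComplement'_bot_left] at hc'
      have hP := P.2
      rw [hc'] at hP
      haveI := (hP.of_equiv topEquiv).isNilpotent
      exact not_solvable hnc inferInstance
    · rw [isComplement'_top_left] at hc'
      have hh := P.2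
      have h2 := (Sylow.dvd_card_of_dvd_card P (even_card hnc))
      rw [hc', card_bot] at h2
      norm_num at h2

end Simple

/-- A simple group with cyclic odd Sylow subgroups and nearly cyclic Sylow 2-subgroups is `PSL(2,p)`. -/
theorem psl_of_simple.{v} {G : Type v} [Group G] [Finite G] [IsSimpleGroup G] (hF : NoSimpleCycSD.{v})
    (hnc : ¬ ∀ a b : G, a * b = b * a) (h : Near G) :
    ∃ (p : ℕ) (_ : Fact p.Prime), 5 ≤ p ∧
      Nonempty (G ≃* Matrix.ProjectiveSpecialLinearGroup (Fin 2) (ZMod p)) := by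
  haveI : Fact (Nat.Prime 2) := ⟨Nat.prime_two⟩
  obtain ⟨T⟩ : Nonempty (Sylow 2 G) := inferInstance
  obtain ⟨n, hn, hD⟩ := (sylow_two_cases hnc h T).resolve_right fun hq => hF G inferInstance T hq h.odd
  haveI : Group.IsPerfect G := ⟨(Normal.eq_bot_or_eq_top (inferInstance : (commutator G).Normal)).resolve_left
    fun e => hnc fun a b => commutatorElement_eq_one_iff_mul_comm.1 (by
      rw [← mem_bot, ← e, commutator_def]; exact commutator_mem_commutator (mem_top a) (mem_top b))⟩
  have hO : Cfsg.oddCore G = ⊥ := (Normal.eq_bot_or_eq_top (inferInstance : (Cfsg.oddCore G).Normal)).resolve_right fun e => by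
    have := Cores.oddCore_odd (G := G)
    rw [e, card_top] at this
    exact Nat.not_even_iff_odd.2 this (even_iff_two_dvd.2 (even_card hnc))
  have eQ : G ≃* G ⧸ Cfsg.oddCore G := ((QuotientGroup.quotientMulEquivOfEq hO).trans QuotientGroup.quotientBot).symm
  rcases Cfsg.Agent.S0483.result T n hn hD with ⟨F, iF, iF', hodd, h3, ⟨e⟩⟩ | hA
  · obtain ⟨p, f, hp, hf, hq⟩ : ∃ p f : ℕ, p.Prime ∧ 0 < f ∧ Fintype.card F = p ^ f := by
      obtain ⟨f, hp, hq⟩ := FiniteField.card F (ringChar F)
      exact ⟨_, f, hp, f.2, hq⟩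
    haveI := Fact.mk hp
    set ψ := eQ.trans e with hψ
    have hnear : Near (Matrix.ProjectiveSpecialLinearGroup (Fin 2) F) :=
      h.of_surjective ψ.toMonoidHom ψ.surjective
    have hp2 : p ≠ 2 := fun e2 => by
      rw [hq, e2] at hodd
      exact Nat.not_even_iff_odd.2 hodd ((Nat.even_pow' hf.ne').2 even_two)
    have hf1 : f = 1 := by
      haveI : CharP F p := charP_of_card_eq_prime_pow hq
      set u : F → Matrix.ProjectiveSpecialLinearGroup (Fin 2) F := fun c =>
        QuotientGroup.mk (Matrix.SpecialLinearGroup.transvection (zero_ne_one' (Fin 2)) c) with hu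
      have hadd : ∀ c d, u (c + d) = u c * u d := fun c d => by
        simp only [hu, ← QuotientGroup.mk_mul]
        congr 1
        ext i j
        fin_cases i <;> fin_cases j <;>
          simp [Matrix.SpecialLinearGroup.transvection_coe, Matrix.mul_apply, Fin.sum_univ_two, add_comm]
      have hinj : ∀ c d, u c = u d → c = d := fun c d e => by
        obtain ⟨w, hw⟩ := (AutPSL.Basic.mk_eq_mk_iff _ _).1 e
        have h00 := congrFun (congrFun hw 0) 0
        have h01 := congrFun (congrFun hw 0) 1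
        simp [Matrix.SpecialLinearGroup.transvection_coe] at h00 h01
        rw [h01, ← h00, one_mul]
      have h0 : u 0 = 1 := by
        have := hadd 0 0
        rwa [add_zero, left_eq_mul] at this
      have hpow : ∀ (c : F) (i : ℕ), u c ^ i = u (i • c) := fun c i => by
        induction i with
        | zero => rw [pow_zero, zero_nsmul, h0]
        | succ i ih => rw [pow_succ, ih, succ_nsmul, hadd]
      have hpz : ∀ c, u c ^ p = 1 := fun c => by rw [hpow, nsmul_eq_mul, CharP.cast_eq_zero, zero_mul, h0]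
      have ho : orderOf (u 1) = p := orderOf_eq_prime (hpz 1) fun e => one_ne_zero (hinj 1 0 (e.trans h0.symm))
      have hle : Fintype.card F ≤ p := by
        classical
        have hall : ∀ c : F, ∃ i ∈ Finset.range p, i • (1 : F) = c := fun c => by
          obtain ⟨i, hi, hie⟩ := (Finset.mem_image.1 ((mem_zpowers_iff_mem_range_orderOf).1
            (hnear.mem_zpowers hp2 ho (hpz c) (by rw [← hadd, ← hadd, add_comm]))))
          exact ⟨i, ho ▸ hi, hinj _ _ ((hpow 1 i).symm.trans hie)⟩
        calc Fintype.card F = (Finset.univ : Finset F).card := rfl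
          _ ≤ ((Finset.range p).image fun i : ℕ => i • (1 : F)).card := Finset.card_le_card fun c _ =>
            Finset.mem_image.2 (hall c)
          _ ≤ p := Finset.card_image_le.trans_eq (Finset.card_range p)
      rw [hq] at hle
      by_contra hne
      exact absurd hle (not_le.2 (lt_self_pow₀ hp.one_lt (by omega)))
    rw [hf1, pow_one] at hq
    refine ⟨p, inferInstance, ?_, ⟨ψ.trans (Classical.SmallIso.pslCongr (ZMod.ringEquivOfPrime F hp hq).symm)⟩⟩
    rcases hp.eq_two_or_odd with h2 | h2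
    · exact absurd h2 hp2
    · omega
  · exfalso
    haveI : Fact (Nat.Prime 3) := ⟨Nat.prime_three⟩
    obtain ⟨e⟩ := hA
    have hnear : Near ↥(alternatingGroup (Fin 7)) := h.of_surjective (eQ.trans e).toMonoidHom (eQ.trans e).surjective
    let x : ↥(alternatingGroup (Fin 7)) := ⟨Equiv.swap 0 1 * Equiv.swap 1 2, Equiv.Perm.mem_alternatingGroup.2 (by decide)⟩
    let y : ↥(alternatingGroup (Fin 7)) := ⟨Equiv.swap 3 4 * Equiv.swap 4 5, Equiv.Perm.mem_alternatingGroup.2 (by decide)⟩
    have hx : orderOf x = 3 := orderOf_eq_prime (by decide) (by decide)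
    obtain ⟨i, hi, hie⟩ := Finset.mem_image.1 (mem_zpowers_iff_mem_range_orderOf.1
      (hnear.mem_zpowers (p := 3) (by norm_num) hx (show y ^ 3 = 1 by decide) (by decide)))
    rw [hx, Finset.mem_range] at hi
    interval_cases i <;> revert hie <;> decide

end Cfsg.Agent.CycSD.Outer
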